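import Mathlib
import Groth.Prelude.Def_Coh
import Groth.Prelude.Def_FlatMod2

/-!
# The stalk of the structure module is the stalk of the structure sheaf
(copied from helper16's `Lib/Helper16/StalkTor1.lean`, section 1, to avoid its heavy imports)
-/

set_option autoImplicit false
open CategoryTheory CategoryTheory.Limits AlgebraicGeometry TopologicalSpace Opposite

namespace Groth.Agent.Lib.Helper18.CycUnitStalk

universe u

section

variable (X : Scheme.{u}) (x : X)

noncomputable abbrev F := Coh.structureModule X

/-- the germ of a section of `O_X`, viewed in the stalk of the structure module -/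
noncomputable def gF (U : X.Opens) (hx : x ∈ U) (s : Γ(X, U)) : (F X).presheaf.stalk x :=
  (F X).presheaf.germ U x hx (show (F X).presheaf.obj (op U) from s)

theorem germ_smul_gF (U : X.Opens) (hx : x ∈ U) (r s : Γ(X, U)) :
    X.presheaf.germ U x hx r • gF X x U hx s = gF X x U hx (r * s) :=
  (PresheafOfModules.germ_smul (R := X.presheaf) (F X).val x U hx r
    (show (F X).presheaf.obj (op U) from s)).symm

theorem gF_eq_zero (U : X.Opens) (hx : x ∈ U) (s : Γ(X, U)) (h : gF X x U hx s = 0) :
    X.presheaf.germ U x hx s = 0 := by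
  have h0 : gF X x U hx s = gF X x U hx 0 := by
    rw [h]
    unfold gF
    exact (map_zero _).symm
  obtain ⟨W, hxW, iU, iV, hres⟩ := TopCat.Presheaf.germ_eq (F X).presheaf x hx hx _ _ h0
  have hres' : X.presheaf.map iU.op s = X.presheaf.map iV.op 0 := hres
  rw [← TopCat.Presheaf.germ_res_apply X.presheaf iU x hxW s, hres', map_zero, map_zero]

theorem exists_gF (μ : (F X).presheaf.stalk x) : ∃ (U : X.Opens) (hx : x ∈ U) (s : Γ(X, U)),
    gF X x U hx s = μ := by
  obtain ⟨U, hx, s, hs⟩ := TopCat.Presheaf.exists_germ_eq (F X).presheaf μ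
  exact ⟨U, hx, s, hs⟩

theorem gF_res {U V : X.Opens} (i : U ⟶ V) (hx : x ∈ U) (s : Γ(X, V)) :
    gF X x U hx (X.presheaf.map i.op s) = gF X x V (i.le hx) s :=
  TopCat.Presheaf.germ_res_apply (F X).presheaf i x hx (show (F X).presheaf.obj (op V) from s)

/-- the generator: germ of `1` -/
noncomputable def one : (F X).presheaf.stalk x := gF X x ⊤ trivial 1

theorem smul_one (U : X.Opens) (hx : x ∈ U) (s : Γ(X, U)) :
    X.presheaf.germ U x hx s • one X x = gF X x U hx s := by
  have h1 : one X x = gF X x U hx 1 := by
    unfold one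
    rw [← gF_res X x (homOfLE le_top : U ⟶ ⊤) hx 1, map_one]
  rw [h1, germ_smul_gF, mul_one]

theorem bij : Function.Bijective
    (LinearMap.toSpanSingleton (X.presheaf.stalk x) ((F X).presheaf.stalk x) (one X x)) := by
  constructor
  · rw [← LinearMap.ker_eq_bot, LinearMap.ker_eq_bot']
    intro r hr
    obtain ⟨U, hx, s, rfl⟩ := TopCat.Presheaf.exists_germ_eq X.presheaf r
    rw [LinearMap.toSpanSingleton_apply, smul_one] at hr
    exact gF_eq_zero X x U hx s hr
  · intro μ
    obtain ⟨U, hx, s, rfl⟩ := exists_gF X x μ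
    exact ⟨X.presheaf.germ U x hx s, by rw [LinearMap.toSpanSingleton_apply, smul_one]⟩

/-- the stalk of the structure module is the stalk of the structure sheaf -/
noncomputable def e : X.presheaf.stalk x ≃ₗ[X.presheaf.stalk x] (F X).presheaf.stalk x :=
  LinearEquiv.ofBijective _ (bij X x)

end

end Groth.Agent.Lib.Helper18.CycUnitStalk
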