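import Mathlib
import Groth.Prelude.Def_Coh
import Groth.Agent.Lib.Helper17.StalkExact

/-!
# Stalks of the pushforward of a module along a closed immersion (helper18)

For `i : Z ⟶ X` and `M : Z.Modules`, the canonical map `(i_* M)_{i z} → M_z`; it is semilinear
along `i.stalkMap z`, bijective when `i` is an embedding, and `(i_* M)_x = 0` for `x` outside the
(closed) range of `i`.
-/

set_option autoImplicit false
set_option backward.isDefEq.respectTransparency.types false
universe u
open AlgebraicGeometry CategoryTheory Opposite TopologicalSpace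

namespace Groth.Agent.Lib.Helper18.CycPush

variable {Z X : Scheme.{u}} (i : Z ⟶ X) (M : Z.Modules)

/-- The canonical map `(i_* M)_{i z} → M_z`. -/
noncomputable def pushStalk (z : Z) :
    ((Scheme.Modules.pushforward i).obj M).presheaf.stalk (i z) →+ M.presheaf.stalk z :=
  (TopCat.Presheaf.stalkPushforward Ab.{u} i.base M.presheaf z).hom

theorem pushStalk_germ (z : Z) (U : X.Opens) (hz : i z ∈ U)
    (m : Γ((Scheme.Modules.pushforward i).obj M, U)) :
    pushStalk i M z (((Scheme.Modules.pushforward i).obj M).presheaf.germ U (i z) hz m) =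
      M.presheaf.germ (i ⁻¹ᵁ U) z hz m := by
  have h := TopCat.Presheaf.stalkPushforward_germ Ab.{u} i.base M.presheaf U z hz
  exact congrArg (fun φ => φ.hom m) h

theorem pushStalk_bijective (hi : Topology.IsInducing i) (z : Z) :
    Function.Bijective (pushStalk i M z) := by
  haveI : IsIso (TopCat.Presheaf.stalkPushforward Ab.{u} i.base M.presheaf z) :=
    TopCat.Presheaf.stalkPushforward.stalkPushforward_iso_of_isInducing Ab.{u} hi M.presheaf z
  exact ConcreteCategory.bijective_of_isIso
    (TopCat.Presheaf.stalkPushforward Ab.{u} i.base M.presheaf z)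

theorem pushStalk_smul (z : Z) (a : X.presheaf.stalk (i z))
    (n : ((Scheme.Modules.pushforward i).obj M).presheaf.stalk (i z)) :
    pushStalk i M z (a • n) = (i.stalkMap z).hom a • pushStalk i M z n := by
  obtain ⟨U, hxU, r, rfl⟩ := TopCat.Presheaf.exists_germ_eq X.presheaf a
  obtain ⟨V, hxV, m, rfl⟩ :=
    TopCat.Presheaf.exists_germ_eq ((Scheme.Modules.pushforward i).obj M).presheaf n
  have hW : i z ∈ U ⊓ V := ⟨hxU, hxV⟩
  have h1 : X.presheaf.germ U (i z) hxU r =
      X.presheaf.germ (U ⊓ V) (i z) hW (X.presheaf.map (homOfLE inf_le_left).op r) :=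
    (TopCat.Presheaf.germ_res_apply X.presheaf (homOfLE inf_le_left) (i z) hW r).symm
  have h2 : ((Scheme.Modules.pushforward i).obj M).presheaf.germ V (i z) hxV m =
      ((Scheme.Modules.pushforward i).obj M).presheaf.germ (U ⊓ V) (i z) hW
        (((Scheme.Modules.pushforward i).obj M).presheaf.map (homOfLE inf_le_right).op m) :=
    (TopCat.Presheaf.germ_res_apply ((Scheme.Modules.pushforward i).obj M).presheaf
      (homOfLE inf_le_right) (i z) hW m).symm
  rw [h1, h2]
  set r' := X.presheaf.map (homOfLE (inf_le_left : U ⊓ V ≤ U)).op r with hr'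
  set m' := ((Scheme.Modules.pushforward i).obj M).presheaf.map
    (homOfLE (inf_le_right : U ⊓ V ≤ V)).op m with hm'
  rw [← Groth.Agent.Lib.Helper17.StalkExact.germ_smul', pushStalk_germ, pushStalk_germ]
  have h3 : (i.stalkMap z).hom (X.presheaf.germ (U ⊓ V) (i z) hW r') =
      Z.presheaf.germ (i ⁻¹ᵁ (U ⊓ V)) z hW ((i.app (U ⊓ V)).hom r') := by
    exact Scheme.Hom.germ_stalkMap_apply i (U ⊓ V) z hW r'
  rw [h3, ← Groth.Agent.Lib.Helper17.StalkExact.germ_smul']
  rfl

/-- Outside the closed range of `i` the stalks of `i_* M` vanish. -/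
theorem stalk_subsingleton_of_notMem_range (hi : IsClosed (Set.range i)) (x : X)
    (hx : x ∉ Set.range i) :
    Subsingleton (((Scheme.Modules.pushforward i).obj M).presheaf.stalk x) := by
  refine ⟨fun a b => ?_⟩
  suffices h : ∀ c : ((Scheme.Modules.pushforward i).obj M).presheaf.stalk x, c = 0 by
    rw [h a, h b]
  intro c
  obtain ⟨U, hxU, m, rfl⟩ :=
    TopCat.Presheaf.exists_germ_eq ((Scheme.Modules.pushforward i).obj M).presheaf c
  let W : X.Opens := ⟨(Set.range i)ᶜ, hi.isOpen_compl⟩
  have hxW : x ∈ W := hx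
  have hUW : x ∈ U ⊓ W := ⟨hxU, hxW⟩
  rw [← TopCat.Presheaf.germ_res_apply ((Scheme.Modules.pushforward i).obj M).presheaf
    (homOfLE (inf_le_left : U ⊓ W ≤ U)) x hUW m]
  have hbot : i ⁻¹ᵁ (U ⊓ W) = ⊥ := by
    ext z
    simp only [Opens.coe_bot, Set.mem_empty_iff_false, iff_false]
    intro hz
    exact hz.2 ⟨z, rfl⟩
  have hsub : Subsingleton (Γ((Scheme.Modules.pushforward i).obj M, U ⊓ W)) := by
    show Subsingleton (Γ(M, i ⁻¹ᵁ (U ⊓ W)))
    rw [hbot]
    have hterm := TopCat.Sheaf.isTerminalOfEmpty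
      ((SheafOfModules.toSheaf.{u} Z.ringCatSheaf).obj M)
    exact AddCommGrpCat.subsingleton_of_isZero hterm.isZero
  have : ((Scheme.Modules.pushforward i).obj M).presheaf.map
      (homOfLE (inf_le_left : U ⊓ W ≤ U)).op m = 0 := Subsingleton.elim _ _
  rw [this, map_zero]

end Groth.Agent.Lib.Helper18.CycPush
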