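import Mathlib
import Groth.Agent.Lib.Helper18.FieldBC.LengthAlg

set_option autoImplicit false
universe u
open IsLocalRing

namespace Groth.Agent.Lib.Helper18.CycPull

/-- A ring isomorphism of local rings carries the maximal ideal to the maximal ideal. -/
theorem map_maximalIdeal_of_ringEquiv {A₁ A₂ : Type*} [CommRing A₁] [CommRing A₂] [IsLocalRing A₁]
    [IsLocalRing A₂] (a : A₁ ≃+* A₂) :
    Ideal.map (a : A₁ →+* A₂) (maximalIdeal A₁) = maximalIdeal A₂ := by
  rw [Ideal.map_comap_of_equiv]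
  exact IsLocalRing.maximalIdeal_comap (a.symm : A₂ →+* A₁)

/-- Lengths of quotients are invariant under ring isomorphisms. -/
theorem length_quot_eq_of_ringEquiv {C₁ C₂ : Type*} [CommRing C₁] [CommRing C₂] (c : C₁ ≃+* C₂)
    (I₁ : Ideal C₁) (I₂ : Ideal C₂) (h : I₁.map (c : C₁ →+* C₂) = I₂) :
    Module.length C₁ (C₁ ⧸ I₁) = Module.length C₂ (C₂ ⧸ I₂) := by
  rw [Module.length_eq_of_surjective (R := C₁ ⧸ I₁) (S := C₁) (M := C₁ ⧸ I₁)
      Ideal.Quotient.mk_surjective,
    Module.length_eq_of_surjective (R := C₂ ⧸ I₂) (S := C₂) (M := C₂ ⧸ I₂)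
      Ideal.Quotient.mk_surjective]
  exact Groth.Agent.Lib.Helper18.FieldBC.length_self_eq_of_ringEquiv
    (Ideal.quotientEquiv I₁ I₂ c h.symm)

/-- Transfer of the fibre length along an isomorphism of local homomorphisms. -/
theorem length_quot_map_maximalIdeal_eq {A₁ C₁ A₂ C₂ : Type*} [CommRing A₁] [CommRing C₁]
    [CommRing A₂] [CommRing C₂] [IsLocalRing A₁] [IsLocalRing A₂] (α : A₁ →+* C₁) (β : A₂ →+* C₂)
    (a : A₁ ≃+* A₂) (c : C₁ ≃+* C₂) (h : ∀ t, c (α t) = β (a t)) :
    Module.length C₁ (C₁ ⧸ Ideal.map α (maximalIdeal A₁)) =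
      Module.length C₂ (C₂ ⧸ Ideal.map β (maximalIdeal A₂)) := by
  apply length_quot_eq_of_ringEquiv c
  rw [Ideal.map_map, ← map_maximalIdeal_of_ringEquiv a, Ideal.map_map]
  congr 1
  ext t
  exact h t

/-- Transfer of the residue degree along an isomorphism of local homomorphisms. -/
theorem finrank_residueField_eq {A₁ C₁ A₂ C₂ : Type*} [CommRing A₁] [CommRing C₁] [CommRing A₂]
    [CommRing C₂] [IsLocalRing A₁] [IsLocalRing C₁] [IsLocalRing A₂] [IsLocalRing C₂]
    (α : A₁ →+* C₁) [IsLocalHom α] [Algebra A₂ C₂] [IsLocalHom (algebraMap A₂ C₂)]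
    (a : A₁ ≃+* A₂) (c : C₁ ≃+* C₂) (h : ∀ t, c (α t) = algebraMap A₂ C₂ (a t)) :
    @Module.finrank (ResidueField A₁) (ResidueField C₁) _ _
      (ResidueField.map α).toAlgebra.toModule =
      Module.finrank (ResidueField A₂) (ResidueField C₂) := by
  letI := (ResidueField.map α).toAlgebra
  refine Algebra.finrank_eq_of_equiv_equiv (ResidueField.mapEquiv a) (ResidueField.mapEquiv c) ?_
  ext t
  obtain ⟨t, rfl⟩ := residue_surjective t
  simp only [RingHom.coe_comp, Function.comp_apply, RingEquiv.toRingHom_eq_coe, RingHom.coe_coe,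
    ResidueField.mapEquiv_apply, ResidueField.map_residue, RingHom.algebraMap_toAlgebra,
    ResidueField.algebraMap_residue]
  congr 1
  exact (h t).symm

end Groth.Agent.Lib.Helper18.CycPull
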