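import Groth.Agent.Lib.Helper18.Cyc.PullBC

set_option autoImplicit false
set_option linter.style.haveILetI false
universe u
open AlgebraicGeometry CategoryTheory CategoryTheory.Limits TensorProduct IsLocalRing

namespace Groth.Agent.Lib.Helper18.CycPull

/-- At a point which is maximal in its fibre, the residue transcendence degree is the relative
dimension. -/
theorem tr_eq_of_isMax {X Y : Scheme.{u}} (f : X ⟶ Y) [LocallyOfFiniteType f] (r : ℕ)
    (hr : Cyc.HasRelDim f r) (x : X) (hmax : ∀ y, f y = f x → y ⤳ x → y = x) :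
    Groth.Agent.Lib.Helper24.FibreDim.tr f x = r := by
  have h1 := Groth.Agent.Lib.lead.FibreDimBCLocal.fibreDimAt_eq_of_hasRelDim f r hr x
  rw [Groth.Agent.Lib.Helper24.FibreDim.fibreDimAt_eq_tr_add_G] at h1
  have hG : Groth.Agent.Lib.lead.FibreOrder.G f x = 0 := by
    unfold Groth.Agent.Lib.lead.FibreOrder.G
    rw [Order.coheight_eq_zero]
    intro b hb
    have hsp : b.1 ⤳ x := Scheme.le_iff_specializes.1 hb
    have := hmax b.1 b.2 hsp
    have hb' : b = ⟨x, rfl⟩ := Subtype.ext this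
    rw [hb']
  rw [hG, add_zero] at h1
  have h2 : ((Groth.Agent.Lib.Helper24.FibreDim.tr f x : ℕ) : ℕ∞) = (r : ℕ∞) := by
    exact_mod_cast h1
  exact_mod_cast h2

/-- The fibre ideal of a morphism at a point. -/
noncomputable abbrev fibIdeal {X' X : Scheme.{u}} (h : X' ⟶ X) (x' : X') :
    Ideal (X'.presheaf.stalk x') :=
  Ideal.map (h.stalkMap x').hom (maximalIdeal (X.presheaf.stalk (h x')))

/-- The fibre length. -/
noncomputable abbrev fibLen {X' X : Scheme.{u}} (h : X' ⟶ X) (x' : X') : ℕ∞ :=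
  Module.length (X'.presheaf.stalk x') (X'.presheaf.stalk x' ⧸ fibIdeal h x')

theorem fibLen_comp {X'' X' X : Scheme.{u}} (p' : X'' ⟶ X') (p : X' ⟶ X) [Flat p'] (x'' : X'') :
    fibLen (p' ≫ p) x'' = fibLen p (p' x'') * fibLen p' x'' := by
  have hlen := length_quot_map_comp (p'.stalkMap x'').hom (p.stalkMap (p' x'')).hom
    (Flat.stalkMap p' x'')
  have hcomp : ((p' ≫ p).stalkMap x'').hom =
      (p'.stalkMap x'').hom.comp (p.stalkMap (p' x'')).hom := by
    rw [Scheme.Hom.stalkMap_comp]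
    rfl
  unfold fibLen fibIdeal
  rw [hcomp]
  exact hlen

theorem pullFun_square {X X' Y : Scheme.{u}} (f : Y ⟶ X) (p : X' ⟶ X) [Flat f]
    [LocallyOfFiniteType f] [Flat p] (r : ℕ) (hr : Cyc.HasRelDim f r)
    (hr' : Cyc.HasRelDim (pullback.snd f p) r) (δ : X → ℤ)
    (δ' : X' → ℤ) (δY : Y → ℤ) (δY' : ↥(pullback f p) → ℤ) [IsLocallyNoetherian X']
    [IsLocallyNoetherian Y] (hf : Cyc.DeltaCompat f δY δ)
    (hf' : Cyc.DeltaCompat (pullback.snd f p) δY' δ') (c : ℤ)
    (hc : ∀ x' : X', (∀ y, p y = p x' → y ⤳ x' → y = x') → δ' x' = δ (p x') + c)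
    (hcY : ∀ y' : ↥(pullback f p), (∀ y, pullback.fst f p y = pullback.fst f p y' → y ⤳ y' →
      y = y') → δY' y' = δY (pullback.fst f p y') + c) (α : X → ℤ) :
    Cyc.pullFun (pullback.snd f p) δY' δ' r (Cyc.pullFun p δ' δ c α) =
      Cyc.pullFun (pullback.fst f p) δY' δY c (Cyc.pullFun f δY δ r α) := by
  haveI : IsLocallyNoetherian (pullback f p) :=
    LocallyOfFiniteType.isLocallyNoetherian (pullback.snd f p)
  funext y'
  set q := pullback.fst f p with hq
  set f' := pullback.snd f p with hf'def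
  have hcond : q ≫ f = f' ≫ p := pullback.condition
  have hpt : f (q y') = p (f' y') := by
    rw [← Scheme.Hom.comp_apply, ← Scheme.Hom.comp_apply, hcond]
  -- the total fibre length computed in two ways
  have hT : fibLen (q ≫ f) y' = fibLen (f' ≫ p) y' := by rw [hcond]
  have h1 := fibLen_comp q f y'
  have h2 := fibLen_comp f' p y'
  have hAB : fibLen f (q y') * fibLen q y' = fibLen p (f' y') * fibLen f' y' := by
    rw [← h1, ← h2, hT]
  have hAB' := congrArg ENat.toNat hAB
  rw [ENat.toNat_mul, ENat.toNat_mul] at hAB'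
  have hAB'' : ((fibLen f (q y')).toNat : ℤ) * ((fibLen q y').toNat : ℤ) =
      ((fibLen p (f' y')).toNat : ℤ) * ((fibLen f' y').toNat : ℤ) := by exact_mod_cast hAB'
  show (if δY' y' = δ' (f' y') + r then
      (if δ' (f' y') = δ (p (f' y')) + c then α (p (f' y')) * ((fibLen p (f' y')).toNat : ℤ)
        else 0) * ((fibLen f' y').toNat : ℤ) else 0) =
    (if δY' y' = δY (q y') + c then
      (if δY (q y') = δ (f (q y')) + r then α (f (q y')) * ((fibLen f (q y')).toNat : ℤ)
        else 0) * ((fibLen q y').toNat : ℤ) else 0)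
  rw [hpt]
  by_cases hTop : fibLen p (f' y') * fibLen f' y' = ⊤
  · have h0 : ((fibLen p (f' y')).toNat : ℤ) * ((fibLen f' y').toNat : ℤ) = 0 := by
      have := congrArg ENat.toNat hTop
      rw [ENat.toNat_mul] at this
      exact_mod_cast this
    have h0' : ((fibLen f (q y')).toNat : ℤ) * ((fibLen q y').toNat : ℤ) = 0 := by
      rw [hAB'', h0]
    split_ifs <;> simp [mul_assoc, h0, h0']
  · -- all four fibre lengths are finite
    have hA : fibLen p (f' y') ≠ ⊤ := fun h => hTop (by
      rw [h]; exact ENat.top_mul (length_quot_ne_zero f' y'))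
    have hB : fibLen f' y' ≠ ⊤ := fun h => hTop (by
      rw [h]; exact ENat.mul_top (length_quot_ne_zero p (f' y')))
    have hTop' : fibLen f (q y') * fibLen q y' ≠ ⊤ := by rw [hAB]; exact hTop
    have hC : fibLen f (q y') ≠ ⊤ := fun h => hTop' (by
      rw [h]; exact ENat.top_mul (length_quot_ne_zero q y'))
    have hD : fibLen q y' ≠ ⊤ := fun h => hTop' (by
      rw [h]; exact ENat.mul_top (length_quot_ne_zero f (q y')))
    have mA := (length_ne_top_iff_isMax p (f' y')).1 hA
    have mB := (length_ne_top_iff_isMax f' y').1 hB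
    have mC := (length_ne_top_iff_isMax f (q y')).1 hC
    have mD := (length_ne_top_iff_isMax q y').1 hD
    have e1 : δ' (f' y') = δ (p (f' y')) + c := hc _ mA
    have e2 : δY' y' = δY (q y') + c := hcY _ mD
    have e3 : δY (q y') = δ (f (q y')) + r := by
      rw [delta_eq_add_tr f δY δ hf (q y'), tr_eq_of_isMax f r hr (q y') mC]
    have e4 : δY' y' = δ' (f' y') + r := by
      rw [delta_eq_add_tr f' δY' δ' hf' y', tr_eq_of_isMax f' r hr' y' mB]
    rw [hpt] at e3
    rw [if_pos e4, if_pos e1, if_pos e2, if_pos e3, mul_assoc, mul_assoc, hAB'']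

end Groth.Agent.Lib.Helper18.CycPull
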