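import Mathlib
import Groth.Agent.Lib.Helper18.Cyc.FiniteFlatAlg
import Groth.Agent.Lib.Helper18.Cyc.PullSquare

set_option autoImplicit false
universe u
open AlgebraicGeometry CategoryTheory IsLocalRing

namespace Groth.Agent.Lib.Helper18.CycPull

variable {X Y : Scheme.{u}}

/-- data extracted from `IsAffineOpen.arrowStalkMapIso` as plain ring equivalences -/
theorem exists_ringEquiv_stalkMap (f : X ⟶ Y) {U : Y.Opens} (hU : IsAffineOpen U) {V : X.Opens}
    (hV : IsAffineOpen V) (hVU : V ≤ f ⁻¹ᵁ U) (x : X) (hx : x ∈ V) :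
    ∃ (a : Y.presheaf.stalk (f x) ≃+*
        Localization.AtPrime (hU.primeIdealOf ⟨f x, hVU hx⟩).asIdeal)
      (c : X.presheaf.stalk x ≃+* Localization.AtPrime (hV.primeIdealOf ⟨x, hx⟩).asIdeal),
      ∀ t, c ((f.stalkMap x).hom t) =
        Localization.localRingHom _ _ (f.appLE U V hVU).hom
          congr($(IsAffineOpen.comap_primeIdealOf_appLE U hU V hV hVU hx).1).symm (a t) := by
  let e := IsAffineOpen.arrowStalkMapIso f U hU V hV hVU hx
  refine ⟨(Arrow.leftFunc.mapIso e).commRingCatIsoToRingEquiv,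
    (Arrow.rightFunc.mapIso e).commRingCatIsoToRingEquiv, fun t => ?_⟩
  have hw := e.hom.w
  have := congrArg (fun φ => φ.hom t) hw
  exact this.symm


/-- The fibre length of `f` at `x`, computed in affine charts, is the ramification index. -/
theorem toNat_fibLen_eq_ramificationIdx (f : X ⟶ Y) {U : Y.Opens} (hU : IsAffineOpen U)
    {V : X.Opens} (hV : IsAffineOpen V) (hVU : V ≤ f ⁻¹ᵁ U) (x : X) (hx : x ∈ V) :
    letI := (f.appLE U V hVU).hom.toAlgebra
    (fibLen f x).toNat = (hV.primeIdealOf ⟨x, hx⟩).asIdeal.ramificationIdx Γ(Y, U) := by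
  letI := (f.appLE U V hVU).hom.toAlgebra
  obtain ⟨a, c, hac⟩ := exists_ringEquiv_stalkMap f hU hV hVU x hx
  set q := (hV.primeIdealOf ⟨x, hx⟩).asIdeal with hq
  set p := (hU.primeIdealOf ⟨f x, hVU hx⟩).asIdeal with hp
  have hpq : p = q.comap (f.appLE U V hVU).hom :=
    congr($(IsAffineOpen.comap_primeIdealOf_appLE U hU V hV hVU hx).1).symm
  haveI : q.LiesOver p := ⟨hpq⟩
  rw [Ideal.ramificationIdx_eq p q]
  congr 1
  unfold fibLen fibIdeal
  rw [length_quot_map_maximalIdeal_eq (f.stalkMap x).hom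
    (Localization.localRingHom p q (f.appLE U V hVU).hom hpq) a c hac]
  have hI : Ideal.map (Localization.localRingHom p q (f.appLE U V hVU).hom hpq)
      (maximalIdeal (Localization.AtPrime p)) =
      p.map (algebraMap Γ(Y, U) (Localization.AtPrime q)) := by
    rw [← Localization.AtPrime.map_eq_maximalIdeal, Ideal.map_map]
    congr 1
    ext t
    simp only [RingHom.coe_comp, Function.comp_apply, Localization.localRingHom_to_map]
    rw [IsScalarTower.algebraMap_apply Γ(Y, U) Γ(X, V) (Localization.AtPrime q)]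
    rfl
  rw [hI]

/-- The residue degree of `f` at `x`, computed in affine charts, is the inertia degree. -/
theorem residueDegree_eq_inertiaDeg (f : X ⟶ Y) {U : Y.Opens} (hU : IsAffineOpen U)
    {V : X.Opens} (hV : IsAffineOpen V) (hVU : V ≤ f ⁻¹ᵁ U) (x : X) (hx : x ∈ V) :
    letI := (f.appLE U V hVU).hom.toAlgebra
    f.residueDegree x = (hV.primeIdealOf ⟨x, hx⟩).asIdeal.inertiaDeg Γ(Y, U) := by
  letI := (f.appLE U V hVU).hom.toAlgebra
  obtain ⟨a, c, hac⟩ := exists_ringEquiv_stalkMap f hU hV hVU x hx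
  set q := (hV.primeIdealOf ⟨x, hx⟩).asIdeal with hq
  set p := (hU.primeIdealOf ⟨f x, hVU hx⟩).asIdeal with hp
  have hpq : p = q.comap (f.appLE U V hVU).hom :=
    congr($(IsAffineOpen.comap_primeIdealOf_appLE U hU V hV hVU hx).1).symm
  haveI : q.LiesOver p := ⟨hpq⟩
  letI := Localization.AtPrime.algebraOfLiesOver p q
  rw [Ideal.inertiaDeg_eq p q]
  unfold Scheme.Hom.residueDegree
  exact finrank_residueField_eq (f.stalkMap x).hom a c hac

end Groth.Agent.Lib.Helper18.CycPull
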