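import Mathlib
import Groth.Agent.Lib.Helper18.Cyc.FiniteFlatPt
import Groth.Agent.Lib.Helper7.AffinePoints

set_option autoImplicit false
universe u
open AlgebraicGeometry CategoryTheory IsLocalRing

namespace Groth.Agent.Lib.Helper18.CycPull

variable {X Y : Scheme.{u}}

/-- The degree of a finite flat morphism over an affine open, as a rank at a stalk. -/
theorem finrank_eq_rankAtStalk (f : X ⟶ Y) [IsFinite f] [Flat f] {U : Y.Opens}
    (hU : IsAffineOpen U) (p : PrimeSpectrum Γ(Y, U)) :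
    letI := (f.appLE U (f ⁻¹ᵁ U) le_rfl).hom.toAlgebra
    f.finrank (hU.fromSpec p) = Module.rankAtStalk Γ(X, f ⁻¹ᵁ U) p := by
  letI := (f.appLE U (f ⁻¹ᵁ U) le_rfl).hom.toAlgebra
  have hV : IsAffineOpen (f ⁻¹ᵁ U) := hU.preimage f
  have hfin : (f.appLE U (f ⁻¹ᵁ U) le_rfl).hom.Finite := by
    have := f.finite_app U hU
    rwa [Scheme.Hom.app_eq_appLE] at this
  have hflat : (f.appLE U (f ⁻¹ᵁ U) le_rfl).hom.Flat := f.flat_appLE hU hV le_rfl
  have sq : IsPullback (Spec.map (f.appLE U (f ⁻¹ᵁ U) le_rfl)) hV.fromSpec hU.fromSpec f :=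
    IsOpenImmersion.isPullback _ _ _ _ (IsAffineOpen.SpecMap_appLE_fromSpec f hU hV le_rfl).symm
      (by rw [hU.opensRange_fromSpec, hV.opensRange_fromSpec])
  have h := Scheme.Hom.finrank_of_isPullback hV.fromSpec (Spec.map (f.appLE U (f ⁻¹ᵁ U) le_rfl)) f
    hU.fromSpec sq.flip p
  rw [← h, Scheme.Hom.finrank_SpecMap_eq_finrank hfin hflat]
  rfl


/-- The degree formula: the sum over the fibre of (fibre length) × (residue degree) is the degree
of a finite flat morphism. -/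
theorem finsum_fibLen_mul_residueDegree (f : X ⟶ Y) [IsFinite f] [Flat f] (y : Y) :
    ∑ᶠ x ∈ f ⁻¹' {y}, (fibLen f x).toNat * f.residueDegree x = f.finrank y := by
  obtain ⟨_, ⟨U, hU : IsAffineOpen U, rfl⟩, hyU, -⟩ :=
    Y.isBasis_affineOpens.exists_subset_of_mem_open (Set.mem_univ y) isOpen_univ
  have hV : IsAffineOpen (f ⁻¹ᵁ U) := hU.preimage f
  letI alg := (f.appLE U (f ⁻¹ᵁ U) le_rfl).hom.toAlgebra
  have hfin : (f.appLE U (f ⁻¹ᵁ U) le_rfl).hom.Finite := by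
    have := f.finite_app U hU
    rwa [Scheme.Hom.app_eq_appLE] at this
  have hflat : (f.appLE U (f ⁻¹ᵁ U) le_rfl).hom.Flat := f.flat_appLE hU hV le_rfl
  haveI : Module.Finite Γ(Y, U) Γ(X, f ⁻¹ᵁ U) := hfin
  haveI : Module.Flat Γ(Y, U) Γ(X, f ⁻¹ᵁ U) := hflat
  set p := hU.primeIdealOf ⟨y, hyU⟩ with hp
  have hpy : hU.fromSpec p = y := hU.fromSpec_primeIdealOf ⟨y, hyU⟩
  have hxV : ∀ x : ↥(f ⁻¹' {y}), x.1 ∈ f ⁻¹ᵁ U := fun x => by
    show f x.1 ∈ U
    rw [show f x.1 = y from x.2]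
    exact hyU
  have hcomap : ∀ x : ↥(f ⁻¹' {y}),
      (hV.primeIdealOf ⟨x.1, hxV x⟩).comap (f.appLE U (f ⁻¹ᵁ U) le_rfl).hom = p := fun x => by
    rw [IsAffineOpen.comap_primeIdealOf_appLE U hU (f ⁻¹ᵁ U) hV le_rfl (hxV x), hp]
    congr 1
    exact Subtype.ext x.2
  letI : Fintype (p.asIdeal.primesOver Γ(X, f ⁻¹ᵁ U)) :=
    (Algebra.QuasiFinite.finite_primesOver p.asIdeal).fintype
  -- the bijection between the fibre and the primes over `p`
  let E0 : ↥(f ⁻¹' {y}) → ↥(p.asIdeal.primesOver Γ(X, f ⁻¹ᵁ U)) := fun x =>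
    ⟨(hV.primeIdealOf ⟨x.1, hxV x⟩).asIdeal, ⟨(hV.primeIdealOf ⟨x.1, hxV x⟩).isPrime,
      ⟨congr($(hcomap x).1).symm⟩⟩⟩
  have hE0 : Function.Bijective E0 := by
    constructor
    · intro x1 x2 h
      have h1 : (hV.primeIdealOf ⟨x1.1, hxV x1⟩) = (hV.primeIdealOf ⟨x2.1, hxV x2⟩) :=
        PrimeSpectrum.ext (congrArg Subtype.val h)
      have h2 := Groth.Agent.Lib.Helper7.AffPts.primeIdealOf_injective hV h1
      exact Subtype.ext (congrArg (fun z : ↥(f ⁻¹ᵁ U) => (z : X)) h2)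
    · rintro ⟨q, hqp, hqo⟩
      obtain ⟨x, hx⟩ := Groth.Agent.Lib.Helper7.AffPts.primeIdealOf_surjective hV ⟨q, hqp⟩
      have hfx : f x.1 = y := by
        have h1 := IsAffineOpen.comap_primeIdealOf_appLE U hU (f ⁻¹ᵁ U) hV le_rfl x.2
        rw [hx] at h1
        have h2 : PrimeSpectrum.comap (f.appLE U (f ⁻¹ᵁ U) le_rfl).hom ⟨q, hqp⟩ = p :=
          PrimeSpectrum.ext hqo.over.symm
        rw [h2, hp] at h1
        have h3 := Groth.Agent.Lib.Helper7.AffPts.primeIdealOf_injective hU h1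
        exact (congrArg Subtype.val h3).symm
      refine ⟨⟨x.1, hfx⟩, ?_⟩
      apply Subtype.ext
      show (hV.primeIdealOf ⟨x.1, _⟩).asIdeal = q
      have : hV.primeIdealOf ⟨x.1, x.2⟩ = ⟨q, hqp⟩ := hx
      exact congrArg PrimeSpectrum.asIdeal this
  let E := Equiv.ofBijective E0 hE0
  rw [← hpy, finrank_eq_rankAtStalk f hU p, ← Ideal.finrank_fiber_eq_rankAtStalk,
    ← Ideal.sum_ramification_inertia_eq_finrank_fiber, ← finsum_eq_sum_of_fintype,
    ← finsum_comp_equiv E, hpy, ← finsum_set_coe_eq_finsum_mem]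
  apply finsum_congr
  intro x
  rw [toNat_fibLen_eq_ramificationIdx f hU hV le_rfl x.1 (hxV x),
    residueDegree_eq_inertiaDeg f hU hV le_rfl x.1 (hxV x)]
  rfl


/-- A finite morphism has relative dimension zero. -/
theorem hasRelDim_zero_of_isFinite (f : X ⟶ Y) [IsFinite f] : Cyc.HasRelDim f 0 := by
  intro y T hT
  haveI : DiscreteTopology ↥(f.fiber y) := inferInstance
  apply le_antisymm
  · exact topologicalKrullDim_zero_of_discreteTopology _
  · unfold topologicalKrullDim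
    obtain ⟨t, ht⟩ := hT.1.1
    haveI : Nonempty (TopologicalSpace.IrreducibleCloseds ↥T) :=
      ⟨⟨closure {⟨t, ht⟩}, isIrreducible_singleton.closure, isClosed_closure⟩⟩
    exact Order.krullDim_nonneg

end Groth.Agent.Lib.Helper18.CycPull
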