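import Mathlib
import Groth.Agent.Lib.lead.RelDimComp
import Groth.Agent.Lib.lead.FibreDimBCLocal
import Groth.Agent.Lib.Helper24.FibreDim.Main3448
import Groth.Prelude.Def_Cyc

set_option autoImplicit false
set_option linter.style.haveILetI false
universe u
open AlgebraicGeometry CategoryTheory TensorProduct IsLocalRing

namespace Groth.Agent.Lib.Helper18.CycPull

/-- Multiplicativity of the fibre lengths along a flat local homomorphism. -/
theorem length_quot_map_comp {A B C : Type u} [CommRing A] [CommRing B] [CommRing C]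
    [IsLocalRing A] [IsLocalRing B] [IsLocalRing C] (φ : A →+* B) (ψ : C →+* A) [IsLocalHom φ]
    (hφ : φ.Flat) :
    Module.length B (B ⧸ (maximalIdeal C).map (φ.comp ψ)) =
      Module.length A (A ⧸ (maximalIdeal C).map ψ) *
        Module.length B (B ⧸ (maximalIdeal A).map φ) := by
  letI := φ.toAlgebra
  haveI : Module.Flat A B := hφ
  haveI : IsLocalHom (algebraMap A B) := ‹IsLocalHom φ›
  set J : Ideal A := (maximalIdeal C).map ψ with hJ
  have h1 := IsLocalRing.length_baseChange A B (A ⧸ J)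
  have e : (B ⧸ J.map (algebraMap A B)) ≃ₗ[B] B ⊗[A] (A ⧸ J) :=
    (Algebra.TensorProduct.quotIdealMapEquivTensorQuot B J).toLinearEquiv
  have h2 : J.map (algebraMap A B) = (maximalIdeal C).map (φ.comp ψ) := by
    rw [hJ, Ideal.map_map]
    rfl
  rw [← e.length_eq, h2] at h1
  exact h1

/-- The residue transcendence degree is bounded by the relative dimension. -/
theorem tr_le_of_hasRelDim {X Y : Scheme.{u}} (f : X ⟶ Y) [LocallyOfFiniteType f] (r : ℕ)
    (hr : Cyc.HasRelDim f r) (x : X) : Groth.Agent.Lib.Helper24.FibreDim.tr f x ≤ r := by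
  have h1 := Groth.Agent.Lib.lead.FibreDimBCLocal.fibreDimAt_eq_of_hasRelDim f r hr x
  rw [Groth.Agent.Lib.Helper24.FibreDim.fibreDimAt_eq_tr_add_G] at h1
  have h2 : ((Groth.Agent.Lib.Helper24.FibreDim.tr f x : ℕ) : ℕ∞) +
      Groth.Agent.Lib.lead.FibreOrder.G f x = (r : ℕ∞) := by
    exact_mod_cast h1
  have h3 : ((Groth.Agent.Lib.Helper24.FibreDim.tr f x : ℕ) : ℕ∞) ≤ (r : ℕ∞) := by
    rw [← h2]
    exact le_self_add
  exact_mod_cast h3

/-- `DeltaCompat` in terms of `tr`. -/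
theorem delta_eq_add_tr {X Y : Scheme.{u}} (f : X ⟶ Y) [LocallyOfFiniteType f] (δX : X → ℤ)
    (δY : Y → ℤ) (hf : Cyc.DeltaCompat f δX δY) (x : X) :
    δX x = δY (f x) + (Groth.Agent.Lib.Helper24.FibreDim.tr f x : ℕ) := by
  obtain ⟨n, hn, hδ⟩ := hf x
  have h1 := Groth.Agent.Lib.Helper24.FibreDim.tr_spec f x
  have h2 : (n : Cardinal) = (Groth.Agent.Lib.Helper24.FibreDim.tr f x : Cardinal) := by
    rw [← hn, ← h1]
  have h3 : n = Groth.Agent.Lib.Helper24.FibreDim.tr f x := by exact_mod_cast h2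
  rw [hδ, h3]

theorem pullFun_comp {X Y Z : Scheme.{u}} (δX : X → ℤ) (δY : Y → ℤ) (δZ : Z → ℤ)
    (f : X ⟶ Y) (g : Y ⟶ Z) [Flat f] [LocallyOfFiniteType f] [LocallyOfFiniteType g]
    (r s : ℕ) (hr : Cyc.HasRelDim f r) (hs : Cyc.HasRelDim g s)
    (hf : Cyc.DeltaCompat f δX δY) (hg : Cyc.DeltaCompat g δY δZ) (α : Z → ℤ) :
    Cyc.pullFun f δX δY r (Cyc.pullFun g δY δZ s α) =
      Cyc.pullFun (f ≫ g) δX δZ ((r : ℤ) + s) α := by
  funext x
  have hd1 := delta_eq_add_tr f δX δY hf x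
  have hd2 := delta_eq_add_tr g δY δZ hg (f x)
  have ht1 := tr_le_of_hasRelDim f r hr x
  have ht2 := tr_le_of_hasRelDim g s hs (f x)
  have hlen := length_quot_map_comp (f.stalkMap x).hom (g.stalkMap (f x)).hom
    (Flat.stalkMap f x)
  have hcomp : ((f ≫ g).stalkMap x).hom = (f.stalkMap x).hom.comp (g.stalkMap (f x)).hom := by
    rw [Scheme.Hom.stalkMap_comp]
    rfl
  unfold Cyc.pullFun
  simp only
  rw [hcomp]
  have hfg : (f ≫ g) x = g (f x) := rfl
  by_cases h3 : δX x = δZ ((f ≫ g) x) + ((r : ℤ) + s)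
  · have h1 : δX x = δY (f x) + r := by rw [hfg] at h3; omega
    have h2 : δY (f x) = δZ (g (f x)) + s := by rw [hfg] at h3; omega
    rw [if_pos h3, if_pos h1, if_pos h2]
    have hlen' := congrArg ENat.toNat hlen
    rw [ENat.toNat_mul] at hlen'
    show α (g (f x)) * _ * _ = α (g (f x)) *
      ((Module.length (X.presheaf.stalk x) (X.presheaf.stalk x ⧸
        Ideal.map ((f.stalkMap x).hom.comp (g.stalkMap (f x)).hom)
          (maximalIdeal (Z.presheaf.stalk (g (f x)))))).toNat : ℤ)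
    rw [hlen']
    push_cast
    ring
  · rw [if_neg h3]
    by_cases h1 : δX x = δY (f x) + r
    · rw [if_pos h1]
      have h2 : ¬ δY (f x) = δZ (g (f x)) + s := by
        intro h2
        apply h3
        rw [hfg]
        omega
      rw [if_neg h2, zero_mul]
    · rw [if_neg h1]

end Groth.Agent.Lib.Helper18.CycPull
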