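import Mathlib
import Groth.Prelude.Def_Cyc
import Groth.Agent.Lib.Helper18.Cyc.FiniteFlatAlg

set_option autoImplicit false
universe u v
open IsLocalRing

namespace Groth.Agent.Lib.Helper18.CycDiv

open Groth.Agent.Lib.Helper18.CycPull

variable {R R' : Type u} [CommRing R] [CommRing R']

theorem ord_eq_of_ringEquiv (e : R ≃+* R') (x : R) : Ring.ord R x = Ring.ord R' (e x) := by
  unfold Ring.ord
  apply length_quot_eq_of_ringEquiv e
  rw [Ideal.map_span, Set.image_singleton]
  rfl

theorem mem_nonZeroDivisors_iff_of_ringEquiv (e : R ≃+* R') (x : R) :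
    x ∈ nonZeroDivisors R ↔ e x ∈ nonZeroDivisors R' := by
  rw [← MulEquivClass.map_nonZeroDivisors e]
  constructor
  · intro hx
    exact ⟨x, hx, rfl⟩
  · rintro ⟨x', hx', hxx'⟩
    rwa [← e.injective hxx']

theorem ordMonoidWithZeroHom_eq_of_ringEquiv [Nontrivial R] [Nontrivial R'] (e : R ≃+* R')
    (x : R) : Ring.ordMonoidWithZeroHom R x = Ring.ordMonoidWithZeroHom R' (e x) := by
  by_cases hx : x ∈ nonZeroDivisors R
  · rw [Ring.ordMonoidWithZeroHom_eq_ord hx,
      Ring.ordMonoidWithZeroHom_eq_ord ((mem_nonZeroDivisors_iff_of_ringEquiv e x).1 hx),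
      ord_eq_of_ringEquiv e x]
  · rw [Ring.ordMonoidWithZeroHom_eq_zero hx,
      Ring.ordMonoidWithZeroHom_eq_zero (fun h => hx ((mem_nonZeroDivisors_iff_of_ringEquiv e x).2 h))]

variable {K : Type v} {K' : Type v} [Field K] [Field K'] [Algebra R K] [Algebra R' K']

theorem ringOrdFrac_eq_of_ringEquiv [IsNoetherianRing R] [Ring.KrullDimLE 1 R] [Nontrivial R]
    [IsFractionRing R K] [IsNoetherianRing R'] [Ring.KrullDimLE 1 R'] [Nontrivial R']
    [IsFractionRing R' K'] (e : R ≃+* R') (eK : K ≃+* K')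
    (h : ∀ r, eK (algebraMap R K r) = algebraMap R' K' (e r)) (f : K) :
    Ring.ordFrac R f = Ring.ordFrac R' (eK f) := by
  have hinj : Function.Injective (algebraMap R K) := IsFractionRing.injective R K
  have key : ∀ a : R, a ≠ 0 →
      Ring.ordFrac R (algebraMap R K a) = Ring.ordFrac R' (eK (algebraMap R K a)) := by
    intro a ha
    have hea : e a ≠ 0 := fun h0 => ha (by simpa using h0)
    rw [h a, Ring.ordFrac_eq_ord R ha, Ring.ordFrac_eq_ord R' hea,
      ordMonoidWithZeroHom_eq_of_ringEquiv e a]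
  obtain ⟨a, b, hb, rfl⟩ := IsFractionRing.div_surjective (A := R) f
  have hb0 : b ≠ 0 := nonZeroDivisors.ne_zero hb
  by_cases ha : a = 0
  · subst ha
    simp
  · rw [map_div₀, map_div₀, map_div₀, key a ha, key b hb0]

theorem cond_of_ringEquiv (e : R ≃+* R') (eK : K ≃+* K')
    (h : ∀ r, eK (algebraMap R K r) = algebraMap R' K' (e r))
    (hc : IsNoetherianRing R ∧ Ring.KrullDimLE 1 R ∧ Nontrivial R ∧ IsFractionRing R K) :
    IsNoetherianRing R' ∧ Ring.KrullDimLE 1 R' ∧ Nontrivial R' ∧ IsFractionRing R' K' := by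
  obtain ⟨h1, h2, h3, h4⟩ := hc
  refine ⟨isNoetherianRing_of_ringEquiv R e, ?_, e.injective.nontrivial, ?_⟩
  · rw [Ring.KrullDimLE, Order.krullDimLE_iff] at h2 ⊢
    have := ringKrullDim_eq_of_ringEquiv e
    unfold ringKrullDim at this
    rw [← this]
    exact h2
  · -- fraction ring
    letI : Algebra R K' := ((algebraMap R' K').comp (e : R →+* R')).toAlgebra
    haveI h5 : IsFractionRing R K' := by
      let ψ : K ≃ₐ[R] K' :=
        { eK with
          commutes' := fun r => h r }
      exact IsLocalization.isLocalization_of_algEquiv (nonZeroDivisors R) ψ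
    exact IsLocalization.of_ringEquiv_left (e.symm : R' ≃+* R)
      (MulEquivClass.map_nonZeroDivisors e.symm) (fun x => by
        show algebraMap R' K' x = algebraMap R' K' (e (e.symm x))
        simp)

/-- `CycAlg.ordFrac` is invariant under compatible ring isomorphisms. -/
theorem ordFrac_eq_of_ringEquiv (e : R ≃+* R') (eK : K ≃+* K')
    (h : ∀ r, eK (algebraMap R K r) = algebraMap R' K' (e r)) (f : K) :
    CycAlg.ordFrac R K f = CycAlg.ordFrac R' K' (eK f) := by
  unfold CycAlg.ordFrac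
  by_cases hc : IsNoetherianRing R ∧ Ring.KrullDimLE 1 R ∧ Nontrivial R ∧ IsFractionRing R K
  · have hc' := cond_of_ringEquiv e eK h hc
    rw [dif_pos hc, dif_pos hc']
    haveI := hc.1; haveI := hc.2.1; haveI := hc.2.2.1; haveI := hc.2.2.2
    haveI := hc'.1; haveI := hc'.2.1; haveI := hc'.2.2.1; haveI := hc'.2.2.2
    rw [ringOrdFrac_eq_of_ringEquiv e eK h f]
  · have hc' : ¬ (IsNoetherianRing R' ∧ Ring.KrullDimLE 1 R' ∧ Nontrivial R' ∧
        IsFractionRing R' K') := by
      intro hc'
      apply hc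
      refine cond_of_ringEquiv e.symm eK.symm (fun r => ?_) hc'
      apply eK.injective
      rw [RingEquiv.apply_symm_apply, h, RingEquiv.apply_symm_apply]
    rw [dif_neg hc, dif_neg hc']

end Groth.Agent.Lib.Helper18.CycDiv
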