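import Mathlib
import Groth.Prelude.Def_Cyc
import Groth.Agent.Lib.Helper18.Cyc.OrdTransfer

set_option autoImplicit false
universe u
open AlgebraicGeometry CategoryTheory IsLocalRing

namespace Groth.Agent.Lib.Helper18.CycDiv

variable {X Z : Scheme.{u}}

/-- naturality of `Cyc.specMap` -/
theorem specMap_stalkMap (j : Z ⟶ X) {x ξ : Z} (h : ξ ⤳ x) (h' : j ξ ⤳ j x)
    (t : X.presheaf.stalk (j x)) :
    Cyc.specMap x ξ h ((j.stalkMap x).hom t) =
      (j.residueFieldMap ξ).hom (Cyc.specMap (j x) (j ξ) h' t) := by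
  unfold Cyc.specMap
  have h1 := Scheme.Hom.stalkSpecializes_stalkMap_apply j ξ x h t
  have h2 := congrArg (fun φ => φ.hom (X.presheaf.stalkSpecializes h' t))
    (Scheme.residue_residueFieldMap j ξ)
  simp only [CommRingCat.hom_comp, RingHom.coe_comp, Function.comp_apply] at h2 ⊢
  rw [h2]
  exact congrArg _ h1.symm

theorem residueFieldMap_bijective_of_surjective (j : Z ⟶ X) (ξ : Z)
    (hs : Function.Surjective (j.stalkMap ξ).hom) :
    Function.Bijective (j.residueFieldMap ξ).hom := by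
  refine ⟨(j.residueFieldMap ξ).hom.injective, ?_⟩
  intro b
  obtain ⟨b', rfl⟩ := IsLocalRing.residue_surjective b
  obtain ⟨a, rfl⟩ := hs b'
  refine ⟨(X.residue (j ξ)).hom a, ?_⟩
  have h2 := congrArg (fun φ => φ.hom a) (Scheme.residue_residueFieldMap j ξ)
  simp only [CommRingCat.hom_comp, RingHom.coe_comp, Function.comp_apply] at h2
  exact h2

/-- The order along a specialization is unchanged by a morphism which is surjective on stalks. -/
theorem ordAt_map_eq (j : Z ⟶ X) {x ξ : Z} (h : ξ ⤳ x) (h' : j ξ ⤳ j x)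
    (hsx : Function.Surjective (j.stalkMap x).hom) (hsξ : Function.Surjective (j.stalkMap ξ).hom)
    (g : X.residueField (j ξ)) :
    Cyc.ordAt (j x) (j ξ) h' g = Cyc.ordAt x ξ h ((j.residueFieldMap ξ).hom g) := by
  unfold Cyc.ordAt
  have hb := residueFieldMap_bijective_of_surjective j ξ hsξ
  let eK : X.residueField (j ξ) ≃+* Z.residueField ξ := RingEquiv.ofBijective _ hb
  have hker : RingHom.ker (Cyc.specMap (j x) (j ξ) h') =
      (RingHom.ker (Cyc.specMap x ξ h)).comap (j.stalkMap x).hom := by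
    ext t
    rw [Ideal.mem_comap, RingHom.mem_ker, RingHom.mem_ker, specMap_stalkMap j h h' t]
    constructor
    · intro ht
      rw [ht, map_zero]
    · intro ht
      exact (map_eq_zero_iff _ (j.residueFieldMap ξ).hom.injective).1 ht
  let e0 : Cyc.LocQuot (j x) (j ξ) h' →+* Cyc.LocQuot x ξ h :=
    Ideal.quotientMap _ (j.stalkMap x).hom hker.le
  have he0 : Function.Bijective e0 :=
    ⟨Ideal.quotientMap_injective' hker.ge, Ideal.quotientMap_surjective hsx⟩
  let e : Cyc.LocQuot (j x) (j ξ) h' ≃+* Cyc.LocQuot x ξ h := RingEquiv.ofBijective e0 he0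
  refine ordFrac_eq_of_ringEquiv e eK ?_ g
  intro r
  obtain ⟨t, rfl⟩ := Ideal.Quotient.mk_surjective r
  show (j.residueFieldMap ξ).hom (Cyc.specMap (j x) (j ξ) h' t) =
    Cyc.specMap x ξ h ((j.stalkMap x).hom t)
  exact (specMap_stalkMap j h h' t).symm

end Groth.Agent.Lib.Helper18.CycDiv
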