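import Mathlib
import Groth.Prelude.Def_Cyc
import Groth.Agent.Lib.Helper18.Cyc.DivFinite
import Groth.Agent.Lib.Helper18.Cyc.DivTransfer

set_option autoImplicit false
universe u
open AlgebraicGeometry CategoryTheory IsLocalRing

namespace Groth.Agent.Lib.Helper18.CycDiv

variable {X Z : Scheme.{u}}

/-- A principal divisor is concentrated in one δ-dimension. -/
theorem divFun_eq_zero_of_ne (δ : X → ℤ) (ξ : X) (f : X.residueField ξ) (x : X)
    (h : δ x + 1 ≠ δ ξ) : Cyc.divFun δ ξ f x = 0 := by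
  unfold Cyc.divFun
  rw [dif_neg]
  exact fun hc => h hc.2

theorem specializes_of_divFun_ne_zero (δ : X → ℤ) (ξ : X) (f : X.residueField ξ) (x : X)
    (h : Cyc.divFun δ ξ f x ≠ 0) : ξ ⤳ x := by
  unfold Cyc.divFun at h
  by_contra hc
  exact h (dif_neg fun hh => hc hh.1)

/-- A locally finite sum of principal divisors has locally finite support. -/
theorem locallyFiniteSupport_finsum_divFun' [IsLocallyNoetherian X] (δ : X → ℤ)
    (hX : Cyc.IsDimFun X δ) {ι : Type*}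
    (ξ : ι → X) (f : (i : ι) → X.residueField (ξ i)) (hf : ∀ i, f i ≠ 0)
    (hlf : ∀ x : X, ∃ U : Set X, IsOpen U ∧ x ∈ U ∧ {i | (closure {ξ i} ∩ U).Nonempty}.Finite) :
    LocallyFiniteSupport (fun x => ∑ᶠ i, Cyc.divFun δ (ξ i) (f i) x) := by
  intro z
  obtain ⟨U, hUo, hzU, hfin⟩ := hlf z
  obtain ⟨_, ⟨W, hW : IsAffineOpen W, rfl⟩, hzW, hWU⟩ :=
    X.isBasis_affineOpens.exists_subset_of_mem_open hzU hUo
  refine ⟨W, W.isOpen.mem_nhds hzW, ?_⟩
  refine (hfin.biUnion (fun i _ => finite_inter_support_divFun' δ hX (ξ i) (f i) (hf i) W hW)).subset ?_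
  rintro x ⟨hxW, hx⟩
  obtain ⟨i, hi⟩ : ∃ i, Cyc.divFun δ (ξ i) (f i) x ≠ 0 := by
    by_contra hcon
    push_neg at hcon
    exact hx (by simp only [hcon]; exact finsum_zero)
  have hsp := specializes_of_divFun_ne_zero δ (ξ i) (f i) x hi
  simp only [Set.mem_iUnion, Set.mem_inter_iff, SetLike.mem_coe, Function.mem_support, exists_prop]
  exact ⟨i, ⟨x, hsp.mem_closure, hWU hxW⟩, hxW, hi⟩

theorem locallyFiniteSupport_finsum_divFun (δ : X → ℤ) (hX : Cyc.IsSetup X δ) {ι : Type*}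
    (ξ : ι → X) (f : (i : ι) → X.residueField (ξ i)) (hf : ∀ i, f i ≠ 0)
    (hlf : ∀ x : X, ∃ U : Set X, IsOpen U ∧ x ∈ U ∧ {i | (closure {ξ i} ∩ U).Nonempty}.Finite) :
    LocallyFiniteSupport (fun x => ∑ᶠ i, Cyc.divFun δ (ξ i) (f i) x) := by
  haveI := hX.1
  exact locallyFiniteSupport_finsum_divFun' δ hX.2.2 ξ f hf hlf

/-- Principal divisors are compatible with preimmersions. -/
theorem divFun_preimmersion (j : Z ⟶ X) [IsPreimmersion j] (δ : X → ℤ) (ξ : Z)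
    (g : X.residueField (j ξ)) (x : Z) :
    Cyc.divFun δ (j ξ) g (j x) =
      Cyc.divFun (fun z => δ (j z)) ξ ((j.residueFieldMap ξ).hom g) x := by
  have hind : (j ξ ⤳ j x) ↔ (ξ ⤳ x) := j.isEmbedding.isInducing.specializes_iff
  unfold Cyc.divFun
  by_cases hc : ξ ⤳ x ∧ δ (j x) + 1 = δ (j ξ)
  · have hc' : j ξ ⤳ j x ∧ δ (j x) + 1 = δ (j ξ) := ⟨hind.2 hc.1, hc.2⟩
    rw [dif_pos hc, dif_pos hc']
    exact ordAt_map_eq j hc.1 hc'.1 (j.stalkMap_surjective x) (j.stalkMap_surjective ξ) g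
  · have hc' : ¬ (j ξ ⤳ j x ∧ δ (j x) + 1 = δ (j ξ)) := fun h => hc ⟨hind.1 h.1, h.2⟩
    rw [dif_neg hc, dif_neg hc']

/-- A family of points of an open subscheme which is locally finite there stays locally finite
in a locally Noetherian ambient scheme. -/
theorem locallyFinite_of_open [IsLocallyNoetherian X] (U : X.Opens) {ι : Type*} (ξ : ι → ↥U)
    (h : ∀ u : ↥U, ∃ V : Set ↥U, IsOpen V ∧ u ∈ V ∧ {i | (closure {ξ i} ∩ V).Nonempty}.Finite) :
    ∀ x : X, ∃ V : Set X, IsOpen V ∧ x ∈ V ∧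
      {i | (closure {(ξ i : X)} ∩ V).Nonempty}.Finite := by
  intro x
  obtain ⟨_, ⟨W, hW : IsAffineOpen W, rfl⟩, hxW, -⟩ :=
    X.isBasis_affineOpens.exists_subset_of_mem_open (Set.mem_univ x) isOpen_univ
  haveI : IsNoetherianRing Γ(X, W) := IsLocallyNoetherian.component_noetherian ⟨W, hW⟩
  haveI : TopologicalSpace.NoetherianSpace ↥W := noetherianSpace_of_isAffineOpen W hW
  refine ⟨W, W.isOpen, hxW, ?_⟩
  choose V hVo huV hVfin using h
  have hcomp : IsCompact ((W : Set X) ∩ U) := by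
    have h1 : IsCompact {w : ↥W | (w : X) ∈ U} := TopologicalSpace.NoetherianSpace.isCompact _
    have h2 := h1.image continuous_subtype_val
    convert h2 using 1
    ext y
    constructor
    · rintro ⟨hyW, hyU⟩
      exact ⟨⟨y, hyW⟩, hyU, rfl⟩
    · rintro ⟨w, hw, rfl⟩
      exact ⟨w.2, hw⟩
  have hopen : ∀ u : ↥U, IsOpen ((Subtype.val : ↥U → X) '' V u) := fun u =>
    U.isOpen.isOpenEmbedding_subtypeVal.isOpenMap _ (hVo u)
  obtain ⟨t, ht⟩ := hcomp.elim_finite_subcover (fun u : ↥U => (Subtype.val : ↥U → X) '' V u) hopen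
    (by
      rintro y ⟨-, hyU⟩
      exact Set.mem_iUnion.2 ⟨⟨y, hyU⟩, ⟨⟨y, hyU⟩, huV _, rfl⟩⟩)
  refine (t.finite_toSet.biUnion (fun u _ => hVfin u)).subset ?_
  rintro i ⟨y, hy, hyW⟩
  have hiW : (ξ i : X) ∈ W := by
    have hsp : (ξ i : X) ⤳ y := specializes_iff_mem_closure.2 hy
    exact hsp.mem_open W.isOpen hyW
  have := ht ⟨hiW, (ξ i).2⟩
  simp only [Set.mem_iUnion, exists_prop] at this
  obtain ⟨u, hut, v, hv, hvξ⟩ := this
  have hvξ' : v = ξ i := Subtype.ext hvξ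
  simp only [Set.mem_iUnion, exists_prop]
  exact ⟨u, hut, ξ i, subset_closure rfl, hvξ' ▸ hv⟩

end Groth.Agent.Lib.Helper18.CycDiv
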