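import Mathlib
import Groth.Prelude.Def_Cyc
import Groth.Agent.Lib.Helper18.Cyc.DivFamily
import Groth.Agent.Lib.Helper13.StalkSpecLoc
import Groth.Agent.Lib.Helper21.CatKit

set_option autoImplicit false
universe u
open AlgebraicGeometry CategoryTheory IsLocalRing Order

namespace Groth.Agent.Lib.Helper18.CycDiv

open Groth.Agent.Lib.Helper7 Groth.Agent.Lib.Helper13.StalkSpecLoc Groth.Agent.Lib.Helper21

variable {X : Scheme.{u}}

theorem ker_specMap {x ξ : X} (h : ξ ⤳ x) : RingHom.ker (Cyc.specMap x ξ h) = primeOf h := by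
  unfold Cyc.specMap primeOf
  rw [CommRingCat.hom_comp, ← RingHom.comap_ker]
  congr 1
  exact IsLocalRing.ker_residue (R := X.presheaf.stalk ξ)

theorem krullDimLE_of_ordAt_ne_zero {x ξ : X} (h : ξ ⤳ x) (f : X.residueField ξ)
    (hf : Cyc.ordAt x ξ h f ≠ 0) : Ring.KrullDimLE 1 (Cyc.LocQuot x ξ h) := by
  unfold Cyc.ordAt CycAlg.ordFrac at hf
  by_contra hc
  apply hf
  rw [dif_neg]
  exact fun hh => hc hh.2.1

/-- If `O_{X,x}/𝔭_ξ` has dimension at most one, there is no point strictly between `ξ` and `x`. -/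
theorem eq_of_between {x ξ : X} (h : ξ ⤳ x) (hK : Ring.KrullDimLE 1 (Cyc.LocQuot x ξ h)) (z : X)
    (hξz : ξ ⤳ z) (hzx : z ⤳ x) (hne : ξ ≠ z) : z = x := by
  by_contra hzne
  set pξ : PrimeSpectrum (X.presheaf.stalk x) := ⟨primeOf h, inferInstance⟩ with hpξ
  set pz : PrimeSpectrum (X.presheaf.stalk x) := ⟨primeOf hzx, inferInstance⟩ with hpz
  have hemb := (X.fromSpecStalk x).isEmbedding
  have h1 : pz < closedPoint (X.presheaf.stalk x) :=
    lt_of_le_of_ne (IsLocalRing.le_maximalIdeal pz.2.ne_top) (fun he =>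
      primeOf_ne_maximalIdeal hzx hzne (congrArg PrimeSpectrum.asIdeal he))
  have h2 : pξ < pz := by
    refine lt_of_le_of_ne ?_ ?_
    · rw [PrimeSpectrum.le_iff_specializes]
      have h0 : (X.fromSpecStalk x) pξ ⤳ (X.fromSpecStalk x) pz := by
        rw [hpξ, hpz, fromSpecStalk_primeOf, fromSpecStalk_primeOf]
        exact hξz
      exact hemb.isInducing.specializes_iff.1 h0
    · intro he
      apply hne
      rw [← fromSpecStalk_primeOf h, ← fromSpecStalk_primeOf hzx]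
      exact congrArg _ he
  have h3 : coheight pz + 1 ≤ coheight pξ := Order.coheight_add_one_le h2
  have h4 : coheight (closedPoint (X.presheaf.stalk x)) + 1 ≤ coheight pz :=
    Order.coheight_add_one_le h1
  have h5 : (2 : ℕ∞) ≤ coheight pξ := by
    calc (2 : ℕ∞) = 0 + 1 + 1 := by norm_num
      _ ≤ coheight (closedPoint (X.presheaf.stalk x)) + 1 + 1 := by gcongr; exact zero_le
      _ ≤ coheight pz + 1 := by gcongr
      _ ≤ coheight pξ := h3
  have h6 : ringKrullDim (Cyc.LocQuot x ξ h) ≤ 1 := by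
    rw [Ring.KrullDimLE, Order.krullDimLE_iff] at hK
    exact hK
  have h7 : ringKrullDim (Cyc.LocQuot x ξ h) = (coheight pξ : ℕ∞) := by
    have := CatKit.ringKrullDim_quotient_eq_coheight pξ
    rw [← this]
    show ringKrullDim (X.presheaf.stalk x ⧸ RingHom.ker (Cyc.specMap x ξ h)) = _
    rw [ker_specMap h]
  rw [h7] at h6
  have h8 : coheight pξ ≤ 1 := by exact_mod_cast h6
  have : (2 : ℕ∞) ≤ 1 := le_trans h5 h8
  exact absurd this (by norm_num)

/-- The support of a principal divisor meets an affine open in a finite set (no dimension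
function needed). -/
theorem finite_inter_support_divFun'' [IsLocallyNoetherian X] (δ : X → ℤ) (ξ : X)
    (f : X.residueField ξ) (hf : f ≠ 0) (W : X.Opens) (hW : IsAffineOpen W) :
    ((W : Set X) ∩ Function.support (Cyc.divFun δ ξ f)).Finite := by
  by_cases hξW : ξ ∈ W
  swap
  · convert Set.finite_empty
    ext x
    simp only [Set.mem_inter_iff, SetLike.mem_coe, Function.mem_support, Set.mem_empty_iff_false,
      iff_false, not_and, not_not]
    intro hxW
    unfold Cyc.divFun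
    rw [dif_neg]
    rintro ⟨h, -⟩
    exact hξW (h.mem_open W.isOpen hxW)
  haveI : IsNoetherianRing Γ(X, W) := IsLocallyNoetherian.component_noetherian ⟨W, hW⟩
  -- write `f` as a quotient of sections
  obtain ⟨a, b, hb, hfab⟩ : ∃ a b : Γ(X, W), X.evaluation W ξ hξW b ≠ 0 ∧
      f * X.evaluation W ξ hξW b = X.evaluation W ξ hξW a := by
    obtain ⟨s, rfl⟩ := IsLocalRing.residue_surjective f
    letI := X.presheaf.algebra_section_stalk ⟨ξ, hξW⟩
    haveI := hW.isLocalization_stalk ⟨ξ, hξW⟩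
    obtain ⟨⟨a, b⟩, hab⟩ := IsLocalization.surj (hW.primeIdealOf ⟨ξ, hξW⟩).asIdeal.primeCompl s
    refine ⟨a, b, ?_, ?_⟩
    · rw [Scheme.evaluation_ne_zero_iff_mem_basicOpen]
      by_contra hcon
      exact b.2 ((AffPts.mem_primeIdealOf_iff hW ⟨ξ, hξW⟩ b.1).2 hcon)
    · have := congrArg (IsLocalRing.residue (X.presheaf.stalk ξ)) hab
      rw [map_mul] at this
      exact this
  have ha : X.evaluation W ξ hξW a ≠ 0 := by
    rw [← hfab]
    exact mul_ne_zero hf hb
  set P := (hW.primeIdealOf ⟨ξ, hξW⟩).asIdeal with hP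
  have haP : a ∉ P := fun h => by
    rw [Scheme.evaluation_ne_zero_iff_mem_basicOpen] at ha
    exact (AffPts.mem_primeIdealOf_iff hW ⟨ξ, hξW⟩ a).1 h ha
  have hbP : b ∉ P := fun h => by
    rw [Scheme.evaluation_ne_zero_iff_mem_basicOpen] at hb
    exact (AffPts.mem_primeIdealOf_iff hW ⟨ξ, hξW⟩ b).1 h hb
  -- the finite set of candidate primes
  set M : Set (Ideal Γ(X, W)) := (P ⊔ Ideal.span {a}).minimalPrimes ∪
    (P ⊔ Ideal.span {b}).minimalPrimes with hM
  have hMfin : M.Finite :=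
    (Ideal.finite_minimalPrimes_of_isNoetherianRing _ _).union
      (Ideal.finite_minimalPrimes_of_isNoetherianRing _ _)
  have hMfin' : {q : PrimeSpectrum Γ(X, W) | q.asIdeal ∈ M}.Finite :=
    hMfin.preimage (fun q _ q' _ h => PrimeSpectrum.ext h)
  have hSfin : {x : ↥W | (hW.primeIdealOf x) ∈ {q : PrimeSpectrum Γ(X, W) | q.asIdeal ∈ M}}.Finite :=
    hMfin'.preimage (fun x _ x' _ h => AffPts.primeIdealOf_injective hW h)
  refine (hSfin.image Subtype.val).subset ?_
  rintro x ⟨hxW, hx⟩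
  refine ⟨⟨x, hxW⟩, ?_, rfl⟩
  show (hW.primeIdealOf ⟨x, hxW⟩).asIdeal ∈ M
  -- unpack the divisor
  have hx' : Cyc.divFun δ ξ f x ≠ 0 := hx
  unfold Cyc.divFun at hx'
  by_cases hcond : ξ ⤳ x ∧ δ x + 1 = δ ξ
  swap
  · rw [dif_neg hcond] at hx'
    exact absurd rfl hx'
  rw [dif_pos hcond] at hx'
  obtain ⟨hsp, hδ⟩ := hcond
  have hK := krullDimLE_of_ordAt_ne_zero hsp f hx'
  set Q := (hW.primeIdealOf ⟨x, hxW⟩).asIdeal with hQ
  have hPQ : P ≤ Q := (AffPts.primeIdealOf_le_iff hW ⟨ξ, hξW⟩ ⟨x, hxW⟩).2 hsp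
  -- one of `a`, `b` lies in `Q`
  have hab : a ∈ Q ∨ b ∈ Q := by
    by_contra hcon
    push_neg at hcon
    have hua : IsUnit (X.presheaf.germ W x hxW a) := by
      rw [← Scheme.mem_basicOpen]
      by_contra h
      exact hcon.1 ((AffPts.mem_primeIdealOf_iff hW ⟨x, hxW⟩ a).2 h)
    have hub : IsUnit (X.presheaf.germ W x hxW b) := by
      rw [← Scheme.mem_basicOpen]
      by_contra h
      exact hcon.2 ((AffPts.mem_primeIdealOf_iff hW ⟨x, hxW⟩ b).2 h)
    apply hx'
    refine ordAt_eq_zero_of_isUnit hsp f hua.unit hub.unit ?_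
    rw [IsUnit.unit_spec, IsUnit.unit_spec, specMap_germ hsp W hxW, specMap_germ hsp W hxW]
    exact hfab
  -- minimality
  have key : ∀ c : Γ(X, W), c ∉ P → c ∈ Q → Q ∈ (P ⊔ Ideal.span {c}).minimalPrimes := by
    intro c hcP hcQ
    have hle : P ⊔ Ideal.span {c} ≤ Q :=
      sup_le hPQ ((Ideal.span_singleton_le_iff_mem _).2 hcQ)
    refine ⟨⟨(hW.primeIdealOf ⟨x, hxW⟩).isPrime, hle⟩, ?_⟩
    rintro P' ⟨hP'prime, hP'le⟩ hP'Q
    obtain ⟨z, hz⟩ := AffPts.primeIdealOf_surjective hW ⟨P', hP'prime⟩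
    have hzP' : (hW.primeIdealOf z).asIdeal = P' := congrArg PrimeSpectrum.asIdeal hz
    have hξz : ξ ⤳ (z : X) := by
      rw [← AffPts.primeIdealOf_le_iff hW ⟨ξ, hξW⟩ z]
      show P ≤ (hW.primeIdealOf z).asIdeal
      rw [hzP']
      exact le_trans le_sup_left hP'le
    have hzx : (z : X) ⤳ x := by
      rw [← AffPts.primeIdealOf_le_iff hW z ⟨x, hxW⟩]
      show (hW.primeIdealOf z).asIdeal ≤ Q
      rw [hzP']
      exact hP'Q
    have hξne : ξ ≠ (z : X) := by
      intro h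
      apply hcP
      have : c ∈ P' := hP'le (Ideal.mem_sup_right (Ideal.mem_span_singleton_self c))
      rw [← hzP'] at this
      have h2 : z = ⟨ξ, hξW⟩ := Subtype.ext h.symm
      rw [h2] at this
      exact this
    have hzx' : (z : X) = x := eq_of_between hsp hK z hξz hzx hξne
    have h2 : z = ⟨x, hxW⟩ := Subtype.ext hzx'
    rw [← hzP', h2]
  rcases hab with h | h
  · exact Or.inl (key a haP h)
  · exact Or.inr (key b hbP h)


/-- A locally finite sum of principal divisors has locally finite support. -/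
theorem locallyFiniteSupport_finsum_divFun'' [IsLocallyNoetherian X] (δ : X → ℤ) {ι : Type*}
    (ξ : ι → X) (f : (i : ι) → X.residueField (ξ i)) (hf : ∀ i, f i ≠ 0)
    (hlf : ∀ x : X, ∃ U : Set X, IsOpen U ∧ x ∈ U ∧ {i | (closure {ξ i} ∩ U).Nonempty}.Finite) :
    LocallyFiniteSupport (fun x => ∑ᶠ i, Cyc.divFun δ (ξ i) (f i) x) := by
  intro z
  obtain ⟨U, hUo, hzU, hfin⟩ := hlf z
  obtain ⟨_, ⟨W, hW : IsAffineOpen W, rfl⟩, hzW, hWU⟩ :=
    X.isBasis_affineOpens.exists_subset_of_mem_open hzU hUo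
  refine ⟨W, W.isOpen.mem_nhds hzW, ?_⟩
  refine (hfin.biUnion (fun i _ => finite_inter_support_divFun'' δ (ξ i) (f i) (hf i) W hW)).subset ?_
  rintro x ⟨hxW, hx⟩
  obtain ⟨i, hi⟩ : ∃ i, Cyc.divFun δ (ξ i) (f i) x ≠ 0 := by
    by_contra hcon
    push_neg at hcon
    exact hx (by simp only [hcon]; exact finsum_zero)
  have hsp := specializes_of_divFun_ne_zero δ (ξ i) (f i) x hi
  simp only [Set.mem_iUnion, Set.mem_inter_iff, SetLike.mem_coe, Function.mem_support, exists_prop]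
  exact ⟨i, ⟨x, hsp.mem_closure, hWU hxW⟩, hxW, hi⟩

end Groth.Agent.Lib.Helper18.CycDiv
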