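import Mathlib
import Groth.Prelude.Def_Cyc
import Groth.Agent.Lib.Helper24.Lattice.Main

set_option autoImplicit false
set_option linter.style.haveILetI false
universe u
open TensorProduct IsLocalRing

namespace Groth.Agent.Lib.Helper18.CycDiv

open Groth.Agent.Lib.Helper24.LatDist

/-- Lengths of quotients multiply along a flat local homomorphism. -/
theorem length_quot_map_eq_mul {A B : Type u} [CommRing A] [CommRing B]
    [IsLocalRing A] [IsLocalRing B] (φ : A →+* B) [IsLocalHom φ] (hφ : φ.Flat) (J : Ideal A) :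
    Module.length B (B ⧸ J.map φ) =
      Module.length A (A ⧸ J) * Module.length B (B ⧸ (maximalIdeal A).map φ) := by
  letI := φ.toAlgebra
  haveI : Module.Flat A B := hφ
  haveI : IsLocalHom (algebraMap A B) := ‹IsLocalHom φ›
  have h1 := IsLocalRing.length_baseChange A B (A ⧸ J)
  have e : (B ⧸ J.map (algebraMap A B)) ≃ₗ[B] B ⊗[A] (A ⧸ J) :=
    (Algebra.TensorProduct.quotIdealMapEquivTensorQuot B J).toLinearEquiv
  rw [← e.length_eq] at h1
  exact h1

/-- The order of vanishing multiplies by the fibre length along a flat local homomorphism. -/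
theorem ord_map_of_flat {A B : Type u} [CommRing A] [CommRing B]
    [IsLocalRing A] [IsLocalRing B] (φ : A →+* B) [IsLocalHom φ] (hφ : φ.Flat) (a : A) :
    Ring.ord B (φ a) =
      Ring.ord A a * Module.length B (B ⧸ (maximalIdeal A).map φ) := by
  unfold Ring.ord
  rw [← length_quot_map_eq_mul φ hφ, Ideal.map_span, Set.image_singleton]

section

variable {A : Type*} [CommRing A] [IsDomain A] [IsNoetherianRing A] [Ring.KrullDimLE 1 A]
variable {K : Type*} [Field K] [Algebra A K] [IsFractionRing A K]

theorem ordZ_zero : CycAlg.ordFrac A K (0 : K) = 0 := by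
  rw [ordZ_eq, map_zero]
  rfl

theorem ordZ_inv (x : K) : CycAlg.ordFrac A K x⁻¹ = - CycAlg.ordFrac A K x := by
  by_cases hx : x = 0
  · subst hx
    rw [inv_zero, ordZ_zero, neg_zero]
  · have h := ordZ_mul (A := A) hx (inv_ne_zero hx)
    rw [mul_inv_cancel₀ hx, ordZ_one] at h
    linarith

theorem ordZ_div {a b : A} (ha : a ≠ 0) (hb : b ≠ 0) :
    CycAlg.ordFrac A K (algebraMap A K a / algebraMap A K b) =
      ((Ring.ord A a).toNat : ℤ) - ((Ring.ord A b).toNat : ℤ) := by
  have hinj := IsFractionRing.injective A K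
  have ha' : algebraMap A K a ≠ 0 := fun h0 => ha (hinj (by rw [h0, map_zero]))
  have hb' : algebraMap A K b ≠ 0 := fun h0 => hb (hinj (by rw [h0, map_zero]))
  rw [div_eq_mul_inv, ordZ_mul ha' (inv_ne_zero hb'), ordZ_inv, ordZ_algebraMap ha,
    ordZ_algebraMap hb]
  ring

end

/-- `ord` of a rational function along a flat local homomorphism of one-dimensional Noetherian
local domains is multiplied by the length of the closed fibre. -/
theorem ordFrac_flat_local {A B : Type u} [CommRing A] [CommRing B] [IsDomain A] [IsDomain B]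
    [IsNoetherianRing A] [IsNoetherianRing B] [IsLocalRing A] [IsLocalRing B]
    [Ring.KrullDimLE 1 A] [Ring.KrullDimLE 1 B]
    {K L : Type u} [Field K] [Field L] [Algebra A K] [Algebra B L] [IsFractionRing A K]
    [IsFractionRing B L] (φ : A →+* B) [IsLocalHom φ] (hφ : φ.Flat) (ψ : K →+* L)
    (hψ : ∀ a, ψ (algebraMap A K a) = algebraMap B L (φ a)) (g : K) :
    CycAlg.ordFrac B L (ψ g) = CycAlg.ordFrac A K g *
      ((Module.length B (B ⧸ (maximalIdeal A).map φ)).toNat : ℤ) := by
  have hinjA := IsFractionRing.injective A K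
  have hinjB := IsFractionRing.injective B L
  have hφinj : ∀ a : A, a ≠ 0 → φ a ≠ 0 := by
    intro a ha h0
    apply ha
    apply hinjA
    apply ψ.injective
    rw [hψ, h0, map_zero, map_zero, map_zero]
  obtain ⟨a, b, hb, rfl⟩ := IsFractionRing.div_surjective (A := A) g
  have hb0 : b ≠ 0 := nonZeroDivisors.ne_zero hb
  by_cases ha : a = 0
  · subst ha
    simp only [map_zero, zero_div]
    rw [ordZ_zero, ordZ_zero, zero_mul]
  · rw [map_div₀, hψ, hψ, ordZ_div (hφinj a ha) (hφinj b hb0), ordZ_div ha hb0,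
      ord_map_of_flat φ hφ a, ord_map_of_flat φ hφ b]
    have hA : Ring.ord A a ≠ ⊤ := Ring.ord_ne_top (mem_nonZeroDivisors_of_ne_zero ha)
    have hB : Ring.ord A b ≠ ⊤ := Ring.ord_ne_top (mem_nonZeroDivisors_of_ne_zero hb0)
    rw [ENat.toNat_mul, ENat.toNat_mul]
    push_cast
    ring

end Groth.Agent.Lib.Helper18.CycDiv
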