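import Mathlib
import Groth.Prelude.Def_Cyc
import Groth.Agent.Lib.Helper18.Cyc.DivFinite2
import Groth.Agent.Lib.Helper18.Cyc.OrdFlat
import Groth.Agent.Lib.Helper18.Cyc.OrdTransfer
import Groth.Agent.Lib.Helper24.Cat.LocQuotDim

set_option autoImplicit false
set_option linter.style.haveILetI false
universe u
open AlgebraicGeometry CategoryTheory IsLocalRing Order

namespace Groth.Agent.Lib.Helper18.CycDiv

open Groth.Agent.Lib.Helper13.StalkSpecLoc

variable {X : Scheme.{u}}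

theorem algebraMap_locQuot_mk {x ξ : X} (h : ξ ⤳ x) (t : X.presheaf.stalk x) :
    algebraMap (Cyc.LocQuot x ξ h) (X.residueField ξ)
      (Ideal.Quotient.mk (RingHom.ker (Cyc.specMap x ξ h)) t) = Cyc.specMap x ξ h t := rfl

theorem algebraMap_locQuot_injective {x ξ : X} (h : ξ ⤳ x) :
    Function.Injective (algebraMap (Cyc.LocQuot x ξ h) (X.residueField ξ)) := by
  rw [injective_iff_map_eq_zero]
  intro a ha
  obtain ⟨t, rfl⟩ := Ideal.Quotient.mk_surjective a
  rw [algebraMap_locQuot_mk] at ha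
  exact Ideal.Quotient.eq_zero_iff_mem.2 (RingHom.mem_ker.2 ha)

/-- Every element of `κ(ξ)` is a quotient of images of elements of `O_{X,x}`. -/
theorem exists_specMap_div {x ξ : X} (h : ξ ⤳ x) (g : X.residueField ξ) :
    ∃ a b : X.presheaf.stalk x, Cyc.specMap x ξ h b ≠ 0 ∧
      g = Cyc.specMap x ξ h a / Cyc.specMap x ξ h b := by
  obtain ⟨g', rfl⟩ := IsLocalRing.residue_surjective g
  letI := (X.presheaf.stalkSpecializes h).hom.toAlgebra
  haveI := isLocalization_stalkSpecializes h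
  obtain ⟨a, ⟨s, hs⟩, rfl⟩ := IsLocalization.exists_mk'_eq (primeOf h).primeCompl g'
  have hs' : Cyc.specMap x ξ h s ≠ 0 := by
    intro h0
    apply hs
    rw [← ker_specMap h]
    exact RingHom.mem_ker.2 h0
  refine ⟨a, s, hs', ?_⟩
  rw [eq_div_iff hs']
  have h1 : IsLocalization.mk' (X.presheaf.stalk ξ) a ⟨s, hs⟩ *
      algebraMap (X.presheaf.stalk x) (X.presheaf.stalk ξ) s =
      algebraMap (X.presheaf.stalk x) (X.presheaf.stalk ξ) a :=
    IsLocalization.mk'_spec _ a ⟨s, hs⟩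
  have h2 := congrArg (IsLocalRing.residue (X.presheaf.stalk ξ)) h1
  rw [map_mul] at h2
  exact h2

/-- `κ(ξ)` is the fraction field of `O_{X,x}/𝔭_ξ`. -/
theorem isFractionRing_locQuot {x ξ : X} (h : ξ ⤳ x) :
    IsFractionRing (Cyc.LocQuot x ξ h) (X.residueField ξ) := by
  haveI : FaithfulSMul (Cyc.LocQuot x ξ h) (X.residueField ξ) :=
    (faithfulSMul_iff_algebraMap_injective _ _).2 (algebraMap_locQuot_injective h)
  apply IsFractionRing.of_field
  intro z
  obtain ⟨a, b, -, hz⟩ := exists_specMap_div h z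
  exact ⟨Ideal.Quotient.mk _ a, Ideal.Quotient.mk _ b, hz⟩

theorem isDomain_locQuot {x ξ : X} (h : ξ ⤳ x) : IsDomain (Cyc.LocQuot x ξ h) := by
  have hp : (RingHom.ker (Cyc.specMap x ξ h)).IsPrime := RingHom.ker_isPrime _
  exact Ideal.Quotient.isDomain (RingHom.ker (Cyc.specMap x ξ h))

/-- On an integral scheme the prime of the generic point in any local ring is zero. -/
theorem ker_specMap_eq_bot [IsIntegral X] {x ξ : X} (h : ξ ⤳ x) (hξ : ξ = genericPoint X) :
    RingHom.ker (Cyc.specMap x ξ h) = ⊥ := by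
  have hmax : ∀ ξ' : X, ξ' ⤳ ξ → ξ' = ξ := by
    intro ξ' h'
    rw [hξ] at h' ⊢
    exact (h'.antisymm (genericPoint_specializes ξ')).eq
  have h1 := Groth.Agent.Lib.Helper24.LocQuotDim.ker_specMap_mem_minimalPrimes X x ξ h hmax
  rw [IsDomain.minimalPrimes_eq_singleton_bot] at h1
  exact h1

/-- The order of a quotient in terms of lengths. -/
theorem ordAt_div [IsLocallyNoetherian X] {x ξ : X} (h : ξ ⤳ x)
    (hd : Ring.KrullDimLE 1 (Cyc.LocQuot x ξ h)) (a b : X.presheaf.stalk x)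
    (ha : Cyc.specMap x ξ h a ≠ 0) (hb : Cyc.specMap x ξ h b ≠ 0) :
    Cyc.ordAt x ξ h (Cyc.specMap x ξ h a / Cyc.specMap x ξ h b) =
      ((Ring.ord (Cyc.LocQuot x ξ h) (Ideal.Quotient.mk (RingHom.ker (Cyc.specMap x ξ h)) a)).toNat : ℤ) -
        ((Ring.ord (Cyc.LocQuot x ξ h) (Ideal.Quotient.mk (RingHom.ker (Cyc.specMap x ξ h)) b)).toNat : ℤ) := by
  haveI := isFractionRing_locQuot h
  haveI := isDomain_locQuot h
  haveI : IsNoetherianRing (Cyc.LocQuot x ξ h) := Ideal.Quotient.isNoetherianRing (RingHom.ker (Cyc.specMap x ξ h))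
  unfold Cyc.ordAt
  have ha' : Ideal.Quotient.mk (RingHom.ker (Cyc.specMap x ξ h)) a ≠ 0 := by
    intro h0
    apply ha
    rw [← algebraMap_locQuot_mk, h0, map_zero]
  have hb' : Ideal.Quotient.mk (RingHom.ker (Cyc.specMap x ξ h)) b ≠ 0 := by
    intro h0
    apply hb
    rw [← algebraMap_locQuot_mk, h0, map_zero]
  rw [← algebraMap_locQuot_mk h a, ← algebraMap_locQuot_mk h b]
  exact ordZ_div ha' hb'


end Groth.Agent.Lib.Helper18.CycDiv
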