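import Mathlib
import Groth.Prelude.Def_Cyc
import Groth.Agent.Lib.Helper18.Cyc.LocQuotFrac
import Groth.Agent.Lib.Helper18.Cyc.DivTransfer

set_option autoImplicit false
set_option linter.style.haveILetI false
universe u
open AlgebraicGeometry CategoryTheory IsLocalRing Order

namespace Groth.Agent.Lib.Helper18.CycDiv

variable {X : Scheme.{u}}

/-- The ring isomorphism `O_{X,x} ≃ O_{X,x}/𝔭_ξ` when `𝔭_ξ = 0`. -/
noncomputable def stalkEquivLocQuot {x ξ : X} (h : ξ ⤳ x)
    (hk : RingHom.ker (Cyc.specMap x ξ h) = ⊥) : X.presheaf.stalk x ≃+* Cyc.LocQuot x ξ h :=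
  RingEquiv.ofBijective (Ideal.Quotient.mk (RingHom.ker (Cyc.specMap x ξ h)))
    ⟨by rw [RingHom.injective_iff_ker_eq_bot, Ideal.mk_ker, hk], Ideal.Quotient.mk_surjective⟩

/-- Transfer `ordAt` to the stalk itself when the prime of `ξ` vanishes. -/
theorem ordAt_eq_ordFrac_stalk {x ξ : X} (h : ξ ⤳ x)
    (hk : RingHom.ker (Cyc.specMap x ξ h) = ⊥) (g : X.residueField ξ) :
    Cyc.ordAt x ξ h g =
      @CycAlg.ordFrac (X.presheaf.stalk x) _ (X.residueField ξ) _
        (Cyc.specMap x ξ h).toAlgebra g := by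
  letI : Algebra (X.presheaf.stalk x) (X.residueField ξ) := (Cyc.specMap x ξ h).toAlgebra
  unfold Cyc.ordAt
  exact (ordFrac_eq_of_ringEquiv (stalkEquivLocQuot h hk) (RingEquiv.refl _) (fun r => rfl) g).symm

theorem cond_stalk [IsLocallyNoetherian X] {x ξ : X} (h : ξ ⤳ x)
    (hk : RingHom.ker (Cyc.specMap x ξ h) = ⊥)
    (hd : Ring.KrullDimLE 1 (Cyc.LocQuot x ξ h)) :
    Ring.KrullDimLE 1 (X.presheaf.stalk x) ∧
      @IsFractionRing (X.presheaf.stalk x) _ (X.residueField ξ) _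
        (Cyc.specMap x ξ h).toAlgebra := by
  letI : Algebra (X.presheaf.stalk x) (X.residueField ξ) := (Cyc.specMap x ξ h).toAlgebra
  haveI := isDomain_locQuot h
  have hc : IsNoetherianRing (Cyc.LocQuot x ξ h) ∧ Ring.KrullDimLE 1 (Cyc.LocQuot x ξ h) ∧
      Nontrivial (Cyc.LocQuot x ξ h) ∧ IsFractionRing (Cyc.LocQuot x ξ h) (X.residueField ξ) :=
    ⟨Ideal.Quotient.isNoetherianRing (RingHom.ker (Cyc.specMap x ξ h)), hd, inferInstance,
      isFractionRing_locQuot h⟩
  have hc' := cond_of_ringEquiv (stalkEquivLocQuot h hk).symm (RingEquiv.refl (X.residueField ξ))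
    (fun r => by
      obtain ⟨t, rfl⟩ := Ideal.Quotient.mk_surjective r
      have : (stalkEquivLocQuot h hk).symm (Ideal.Quotient.mk _ t) = t :=
        (stalkEquivLocQuot h hk).symm_apply_apply t
      rw [this]
      rfl) hc
  exact ⟨hc'.2.1, hc'.2.2.2⟩

/-- Orders multiply by the fibre length under a flat morphism (integral local situation). -/
theorem ordAt_flat_pullback {X Y : Scheme.{u}} [IsLocallyNoetherian X] [IsLocallyNoetherian Y]
    (f : X ⟶ Y) [Flat f] {x ξ : X} (h : ξ ⤳ x) (h' : f ξ ⤳ f x)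
    (hkA : RingHom.ker (Cyc.specMap (f x) (f ξ) h') = ⊥)
    (hkB : RingHom.ker (Cyc.specMap x ξ h) = ⊥)
    (hdA : Ring.KrullDimLE 1 (Cyc.LocQuot (f x) (f ξ) h'))
    (hdB : Ring.KrullDimLE 1 (Cyc.LocQuot x ξ h)) (g : Y.residueField (f ξ)) :
    Cyc.ordAt x ξ h ((f.residueFieldMap ξ).hom g) = Cyc.ordAt (f x) (f ξ) h' g *
      ((Module.length (X.presheaf.stalk x) (X.presheaf.stalk x ⧸
        Ideal.map (f.stalkMap x).hom (maximalIdeal (Y.presheaf.stalk (f x))))).toNat : ℤ) := by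
  rw [ordAt_eq_ordFrac_stalk h hkB, ordAt_eq_ordFrac_stalk h' hkA]
  letI algA : Algebra (Y.presheaf.stalk (f x)) (Y.residueField (f ξ)) :=
    (Cyc.specMap (f x) (f ξ) h').toAlgebra
  letI algB : Algebra (X.presheaf.stalk x) (X.residueField ξ) := (Cyc.specMap x ξ h).toAlgebra
  obtain ⟨hA1, hA2⟩ := cond_stalk h' hkA hdA
  obtain ⟨hB1, hB2⟩ := cond_stalk h hkB hdB
  haveI := hA1; haveI := hA2; haveI := hB1; haveI := hB2
  haveI : IsDomain (Y.presheaf.stalk (f x)) :=
    Function.Injective.isDomain (Cyc.specMap (f x) (f ξ) h')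
      ((RingHom.injective_iff_ker_eq_bot _).2 hkA)
  haveI : IsDomain (X.presheaf.stalk x) :=
    Function.Injective.isDomain (Cyc.specMap x ξ h) ((RingHom.injective_iff_ker_eq_bot _).2 hkB)
  exact ordFrac_flat_local (f.stalkMap x).hom (Flat.stalkMap f x) (f.residueFieldMap ξ).hom
    (fun a => (specMap_stalkMap f h h' a).symm) g

/-- If `ξ = y`, an element of `O_{Y,y}` with nonzero image in `κ(ξ)` is a unit. -/
theorem isUnit_of_specMap_ne_zero {y ξ : X} (h : ξ ⤳ y) (hξy : ξ = y) (a : X.presheaf.stalk y)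
    (ha : Cyc.specMap y ξ h a ≠ 0) : IsUnit a := by
  subst hξy
  by_contra hu
  apply ha
  have hm : a ∈ maximalIdeal (X.presheaf.stalk ξ) := (IsLocalRing.mem_maximalIdeal a).2 hu
  unfold Cyc.specMap
  have h1 : X.presheaf.stalkSpecializes h = 𝟙 _ := TopCat.Presheaf.stalkSpecializes_refl _ ξ
  rw [h1]
  exact (IsLocalRing.residue_eq_zero_iff a).2 hm

/-- Dimension one of `O_{X,x}/𝔭_ξ` from a dimension function. -/
theorem krullDimLE_one_locQuot (δ : X → ℤ) (hδ : Cyc.IsDimFun X δ) {x ξ : X} (h : ξ ⤳ x)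
    (h1 : δ x + 1 = δ ξ) : Ring.KrullDimLE 1 (Cyc.LocQuot x ξ h) := by
  rw [Ring.krullDimLE_iff, Groth.Agent.Lib.Helper24.LocQuotDim.ringKrullDim_locQuot X δ hδ x ξ h]
  have : δ ξ - δ x = 1 := by linarith
  rw [this]
  rfl

/-- A flat morphism of integral schemes maps the generic point to the generic point. -/
theorem map_genericPoint_of_flat {X Y : Scheme.{u}} [IsIntegral X] [IsIntegral Y] (f : X ⟶ Y)
    [Flat f] : f (genericPoint X) = genericPoint Y := by
  obtain ⟨a', ha', hfa'⟩ := Flat.generalizingMap f (genericPoint_specializes (f (genericPoint X)))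
  have : a' = genericPoint X := (ha'.antisymm (genericPoint_specializes a')).eq
  rw [← hfa', this]

end Groth.Agent.Lib.Helper18.CycDiv
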