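import Mathlib
import Groth.Prelude.Def_Cyc
import Groth.Agent.Lib.Helper18.Cyc.DivFamily

set_option autoImplicit false
universe u
open AlgebraicGeometry CategoryTheory IsLocalRing

namespace Groth.Agent.Lib.Helper18.CycDiv

variable {X Z : Scheme.{u}}

/-- residue degree one when the residue field map is surjective -/
theorem residueDegree_eq_one_of_surjective (i : Z ⟶ X) (z : Z)
    (hs : Function.Surjective (i.residueFieldMap z).hom) : i.residueDegree z = 1 := by
  unfold Scheme.Hom.residueDegree
  letI := (i.residueFieldMap z).hom.toAlgebra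
  have hbij : Function.Bijective (algebraMap (X.residueField (i z)) (Z.residueField z)) :=
    ⟨(i.residueFieldMap z).hom.injective, hs⟩
  have e : X.residueField (i z) ≃ₗ[X.residueField (i z)] Z.residueField z :=
    LinearEquiv.ofBijective (Algebra.linearMap _ _) hbij
  rw [← e.finrank_eq]
  exact Module.finrank_self _

/-- pushforward of a cycle along an injective morphism with trivial residue extensions, at a
point of the image -/
theorem map_apply_of_injective (i : Z ⟶ X) [QuasiCompact i] (hinj : Function.Injective i)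
    (hres : ∀ z, Function.Surjective (i.residueFieldMap z).hom) (δZ : Z → ℤ) (δ : X → ℤ)
    (hδ : ∀ z, δZ z = δ (i z)) (α : AlgebraicCycle Z ℤ) (z : Z) :
    (AlgebraicCycle.map i δZ δ α) (i z) = α z := by
  simp only [AlgebraicCycle.map, Function.locallyFinsupp.map_apply]
  rw [finsum_mem_def, finsum_eq_single _ z,
    Set.indicator_of_mem (show z ∈ i ⁻¹' {i z} from rfl)]
  · unfold AlgebraicCycle.mapCoeff
    rw [if_pos (hδ z), residueDegree_eq_one_of_surjective i z (hres z)]
    simp
  · intro y hne
    apply Set.indicator_of_notMem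
    intro hy
    exact hne (hinj hy)

theorem map_apply_of_notMem_range (i : Z ⟶ X) [QuasiCompact i] (δZ : Z → ℤ) (δ : X → ℤ)
    (α : AlgebraicCycle Z ℤ) (x : X) (hx : x ∉ Set.range i) :
    (AlgebraicCycle.map i δZ δ α) x = 0 := by
  simp only [AlgebraicCycle.map, Function.locallyFinsupp.map_apply]
  apply finsum_mem_eq_zero_of_forall_eq_zero
  intro y hy
  exact absurd ⟨y, hy⟩ hx

/-- transport of a principal divisor along an equality of points -/
theorem divFun_cast (δ : X → ℤ) {p q : X} (e : p = q) (f : X.residueField p) :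
    Cyc.divFun δ q (e ▸ f) = Cyc.divFun δ p f := by
  subst e
  rfl

theorem cast_ne_zero {p q : X} (e : p = q) (f : X.residueField p) (hf : f ≠ 0) :
    (e ▸ f : X.residueField q) ≠ 0 := by
  subst e
  exact hf

/-- the principal divisor of the inverse -/
theorem divFun_inv (δ : X → ℤ) (ξ : X) (f : X.residueField ξ) (x : X) :
    Cyc.divFun δ ξ f⁻¹ x = - Cyc.divFun δ ξ f x := by
  unfold Cyc.divFun
  by_cases hc : ξ ⤳ x ∧ δ x + 1 = δ ξ
  · rw [dif_pos hc, dif_pos hc]
    unfold Cyc.ordAt CycAlg.ordFrac
    split_ifs with hcond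
    · haveI := hcond.1; haveI := hcond.2.1; haveI := hcond.2.2.1; haveI := hcond.2.2.2
      rw [map_inv₀]
      generalize Ring.ordFrac (Cyc.LocQuot x ξ hc.1) f = w
      induction w using WithZero.recZeroCoe with
      | zero => simp
      | coe a => simp [← WithZero.coe_inv]
    · simp
  · rw [dif_neg hc, dif_neg hc]
    simp

/-- the induced function on a closed subscheme is again a dimension function -/
theorem isDimFun_comp_of_isClosedImmersion (i : Z ⟶ X) [IsClosedImmersion i] (δ : X → ℤ)
    (hδ : Cyc.IsDimFun X δ) : Cyc.IsDimFun Z (fun z => δ (i z)) := by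
  intro x y hxy hne
  have hind := i.isClosedEmbedding.isEmbedding.isInducing
  have hinj := i.isClosedEmbedding.injective
  have h1 := hδ (i x) (i y) (hxy.map i.continuous) (fun h => hne (hinj h))
  refine ⟨h1.1, fun himm => h1.2 ?_⟩
  intro z hxz hzy
  have hzr : z ∈ Set.range i :=
    hxz.mem_closed i.isClosedEmbedding.isClosed_range ⟨x, rfl⟩
  obtain ⟨z', rfl⟩ := hzr
  rcases himm z' (hind.specializes_iff.1 hxz) (hind.specializes_iff.1 hzy) with h | h
  · exact Or.inl (congrArg _ h)
  · exact Or.inr (congrArg _ h)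

/-- local finiteness of a family of points pulls back along a continuous map -/
theorem locallyFinite_comap (i : Z ⟶ X) {ι ι' : Type*} (ξ : ι → X) (η : ι' → Z) (r : ι' → ι)
    (hr : Function.Injective r) (hη : ∀ j, i (η j) = ξ (r j))
    (h : ∀ x : X, ∃ V : Set X, IsOpen V ∧ x ∈ V ∧ {j | (closure {ξ j} ∩ V).Nonempty}.Finite) :
    ∀ z : Z, ∃ V : Set Z, IsOpen V ∧ z ∈ V ∧ {j | (closure {η j} ∩ V).Nonempty}.Finite := by
  intro z
  obtain ⟨V, hVo, hzV, hfin⟩ := h (i z)
  refine ⟨i ⁻¹' V, hVo.preimage i.continuous, hzV, ?_⟩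
  refine (hfin.preimage (hr.injOn)).subset ?_
  rintro j ⟨y, hy, hyV⟩
  refine ⟨i y, ?_, hyV⟩
  have hsp : η j ⤳ y := specializes_iff_mem_closure.2 hy
  have := hsp.map i.continuous
  rw [hη j] at this
  exact specializes_iff_mem_closure.1 this

end Groth.Agent.Lib.Helper18.CycDiv
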