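import Mathlib
import Groth.Prelude.Def_Coh
import Groth.Prelude.Def_FlatMod2
import Groth.Prelude.Def_Pic

/-!
# Stalks of invertible modules

For an `O_X`-module `M`: germs are semilinear, specialization maps of stalks are semilinear.
For an invertible module `L`: around every point there is a local section whose germs are free
generators of all the stalks nearby.
-/

set_option autoImplicit false
set_option linter.style.haveILetI false
open CategoryTheory CategoryTheory.Limits AlgebraicGeometry TopologicalSpace Opposite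

namespace Groth.Agent.Lib.Helper18.InvStalk

universe u

variable {X : Scheme.{u}}

section General

variable (M : X.Modules)

theorem germ_smul (x : X) (U : X.Opens) (hx : x ∈ U) (r : Γ(X, U)) (s : Γ(M, U)) :
    M.presheaf.germ U x hx (r • s) = X.presheaf.germ U x hx r • M.presheaf.germ U x hx s :=
  PresheafOfModules.germ_smul (R := X.presheaf) M.val x U hx r s

theorem germ_add (x : X) (U : X.Opens) (hx : x ∈ U) (s t : Γ(M, U)) :
    M.presheaf.germ U x hx (s + t) = M.presheaf.germ U x hx s + M.presheaf.germ U x hx t :=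
  map_add _ _ _

/-- Two elements of stalks (ring and module) can be represented on a common open. -/
theorem exists_germ_pair (x : X) (a : X.presheaf.stalk x) (m : M.presheaf.stalk x) :
    ∃ (U : X.Opens) (hx : x ∈ U) (r : Γ(X, U)) (s : Γ(M, U)),
      X.presheaf.germ U x hx r = a ∧ M.presheaf.germ U x hx s = m := by
  obtain ⟨U₁, hx₁, r, rfl⟩ := TopCat.Presheaf.exists_germ_eq X.presheaf a
  obtain ⟨U₂, hx₂, s, rfl⟩ := TopCat.Presheaf.exists_germ_eq M.presheaf m
  refine ⟨U₁ ⊓ U₂, ⟨hx₁, hx₂⟩, X.presheaf.map (homOfLE inf_le_left).op r,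
    M.presheaf.map (homOfLE inf_le_right).op s, ?_, ?_⟩
  · exact TopCat.Presheaf.germ_res_apply X.presheaf (homOfLE inf_le_left) x _ r
  · exact TopCat.Presheaf.germ_res_apply M.presheaf (homOfLE inf_le_right) x _ s

/-- The specialization map of stalks of a module is semilinear over the specialization map of
the local rings. -/
theorem stalkSpecializes_smul {ξ x : X} (h : ξ ⤳ x) (a : X.presheaf.stalk x)
    (m : M.presheaf.stalk x) :
    M.presheaf.stalkSpecializes h (a • m) =
      X.presheaf.stalkSpecializes h a • M.presheaf.stalkSpecializes h m := by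
  obtain ⟨U, hx, r, s, rfl, rfl⟩ := exists_germ_pair M x a m
  have hξ : ξ ∈ U := h.mem_open U.isOpen hx
  rw [← germ_smul]
  rw [TopCat.Presheaf.germ_stalkSpecializes_apply, TopCat.Presheaf.germ_stalkSpecializes_apply,
    TopCat.Presheaf.germ_stalkSpecializes_apply, germ_smul]

end General

section Invertible

/-- A ring section viewed as a section of the structure module. -/
def toUnit (U : X.Opens) (s : Γ(X, U)) : Γ(Coh.structureModule X, U) := s

/-- A section of the structure module viewed as a ring section. -/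
def ofUnit (U : X.Opens) (s : Γ(Coh.structureModule X, U)) : Γ(X, U) := s

theorem toUnit_ofUnit (U : X.Opens) (s : Γ(Coh.structureModule X, U)) :
    toUnit U (ofUnit U s) = s := rfl

theorem ofUnit_toUnit (U : X.Opens) (s : Γ(X, U)) : ofUnit U (toUnit U s) = s := rfl

theorem smul_toUnit (U : X.Opens) (r s : Γ(X, U)) : r • toUnit U s = toUnit U (r * s) := rfl

theorem toUnit_res {U V : X.Opens} (i : U ⟶ V) (s : Γ(X, V)) :
    (Coh.structureModule X).presheaf.map i.op (toUnit V s) = toUnit U (X.presheaf.map i.op s) :=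
  rfl

theorem toUnit_zero (U : X.Opens) : toUnit U (0 : Γ(X, U)) = 0 := rfl

theorem toUnit_injective (U : X.Opens) : Function.Injective (toUnit (X := X) U) :=
  fun _ _ h => h

end Invertible

section Generator

variable (L : X.Modules) (U : X.Opens)
  (φ : L.restrict U.ι ≅ Coh.structureModule (↑U : Scheme.{u}))

/-- The local generator attached to a trivialization. -/
noncomputable def gen : Γ(L.restrict U.ι, ⊤) := φ.inv.app ⊤ (toUnit ⊤ 1)

theorem inv_hom_app (W' : (↑U : Scheme.{u}).Opens) (σ : Γ(L.restrict U.ι, W')) :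
    φ.inv.app W' (φ.hom.app W' σ) = σ := by
  have h : (φ.hom.app W' ≫ φ.inv.app W') = 𝟙 _ := by
    rw [← Scheme.Modules.Hom.comp_app, φ.hom_inv_id, Scheme.Modules.Hom.id_app]
  have h2 := congrArg (fun g => (ConcreteCategory.hom g) σ) h
  simpa only [ConcreteCategory.comp_apply, ConcreteCategory.id_apply] using h2

theorem hom_inv_app (W' : (↑U : Scheme.{u}).Opens)
    (τ : Γ(Coh.structureModule (↑U : Scheme.{u}), W')) :
    φ.hom.app W' (φ.inv.app W' τ) = τ := by
  have h : (φ.inv.app W' ≫ φ.hom.app W') = 𝟙 _ := by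
    rw [← Scheme.Modules.Hom.comp_app, φ.inv_hom_id, Scheme.Modules.Hom.id_app]
  have h2 := congrArg (fun g => (ConcreteCategory.hom g) τ) h
  simpa only [ConcreteCategory.comp_apply, ConcreteCategory.id_apply] using h2

theorem inv_app_res {W' V' : (↑U : Scheme.{u}).Opens} (i : W' ⟶ V')
    (τ : Γ(Coh.structureModule (↑U : Scheme.{u}), V')) :
    φ.inv.app W' ((Coh.structureModule (↑U : Scheme.{u})).presheaf.map i.op τ) =
      (L.restrict U.ι).presheaf.map i.op (φ.inv.app V' τ) := by
  have h := congrArg (fun g => (ConcreteCategory.hom g) τ) (φ.inv.mapPresheaf.naturality i.op)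
  simpa only [ConcreteCategory.comp_apply, Scheme.Modules.mapPresheaf_app] using h

theorem hom_app_res {W' V' : (↑U : Scheme.{u}).Opens} (i : W' ⟶ V')
    (σ : Γ(L.restrict U.ι, V')) :
    φ.hom.app W' ((L.restrict U.ι).presheaf.map i.op σ) =
      (Coh.structureModule (↑U : Scheme.{u})).presheaf.map i.op (φ.hom.app V' σ) := by
  have h := congrArg (fun g => (ConcreteCategory.hom g) σ) (φ.hom.mapPresheaf.naturality i.op)
  simpa only [ConcreteCategory.comp_apply, Scheme.Modules.mapPresheaf_app] using h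

/-- Every local section of `L|_U` is a unique multiple of the generator. -/
theorem eq_smul_gen (W' : (↑U : Scheme.{u}).Opens) (σ : Γ(L.restrict U.ι, W')) :
    σ = ofUnit W' (φ.hom.app W' σ) •
      (L.restrict U.ι).presheaf.map (homOfLE (le_top : W' ≤ ⊤)).op (gen L U φ) := by
  set r := ofUnit W' (φ.hom.app W' σ) with hr
  have h1 : φ.hom.app W' σ = r • (Coh.structureModule (↑U : Scheme.{u})).presheaf.map
      (homOfLE (le_top : W' ≤ ⊤)).op (toUnit ⊤ 1) := by
    rw [toUnit_res, map_one, smul_toUnit, mul_one, hr, toUnit_ofUnit]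
  calc σ = φ.inv.app W' (φ.hom.app W' σ) := (inv_hom_app L U φ W' σ).symm
    _ = φ.inv.app W' (r • (Coh.structureModule (↑U : Scheme.{u})).presheaf.map
          (homOfLE (le_top : W' ≤ ⊤)).op (toUnit ⊤ 1)) := by rw [← h1]
    _ = r • φ.inv.app W' ((Coh.structureModule (↑U : Scheme.{u})).presheaf.map
          (homOfLE (le_top : W' ≤ ⊤)).op (toUnit ⊤ 1)) := Scheme.Modules.Hom.app_smul _ _ _
    _ = _ := by rw [inv_app_res]; rfl

/-- The trivialization sends the restrictions of the generator to `1`. -/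
theorem hom_app_smul_gen (W' : (↑U : Scheme.{u}).Opens) (r : Γ((↑U : Scheme.{u}), W')) :
    φ.hom.app W' (r • (L.restrict U.ι).presheaf.map (homOfLE (le_top : W' ≤ ⊤)).op
      (gen L U φ)) = toUnit W' r := by
  rw [Scheme.Modules.Hom.app_smul, hom_app_res]
  unfold gen
  rw [hom_inv_app, toUnit_res, map_one, smul_toUnit, mul_one]

end Generator

section GeneratorStalk

variable (L : X.Modules) (U : X.Opens)
  (φ : L.restrict U.ι ≅ Coh.structureModule (↑U : Scheme.{u}))

/-- The generator as a section of `L` over `U.ι ''ᵁ ⊤`. -/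
noncomputable def genX : Γ(L, U.ι ''ᵁ ⊤) := gen L U φ

theorem image_preimage_le (W : X.Opens) : U.ι ''ᵁ (U.ι ⁻¹ᵁ W) ≤ W := by
  rw [Scheme.Hom.image_preimage_eq_opensRange_inf]
  exact inf_le_right

theorem mem_image_preimage {W : X.Opens} {y : X} (hy : y ∈ U.ι ''ᵁ ⊤) (hyW : y ∈ W) :
    y ∈ U.ι ''ᵁ (U.ι ⁻¹ᵁ W) := by
  rw [Scheme.Hom.image_preimage_eq_opensRange_inf]
  refine ⟨?_, hyW⟩
  rwa [← Scheme.Hom.image_top_eq_opensRange]

/-- In terms of the module structure of `L`: a section of `L` over an open of the form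
`U.ι ''ᵁ W'` is a multiple of the restriction of the generator. -/
theorem eq_smul_genX (W' : (↑U : Scheme.{u}).Opens) (σ : Γ(L, U.ι ''ᵁ W')) :
    ∃ ρ : Γ(X, U.ι ''ᵁ W'), σ = ρ •
      L.presheaf.map (homOfLE (Scheme.Hom.image_mono U.ι (le_top : W' ≤ ⊤))).op (genX L U φ) := by
  refine ⟨(U.ι.appIso W').inv (ofUnit W' (φ.hom.app W' (show Γ(L.restrict U.ι, W') from σ))), ?_⟩
  exact eq_smul_gen L U φ W' (show Γ(L.restrict U.ι, W') from σ)

/-- If a multiple of the restriction of the generator vanishes, the coefficient vanishes. -/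
theorem eq_zero_of_smul_genX (W' : (↑U : Scheme.{u}).Opens) (ρ : Γ(X, U.ι ''ᵁ W'))
    (h : ρ • L.presheaf.map (homOfLE (Scheme.Hom.image_mono U.ι (le_top : W' ≤ ⊤))).op
      (genX L U φ) = 0) : ρ = 0 := by
  have h1 := hom_app_smul_gen L U φ W' ((U.ι.appIso W').hom ρ)
  have h2 : ((U.ι.appIso W').hom ρ) • (L.restrict U.ι).presheaf.map
      (homOfLE (le_top : W' ≤ ⊤)).op (gen L U φ) = 0 := by
    have : (U.ι.appIso W').inv ((U.ι.appIso W').hom ρ) = ρ := by
      rw [← CommRingCat.comp_apply, Iso.hom_inv_id]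
      rfl
    have h3 : ((U.ι.appIso W').hom ρ) • (L.restrict U.ι).presheaf.map
        (homOfLE (le_top : W' ≤ ⊤)).op (gen L U φ) =
        (U.ι.appIso W').inv ((U.ι.appIso W').hom ρ) •
          L.presheaf.map (homOfLE (Scheme.Hom.image_mono U.ι (le_top : W' ≤ ⊤))).op
            (genX L U φ) := rfl
    rw [h3, this]
    exact h
  rw [h2, map_zero] at h1
  have h4 : (U.ι.appIso W').hom ρ = 0 := toUnit_injective W' (h1.symm.trans (toUnit_zero W').symm)
  have h5 := congrArg (U.ι.appIso W').inv h4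
  rw [← CommRingCat.comp_apply, Iso.hom_inv_id, map_zero] at h5
  exact h5

theorem genX_spec (y : X) (hy : y ∈ U.ι ''ᵁ ⊤) :
    Submodule.span (X.presheaf.stalk y) {L.presheaf.germ (U.ι ''ᵁ ⊤) y hy (genX L U φ)} = ⊤ ∧
      ∀ a : X.presheaf.stalk y, a • L.presheaf.germ (U.ι ''ᵁ ⊤) y hy (genX L U φ) = 0 → a = 0 := by
  constructor
  · rw [eq_top_iff]
    rintro μ -
    obtain ⟨W, hyW, σ, rfl⟩ := TopCat.Presheaf.exists_germ_eq L.presheaf μ
    set W' := U.ι ⁻¹ᵁ W with hW'
    have hyW₁ : y ∈ U.ι ''ᵁ W' := mem_image_preimage U hy hyW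
    obtain ⟨ρ, hρ⟩ := eq_smul_genX L U φ W'
      (L.presheaf.map (homOfLE (image_preimage_le U W)).op σ)
    have h1 : L.presheaf.germ W y hyW σ = L.presheaf.germ (U.ι ''ᵁ W') y hyW₁
        (L.presheaf.map (homOfLE (image_preimage_le U W)).op σ) :=
      (TopCat.Presheaf.germ_res_apply L.presheaf (homOfLE (image_preimage_le U W)) y hyW₁ σ).symm
    rw [h1, hρ, germ_smul, TopCat.Presheaf.germ_res_apply]
    exact Submodule.smul_mem _ _ (Submodule.subset_span rfl)
  · intro a ha
    obtain ⟨W, hyW, ρ, rfl⟩ := TopCat.Presheaf.exists_germ_eq X.presheaf a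
    set W' := U.ι ⁻¹ᵁ W with hW'
    have hyW₁ : y ∈ U.ι ''ᵁ W' := mem_image_preimage U hy hyW
    set ρ₁ := X.presheaf.map (homOfLE (image_preimage_le U W)).op ρ with hρ₁
    have h1 : X.presheaf.germ W y hyW ρ = X.presheaf.germ (U.ι ''ᵁ W') y hyW₁ ρ₁ :=
      (TopCat.Presheaf.germ_res_apply X.presheaf (homOfLE (image_preimage_le U W)) y hyW₁ ρ).symm
    have h2 : L.presheaf.germ (U.ι ''ᵁ ⊤) y hy (genX L U φ) =
        L.presheaf.germ (U.ι ''ᵁ W') y hyW₁
          (L.presheaf.map (homOfLE (Scheme.Hom.image_mono U.ι (le_top : W' ≤ ⊤))).op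
            (genX L U φ)) :=
      (TopCat.Presheaf.germ_res_apply L.presheaf _ y hyW₁ _).symm
    rw [h1, h2, ← germ_smul] at ha
    have h0 : L.presheaf.germ (U.ι ''ᵁ W') y hyW₁ (ρ₁ •
        L.presheaf.map (homOfLE (Scheme.Hom.image_mono U.ι (le_top : W' ≤ ⊤))).op
          (genX L U φ)) = L.presheaf.germ (U.ι ''ᵁ W') y hyW₁ 0 := by
      rw [ha, map_zero]
    obtain ⟨W₂, hyW₂, i₁, i₂, hres⟩ := TopCat.Presheaf.germ_eq L.presheaf y hyW₁ hyW₁ _ _ h0
    set W₂' := U.ι ⁻¹ᵁ W₂ with hW₂'
    have hyW₃ : y ∈ U.ι ''ᵁ W₂' := mem_image_preimage U hy hyW₂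
    have hle : U.ι ''ᵁ W₂' ≤ U.ι ''ᵁ W' := (image_preimage_le U W₂).trans i₁.le
    set ρ₃ := X.presheaf.map (homOfLE hle).op ρ₁ with hρ₃
    have h3 : ρ₃ • L.presheaf.map
        (homOfLE (Scheme.Hom.image_mono U.ι (le_top : W₂' ≤ ⊤))).op (genX L U φ) = 0 := by
      have h4 := congrArg (L.presheaf.map (homOfLE (image_preimage_le U W₂)).op) hres
      rw [map_zero, map_zero] at h4
      have h5 : L.presheaf.map (homOfLE (image_preimage_le U W₂)).op
          (L.presheaf.map i₁.op (ρ₁ • L.presheaf.map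
            (homOfLE (Scheme.Hom.image_mono U.ι (le_top : W' ≤ ⊤))).op (genX L U φ))) =
          ρ₃ • L.presheaf.map
            (homOfLE (Scheme.Hom.image_mono U.ι (le_top : W₂' ≤ ⊤))).op (genX L U φ) := by
        rw [← ConcreteCategory.comp_apply, ← L.presheaf.map_comp, ← op_comp]
        rw [show (homOfLE (image_preimage_le U W₂) ≫ i₁) = homOfLE hle from rfl]
        rw [Scheme.Modules.map_smul]
        congr 1
        rw [← ConcreteCategory.comp_apply, ← L.presheaf.map_comp, ← op_comp]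
        rfl
      rw [← h5]
      exact h4
    have h6 := eq_zero_of_smul_genX L U φ W₂' ρ₃ h3
    rw [h1]
    have h7 : X.presheaf.germ (U.ι ''ᵁ W') y hyW₁ ρ₁ = X.presheaf.germ (U.ι ''ᵁ W₂') y hyW₃ ρ₃ :=
      (TopCat.Presheaf.germ_res_apply X.presheaf (homOfLE hle) y hyW₃ ρ₁).symm
    rw [h7, h6, map_zero]

end GeneratorStalk

/-- Around every point, an invertible module has a local section whose germs freely generate the
stalks. -/
theorem exists_local_generator (L : X.Modules) (hL : PicF.IsInvertible L) (x : X) :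
    ∃ (V : X.Opens) (_ : x ∈ V) (e : Γ(L, V)), ∀ (y : X) (hy : y ∈ V),
      Submodule.span (X.presheaf.stalk y) {L.presheaf.germ V y hy e} = ⊤ ∧
      ∀ a : X.presheaf.stalk y, a • L.presheaf.germ V y hy e = 0 → a = 0 := by
  obtain ⟨U, hxU, ⟨φ⟩⟩ := hL x
  refine ⟨U.ι ''ᵁ ⊤, ?_, genX L U φ, fun y hy => genX_spec L U φ y hy⟩
  rw [Scheme.Opens.ι_image_top]
  exact hxU

end Groth.Agent.Lib.Helper18.InvStalk
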