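import Mathlib
import Groth.Prelude.Def_C1
import Groth.Prelude.Def_Pic
import Groth.Agent.Lib.Helper18.Cyc.InvStalk
import Groth.Agent.Lib.Helper18.Cyc.LocQuotFrac
import Groth.Agent.Lib.Helper18.Cyc.PullDiv

/-!
# Orders of rational sections of invertible modules
-/

set_option autoImplicit false
set_option linter.style.haveILetI false
open CategoryTheory AlgebraicGeometry IsLocalRing

namespace Groth.Agent.Lib.Helper18.C1Core

universe u

open Groth.Agent.Lib.Helper18.InvStalk Groth.Agent.Lib.Helper18.CycDiv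

/-- `g` is a free generator of the module `M`. -/
def FreeGen (R : Type*) {M : Type*} [CommRing R] [AddCommGroup M] [Module R M] (g : M) : Prop :=
  Submodule.span R {g} = ⊤ ∧ ∀ a : R, a • g = 0 → a = 0

section Alg

variable {R : Type*} {M : Type*} [CommRing R] [AddCommGroup M] [Module R M]

theorem FreeGen.exists_smul {g : M} (hg : FreeGen R g) (m : M) : ∃ a : R, m = a • g := by
  have : m ∈ Submodule.span R {g} := hg.1 ▸ Submodule.mem_top
  obtain ⟨a, ha⟩ := Submodule.mem_span_singleton.1 this
  exact ⟨a, ha.symm⟩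

theorem FreeGen.smul_inj {g : M} (hg : FreeGen R g) {a b : R} (h : a • g = b • g) : a = b := by
  have : (a - b) • g = 0 := by rw [sub_smul, h, sub_self]
  exact sub_eq_zero.1 (hg.2 _ this)

/-- Any other generator differs from a free generator by a unit, and is free. -/
theorem FreeGen.of_span_eq_top {g t : M} (hg : FreeGen R g)
    (ht : Submodule.span R {t} = ⊤) : ∃ u : Rˣ, t = (u : R) • g ∧ FreeGen R t := by
  obtain ⟨u, hu⟩ := hg.exists_smul t
  have hgt : g ∈ Submodule.span R {t} := ht ▸ Submodule.mem_top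
  obtain ⟨v, hv⟩ := Submodule.mem_span_singleton.1 hgt
  have h1 : (v * u) • g = (1 : R) • g := by rw [mul_smul, ← hu, hv, one_smul]
  have hvu : v * u = 1 := hg.smul_inj h1
  refine ⟨⟨u, v, by rw [mul_comm]; exact hvu, hvu⟩, hu, ht, fun a ha => ?_⟩
  rw [hu, ← mul_smul] at ha
  have h2 := hg.2 _ ha
  have : a = a * u * v := by rw [mul_assoc, mul_comm u v, hvu, mul_one]
  rw [this, h2, zero_mul]

theorem FreeGen.unit_smul {g : M} (hg : FreeGen R g) (u : Rˣ) : FreeGen R ((u : R) • g) := by
  constructor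
  · rw [eq_top_iff]
    rintro m -
    obtain ⟨a, rfl⟩ := hg.exists_smul m
    refine Submodule.mem_span_singleton.2 ⟨a * ↑u⁻¹, ?_⟩
    rw [← mul_smul, mul_assoc, Units.inv_mul, mul_one]
  · intro a ha
    rw [← mul_smul] at ha
    have h2 := hg.2 _ ha
    have : a = a * u * ↑u⁻¹ := by rw [mul_assoc, Units.mul_inv, mul_one]
    rw [this, h2, zero_mul]

end Alg

variable {X : Scheme.{u}}

section Inv

variable (L : X.Modules) (hL : PicF.IsInvertible L)

include hL

/-- Every stalk of an invertible module has a free generator. -/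
theorem exists_freeGen (x : X) : ∃ g : L.presheaf.stalk x, FreeGen (X.presheaf.stalk x) g := by
  obtain ⟨V, hxV, e, he⟩ := exists_local_generator L hL x
  exact ⟨_, he x hxV⟩

theorem exists_span_eq_top (x : X) :
    ∃ t : L.presheaf.stalk x, Submodule.span (X.presheaf.stalk x) {t} = ⊤ := by
  obtain ⟨g, hg⟩ := exists_freeGen L hL x
  exact ⟨g, hg.1⟩

theorem freeGen_of_span_eq_top {x : X} {t : L.presheaf.stalk x}
    (ht : Submodule.span (X.presheaf.stalk x) {t} = ⊤) : FreeGen (X.presheaf.stalk x) t := by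
  obtain ⟨g, hg⟩ := exists_freeGen L hL x
  exact (hg.of_span_eq_top ht).choose_spec.2

/-- The specialization of a generator is a free generator. -/
theorem freeGen_stalkSpecializes {ξ x : X} (h : ξ ⤳ x) {t : L.presheaf.stalk x}
    (ht : Submodule.span (X.presheaf.stalk x) {t} = ⊤) :
    FreeGen (X.presheaf.stalk ξ) (L.presheaf.stalkSpecializes h t) := by
  obtain ⟨V, hxV, e, he⟩ := exists_local_generator L hL x
  have hξV : ξ ∈ V := h.mem_open V.isOpen hxV
  obtain ⟨u, hu, -⟩ := (show FreeGen (X.presheaf.stalk x) _ from he x hxV).of_span_eq_top ht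
  rw [hu, stalkSpecializes_smul, TopCat.Presheaf.germ_stalkSpecializes_apply]
  have hu' : IsUnit (X.presheaf.stalkSpecializes h (u : X.presheaf.stalk x)) :=
    u.isUnit.map (X.presheaf.stalkSpecializes h).hom
  exact (show FreeGen (X.presheaf.stalk ξ) _ from he ξ hξV).unit_smul hu'.unit

end Inv

section Ord

open Groth.Agent.Lib.Helper24.LatDist

/-- The order of the image of an element of the local ring at `x`. -/
theorem ordAt_specMap [IsLocallyNoetherian X] {x ξ : X} (h : ξ ⤳ x)
    (hd : Ring.KrullDimLE 1 (Cyc.LocQuot x ξ h)) (a : X.presheaf.stalk x)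
    (ha : Cyc.specMap x ξ h a ≠ 0) :
    Cyc.ordAt x ξ h (Cyc.specMap x ξ h a) =
      ((Ring.ord (Cyc.LocQuot x ξ h)
        (Ideal.Quotient.mk (RingHom.ker (Cyc.specMap x ξ h)) a)).toNat : ℤ) := by
  haveI := isFractionRing_locQuot h
  haveI := isDomain_locQuot h
  haveI : IsNoetherianRing (Cyc.LocQuot x ξ h) :=
    Ideal.Quotient.isNoetherianRing (RingHom.ker (Cyc.specMap x ξ h))
  unfold Cyc.ordAt
  have ha' : Ideal.Quotient.mk (RingHom.ker (Cyc.specMap x ξ h)) a ≠ 0 := by
    intro h0
    apply ha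
    rw [← algebraMap_locQuot_mk, h0, map_zero]
  rw [← algebraMap_locQuot_mk h a]
  exact ordZ_algebraMap ha'

end Ord

section Sec

variable (L : X.Modules)

/-- Two coefficients of the same element of the fibre on a free generator have the same
residue class. -/
theorem residue_eq_of_smul_mk_eq {ξ : X} {g : L.presheaf.stalk ξ}
    (hg : FreeGen (X.presheaf.stalk ξ) g) (φ₁ φ₂ : X.presheaf.stalk ξ)
    (h : φ₁ • (Submodule.Quotient.mk g : Cyc.secFibre L ξ) =
      φ₂ • (Submodule.Quotient.mk g : Cyc.secFibre L ξ)) :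
    X.residue ξ φ₁ = X.residue ξ φ₂ := by
  rw [← Submodule.Quotient.mk_smul, ← Submodule.Quotient.mk_smul, Submodule.Quotient.eq,
    ← sub_smul, ← hg.1, Submodule.mem_smul_span_singleton] at h
  obtain ⟨y, hy, hyg⟩ := h
  have hy' : y = φ₁ - φ₂ := hg.smul_inj hyg
  have h0 : IsLocalRing.residue (X.presheaf.stalk ξ) (φ₁ - φ₂) = 0 := by
    rw [IsLocalRing.residue_eq_zero_iff, ← hy']
    exact hy
  rw [map_sub, sub_eq_zero] at h0
  exact h0

variable (hL : PicF.IsInvertible L)

include hL

/-- The order of a rational section written on the specialization of the chosen generator. -/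
theorem secOrdAt_smul_mk {ξ x : X} (h : ξ ⤳ x)
    (ht : ∃ t : L.presheaf.stalk x, Submodule.span (X.presheaf.stalk x) {t} = ⊤)
    (φ : X.presheaf.stalk ξ) :
    Cyc.secOrdAt L ξ x h (φ • (Submodule.Quotient.mk
      ((L.presheaf.stalkSpecializes h) (Classical.choose ht)) : Cyc.secFibre L ξ)) =
      Cyc.ordAt x ξ h (X.residue ξ φ) := by
  unfold Cyc.secOrdAt
  rw [dif_pos ht]
  have hφ : ∃ φ' : X.presheaf.stalk ξ,
      φ • (Submodule.Quotient.mk
        ((L.presheaf.stalkSpecializes h) (Classical.choose ht)) : Cyc.secFibre L ξ) =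
      φ' • (Submodule.Quotient.mk
        ((L.presheaf.stalkSpecializes h) (Classical.choose ht)) : Cyc.secFibre L ξ) := ⟨φ, rfl⟩
  rw [dif_pos hφ]
  congr 1
  exact (residue_eq_of_smul_mk_eq L
    (freeGen_stalkSpecializes L hL h (Classical.choose_spec ht)) _ _
    (Classical.choose_spec hφ)).symm

/-- The order of the rational section induced by a germ `f • t` at `x`, `t` the chosen generator. -/
theorem secOrdAt_mk_stalkSpecializes_smul {ξ x : X} (h : ξ ⤳ x)
    (ht : ∃ t : L.presheaf.stalk x, Submodule.span (X.presheaf.stalk x) {t} = ⊤)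
    (f : X.presheaf.stalk x) :
    Cyc.secOrdAt L ξ x h (Submodule.Quotient.mk
      ((L.presheaf.stalkSpecializes h) (f • Classical.choose ht)) : Cyc.secFibre L ξ) =
      Cyc.ordAt x ξ h (Cyc.specMap x ξ h f) := by
  rw [stalkSpecializes_smul, Submodule.Quotient.mk_smul, secOrdAt_smul_mk L hL h ht]
  rfl

end Sec

end Groth.Agent.Lib.Helper18.C1Core
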