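import Mathlib
import Groth.Agent.Lib.Helper18.Cyc.OrdFlat

set_option autoImplicit false
set_option linter.style.haveILetI false
universe u
open IsLocalRing

namespace Groth.Agent.Lib.Helper18.CycDiv

/-- The localized module of the ring itself has the length of the local ring. -/
theorem length_localizedModule_self {B : Type u} [CommRing B] (q : Ideal B) [q.IsPrime] :
    Module.length (Localization.AtPrime q) (LocalizedModule q.primeCompl B) =
      Module.length (Localization.AtPrime q) (Localization.AtPrime q) := by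
  let e : LocalizedModule q.primeCompl B ≃ₗ[B] Localization.AtPrime q :=
    IsLocalizedModule.iso q.primeCompl (Algebra.linearMap B (Localization.AtPrime q))
  exact (LinearEquiv.extendScalarsOfIsLocalization q.primeCompl (Localization.AtPrime q)
    e).length_eq

/-- Flat local extension with Artinian fibre of a one-dimensional Noetherian local domain:
dimension one, no embedded primes, nonzero elements stay nonzerodivisors. -/
theorem dim_one_and_no_embedded {A B : Type u} [CommRing A] [CommRing B] [IsDomain A]
    [IsNoetherianRing A] [IsNoetherianRing B] [IsLocalRing A] [IsLocalRing B]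
    [Ring.KrullDimLE 1 A] (φ : A →+* B) [IsLocalHom φ] (hφ : φ.Flat) (hA : ¬ IsField A)
    (hfin : Module.length B (B ⧸ (maximalIdeal A).map φ) ≠ ⊤) :
    ringKrullDim B = 1 ∧ (∀ p ∈ associatedPrimes B B, p ∈ minimalPrimes B) ∧
      (∀ a : A, a ≠ 0 → φ a ∈ nonZeroDivisors B) := by
  have hreg : ∀ a : A, a ≠ 0 → IsSMulRegular B (φ a) := by
    intro a ha
    letI := φ.toAlgebra
    haveI : Module.Flat A B := hφ
    have h1 : IsSMulRegular A a := by
      intro u v huv
      exact mul_left_cancel₀ ha huv
    exact IsSMulRegular.of_flat h1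
  have hnzd : ∀ a : A, a ≠ 0 → φ a ∈ nonZeroDivisors B := by
    intro a ha
    rw [mem_nonZeroDivisors_iff_right]
    intro z hz
    apply hreg a ha
    simp only [smul_eq_mul, mul_zero]
    rw [mul_comm]
    exact hz
  -- a nonzero element of the maximal ideal
  have hm : maximalIdeal A ≠ ⊥ := fun h => hA (IsLocalRing.isField_iff_maximalIdeal_eq.2 h)
  obtain ⟨a₀, ha₀m, ha₀⟩ := Submodule.exists_mem_ne_zero_of_ne_bot hm
  set t := φ a₀ with ht
  have htm : t ∈ maximalIdeal B := by
    rw [IsLocalRing.mem_maximalIdeal] at ha₀m ⊢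
    exact map_nonunit φ a₀ ha₀m
  have hlen : Module.length B (B ⧸ Ideal.span {t}) ≠ ⊤ := by
    have h1 := length_quot_map_eq_mul φ hφ (Ideal.span {a₀})
    rw [Ideal.map_span, Set.image_singleton] at h1
    rw [h1]
    have h2 : Module.length A (A ⧸ Ideal.span {a₀}) ≠ ⊤ :=
      Ring.ord_ne_top (mem_nonZeroDivisors_of_ne_zero ha₀)
    exact WithTop.mul_ne_top h2 hfin
  have hart : IsArtinianRing (B ⧸ Ideal.span {t}) := by
    rw [Module.length_ne_top_iff, isFiniteLength_iff_isNoetherian_isArtinian] at hlen
    exact isArtinian_of_tower B hlen.2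
  have hne : Nontrivial (B ⧸ Ideal.span {t}) := by
    apply Ideal.Quotient.nontrivial_iff.2
    intro h
    have : (1 : B) ∈ maximalIdeal B := by
      have h1 : Ideal.span {t} ≤ maximalIdeal B := (Ideal.span_singleton_le_iff_mem _).2 htm
      exact h1 (h ▸ Submodule.mem_top)
    exact (IsLocalRing.mem_maximalIdeal _).1 this isUnit_one
  have hdim0 : ringKrullDim (B ⧸ Ideal.span {t}) = 0 := by
    have h1 : Ring.KrullDimLE 0 (B ⧸ Ideal.span {t}) := isArtinianRing_iff_krullDimLE_zero.1 hart
    exact (ringKrullDimZero_iff_ringKrullDim_eq_zero).1 h1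
  have hdim : ringKrullDim B = 1 := by
    have h1 := ringKrullDim_quotient_span_singleton_succ_eq_ringKrullDim_of_mem_jacobson
      (hreg a₀ ha₀) (by rw [IsLocalRing.ringJacobson_eq_maximalIdeal]; exact htm)
    rw [← h1, hdim0]
    rfl
  refine ⟨hdim, ?_, hnzd⟩
  intro p hp
  rw [AssociatedPrimes.mem_iff, isAssociatedPrime_iff] at hp
  obtain ⟨hpp, z, hz⟩ := hp
  haveI : Ring.KrullDimLE 1 B := Ring.krullDimLE_iff.2 (by rw [hdim]; exact le_refl _)
  rcases Ring.krullDimLE_one_iff.1 inferInstance p hpp with h1 | h1
  · exact h1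
  · exfalso
    have hpm : p = maximalIdeal B := IsLocalRing.eq_maximalIdeal h1
    have htp : t ∈ p := hpm ▸ htm
    rw [hz, Submodule.mem_colon_singleton, Submodule.mem_bot] at htp
    have hz0 : z = 0 := by
      apply hreg a₀ ha₀
      simp only [smul_zero]
      exact htp
    apply hpp.ne_top
    rw [hz, hz0]
    ext r
    simp [Submodule.mem_colon_singleton]

end Groth.Agent.Lib.Helper18.CycDiv
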