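import Groth.Agent.Lib.Helper18.Cyc.PullComp
import Groth.Agent.Lib.Helper7.FibreStalkIso
import Groth.Agent.Lib.lead.FibreOrder

set_option autoImplicit false
set_option linter.style.haveILetI false
universe u
open AlgebraicGeometry CategoryTheory TensorProduct IsLocalRing

namespace Groth.Agent.Lib.Helper18.CycPull

/-- A point is maximal (under generization) in its fibre iff the local ring of the fibre at the
point has finite length. -/
theorem length_ne_top_iff_isMax {X' X : Scheme.{u}} (p : X' ⟶ X) [IsLocallyNoetherian X']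
    (x' : X') :
    Module.length (X'.presheaf.stalk x') (X'.presheaf.stalk x' ⧸
      Ideal.map (p.stalkMap x').hom (maximalIdeal (X.presheaf.stalk (p x')))) ≠ ⊤ ↔
      (∀ y, p y = p x' → y ⤳ x' → y = x') := by
  set I := Ideal.map (p.stalkMap x').hom (maximalIdeal (X.presheaf.stalk (p x'))) with hI
  have h1 : Module.length (X'.presheaf.stalk x') (X'.presheaf.stalk x' ⧸ I) =
      Module.length (X'.presheaf.stalk x' ⧸ I) (X'.presheaf.stalk x' ⧸ I) :=
    Module.length_eq_of_surjective Ideal.Quotient.mk_surjective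
  obtain ⟨e⟩ := Groth.Agent.Lib.Helper7.FibreStalkIso.nonempty_ringEquiv p x'
  have h2 : ringKrullDim (X'.presheaf.stalk x' ⧸ I) =
      (Groth.Agent.Lib.lead.FibreOrder.G p x' : WithBot ℕ∞) := by
    rw [ringKrullDim_eq_of_ringEquiv e]
    exact Groth.Agent.Lib.lead.FibreOrder.ringKrullDim_fiber_stalk p x'
  rw [h1, Module.length_ne_top_iff, ← isArtinianRing_iff_isFiniteLength,
    isArtinianRing_iff_krullDimLE_zero, Ring.krullDimLE_iff, h2]
  have h3 : ((Groth.Agent.Lib.lead.FibreOrder.G p x' : ℕ∞) : WithBot ℕ∞) ≤ ((0 : ℕ) : WithBot ℕ∞) ↔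
      Groth.Agent.Lib.lead.FibreOrder.G p x' = 0 := by
    rw [Nat.cast_zero, ← WithBot.coe_zero, WithBot.coe_le_coe, nonpos_iff_eq_zero]
  rw [h3]
  unfold Groth.Agent.Lib.lead.FibreOrder.G
  rw [Order.coheight_eq_zero]
  constructor
  · intro hmax y hy hsp
    have hle : (⟨x', rfl⟩ : ↥(p ⁻¹' {p x'})) ≤ ⟨y, hy⟩ := Scheme.le_iff_specializes.2 hsp
    have hge : (⟨y, hy⟩ : ↥(p ⁻¹' {p x'})) ≤ ⟨x', rfl⟩ := hmax hle
    have hsp' : x' ⤳ y := Scheme.le_iff_specializes.1 hge
    exact (hsp.antisymm hsp').eq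
  · intro h b hb
    have hsp : b.1 ⤳ x' := Scheme.le_iff_specializes.1 hb
    have := h b.1 b.2 hsp
    have hb' : b = ⟨x', rfl⟩ := Subtype.ext this
    rw [hb']

end Groth.Agent.Lib.Helper18.CycPull
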