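import Mathlib
import Groth.Prelude.Def_Cyc
import Groth.Agent.S6480
import Groth.Agent.Lib.Helper18.Cyc.OrdFlat

set_option autoImplicit false
set_option linter.style.haveILetI false
universe u
open IsLocalRing

namespace Groth.Agent.Lib.Helper18.CycDiv

open Groth.Agent.Lib.Helper24.LatDist

/-- In a one-dimensional Noetherian local ring without embedded primes the order of a
nonzerodivisor is the weighted sum of its orders along the minimal primes. -/
theorem ord_eq_finsum_minimalPrimes {B : Type u} [CommRing B] [IsNoetherianRing B]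
    [IsLocalRing B] (hB : ringKrullDim B = 1)
    (hemb : ∀ p ∈ associatedPrimes B B, p ∈ minimalPrimes B) (a : B)
    (ha : a ∈ nonZeroDivisors B) :
    ((Ring.ord B a).toNat : ℤ) = ∑ᶠ (q : PrimeSpectrum B) (_ : q.asIdeal ∈ minimalPrimes B),
      ((Module.length (Localization.AtPrime q.asIdeal)
        (LocalizedModule q.asIdeal.primeCompl B)).toNat : ℤ) *
        CycAlg.ordFrac (B ⧸ q.asIdeal) q.asIdeal.ResidueField
          (algebraMap B q.asIdeal.ResidueField a) := by
  have hsupp : Module.support B B = Set.univ := by
    rw [Module.support_of_algebra]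
    have : RingHom.ker (algebraMap B B) = ⊥ :=
      (RingHom.injective_iff_ker_eq_bot _).1 (fun _ _ h => h)
    rw [this]
    simp
  have hI : (Ideal.span {(1 : B)}).colon (Ideal.span {a} : Set B) = ⊤ := by
    rw [Ideal.span_singleton_one]
    exact Submodule.top_colon
  obtain ⟨-, h2⟩ := Groth.Agent.S6480.result hB (M := B) a 1 ha (one_mem _) hemb hemb hsupp
    ((Ideal.span {(1 : B)}).colon (Ideal.span {a})) rfl _ rfl
  have hP : Submodule.comap (LinearMap.lsmul B B 1)
      ((Ideal.span {a} * (Ideal.span {(1 : B)}).colon (Ideal.span {a})) •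
        (⊤ : Submodule B B)) = Ideal.span {a} := by
    have h1 : LinearMap.lsmul B B 1 = LinearMap.id := by
      ext
      simp
    rw [h1, Submodule.comap_id]
    have : (Ideal.span {(1 : B)}).colon (Ideal.span {a}) = ⊤ := hI
    rw [this, Ideal.mul_top]
    simp
  have hQ : ((Ideal.span {(1 : B)}).colon (Ideal.span {a})) • (⊤ : Submodule B B) = ⊤ := by
    have : (Ideal.span {(1 : B)}).colon (Ideal.span {a}) = ⊤ := hI
    rw [this]
    simp
  rw [hP, hQ] at h2
  have h3 : Module.length B (B ⧸ (⊤ : Submodule B B)) = 0 := by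
    rw [Module.length_eq_zero_iff]
    infer_instance
  rw [h3] at h2
  simp only [ENat.toNat_zero, Nat.cast_zero, sub_zero, map_one, div_one] at h2
  exact h2

end Groth.Agent.Lib.Helper18.CycDiv
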