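import Mathlib
import Groth.Agent.Lib.Helper18.Cyc.OrdSum
import Groth.Agent.Lib.Helper18.Cyc.DimOneFlat
import Groth.Agent.Lib.Helper18.FieldBC.LengthAlg

set_option autoImplicit false
set_option linter.style.haveILetI false
universe u
open IsLocalRing TensorProduct

namespace Groth.Agent.Lib.Helper18.CycDiv

/-- Weight of a prime: the length of the local ring at that prime. -/
noncomputable def cq (B : Type u) [CommRing B] (q : PrimeSpectrum B) : ℤ :=
  ((Module.length (Localization.AtPrime q.asIdeal)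
    (LocalizedModule q.asIdeal.primeCompl B)).toNat : ℤ)

/-- Order of `c` along the prime `q`. -/
noncomputable def Uq (B : Type u) [CommRing B] (c : B) (q : PrimeSpectrum B) : ℤ :=
  CycAlg.ordFrac (B ⧸ q.asIdeal) q.asIdeal.ResidueField (algebraMap B q.asIdeal.ResidueField c)

theorem ord_eq_finsum_cq_Uq {B : Type u} [CommRing B] [IsNoetherianRing B]
    [IsLocalRing B] (hB : ringKrullDim B = 1)
    (hemb : ∀ p ∈ associatedPrimes B B, p ∈ minimalPrimes B) (a : B)
    (ha : a ∈ nonZeroDivisors B) :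
    ((Ring.ord B a).toNat : ℤ) =
      ∑ᶠ q ∈ {q : PrimeSpectrum B | q.asIdeal ∈ minimalPrimes B}, cq B q * Uq B a q :=
  ord_eq_finsum_minimalPrimes hB hemb a ha

/-- The length of `B/I` over a quotient `B/P` with `P ≤ I`. -/
theorem length_quot_quot {B : Type u} [CommRing B] (P I : Ideal B) (h : P ≤ I) :
    Module.length (B ⧸ P) ((B ⧸ P) ⧸ I.map (Ideal.Quotient.mk P)) = Module.length B (B ⧸ I) := by
  have h1 : Module.length (B ⧸ P) ((B ⧸ P) ⧸ I.map (Ideal.Quotient.mk P)) =
      Module.length ((B ⧸ P) ⧸ I.map (Ideal.Quotient.mk P))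
        ((B ⧸ P) ⧸ I.map (Ideal.Quotient.mk P)) :=
    Module.length_eq_of_surjective Ideal.Quotient.mk_surjective
  have h2 : Module.length B (B ⧸ I) = Module.length (B ⧸ I) (B ⧸ I) :=
    Module.length_eq_of_surjective Ideal.Quotient.mk_surjective
  rw [h1, h2]
  exact Groth.Agent.Lib.Helper18.FieldBC.length_self_eq_of_ringEquiv
    (DoubleQuot.quotQuotEquivQuotOfLE h)

/-- The quotient version of the flat local formula: for `p` a prime of `A` with `A/p` of dimension
one, `ord_{A/p}(c) · length(B/𝔪_A B)` is the weighted sum of the orders of `c` along the minimal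
primes of `B/pB`. -/
theorem ord_quot_mul_eq_finsum {A B : Type u} [CommRing A] [CommRing B] [IsNoetherianRing A]
    [IsNoetherianRing B] [IsLocalRing A] [IsLocalRing B] (φ : A →+* B) [IsLocalHom φ]
    (hφ : φ.Flat) (p : Ideal A) [p.IsPrime] (hdim : Ring.KrullDimLE 1 (A ⧸ p))
    (hpm : p ≠ maximalIdeal A)
    (hfin : Module.length B (B ⧸ (maximalIdeal A).map φ) ≠ ⊤) (c : A) (hc : c ∉ p) :
    ((Ring.ord (A ⧸ p) (Ideal.Quotient.mk p c)).toNat : ℤ) *
      ((Module.length B (B ⧸ (maximalIdeal A).map φ)).toNat : ℤ) =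
      ∑ᶠ q ∈ {q : PrimeSpectrum (B ⧸ p.map φ) | q.asIdeal ∈ minimalPrimes (B ⧸ p.map φ)},
        cq (B ⧸ p.map φ) q * Uq (B ⧸ p.map φ) (Ideal.Quotient.mk (p.map φ) (φ c)) q := by
  letI := φ.toAlgebra
  haveI : Module.Flat A B := hφ
  have hple : p ≤ maximalIdeal A := IsLocalRing.le_maximalIdeal (Ideal.IsPrime.ne_top ‹p.IsPrime›)
  have hPm : p.map φ ≤ maximalIdeal B :=
    (Ideal.map_mono hple).trans (IsLocalRing.map_maximalIdeal_le φ)
  have hPI : p.map φ ≤ (maximalIdeal A).map φ := Ideal.map_mono hple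
  haveI : Nontrivial (B ⧸ p.map φ) :=
    Ideal.Quotient.nontrivial_iff.2 (fun h => (IsLocalRing.maximalIdeal.isMaximal B).ne_top
      (top_le_iff.1 (h ▸ hPm)))
  haveI : IsLocalRing (B ⧸ p.map φ) :=
    IsLocalRing.of_surjective' (Ideal.Quotient.mk (p.map φ)) Ideal.Quotient.mk_surjective
  haveI : IsLocalRing (A ⧸ p) :=
    IsLocalRing.of_surjective' (Ideal.Quotient.mk p) Ideal.Quotient.mk_surjective
  haveI : IsLocalHom (Ideal.Quotient.mk (p.map φ)) :=
    IsLocalHom.of_surjective (Ideal.Quotient.mk (p.map φ)) Ideal.Quotient.mk_surjective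
  haveI : IsLocalHom (Ideal.Quotient.mk p) :=
    IsLocalHom.of_surjective (Ideal.Quotient.mk p) Ideal.Quotient.mk_surjective
  have hmA : (maximalIdeal A).map (Ideal.Quotient.mk p) = maximalIdeal (A ⧸ p) := by
    ext x
    obtain ⟨x, rfl⟩ := Ideal.Quotient.mk_surjective x
    simp [sup_eq_left.mpr hple]
  -- the quotient map
  set φ' : A ⧸ p →+* B ⧸ p.map φ := algebraMap (A ⧸ p) (B ⧸ p.map (algebraMap A B)) with hφ'
  have hφ'mk : ∀ a : A, φ' (Ideal.Quotient.mk p a) = Ideal.Quotient.mk (p.map φ) (φ a) :=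
    fun a => rfl
  haveI : IsLocalHom φ' := by
    constructor
    intro a ha
    obtain ⟨a, rfl⟩ := Ideal.Quotient.mk_surjective a
    rw [hφ'mk] at ha
    have h1 : IsUnit (φ a) := isUnit_of_map_unit (Ideal.Quotient.mk (p.map φ)) _ ha
    have h2 : IsUnit a := isUnit_of_map_unit φ _ h1
    exact h2.map _
  have hflat0 : (algebraMap (A ⧸ p) (B ⧸ p.map (algebraMap A B))).Flat :=
    RingHom.flat_algebraMap_iff.2 (Module.Flat.of_linearEquiv
      (Algebra.TensorProduct.quotIdealMapEquivQuotTensor B p).toLinearEquiv)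
  have hflat : φ'.Flat := hflat0
  have hI : (maximalIdeal (A ⧸ p)).map φ' =
      ((maximalIdeal A).map φ).map (Ideal.Quotient.mk (p.map φ)) := by
    rw [← hmA, Ideal.map_map, Ideal.map_map]
    congr 1
  have hlen : Module.length (B ⧸ p.map φ) ((B ⧸ p.map φ) ⧸ (maximalIdeal (A ⧸ p)).map φ') =
      Module.length B (B ⧸ (maximalIdeal A).map φ) := by
    rw [hI]
    exact length_quot_quot _ _ hPI
  have hnf : ¬ IsField (A ⧸ p) := by
    intro hf
    apply hpm
    have : p.IsMaximal := Ideal.Quotient.maximal_of_isField p hf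
    exact IsLocalRing.eq_maximalIdeal this
  haveI : IsDomain (A ⧸ p) := Ideal.Quotient.isDomain p
  obtain ⟨hdimB, hembB, hnzd⟩ := dim_one_and_no_embedded φ' hflat hnf (hlen ▸ hfin)
  have hc' : Ideal.Quotient.mk p c ≠ 0 := fun h0 => hc (Ideal.Quotient.eq_zero_iff_mem.1 h0)
  rw [← hφ'mk, ← ord_eq_finsum_cq_Uq hdimB hembB _ (hnzd _ hc'),
    ord_map_of_flat φ' hflat (Ideal.Quotient.mk p c), ENat.toNat_mul, hlen]
  push_cast
  rfl

end Groth.Agent.Lib.Helper18.CycDiv
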