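import Mathlib
import Groth.Prelude.Def_Cyc
import Groth.Agent.Lib.Helper18.Cyc.PullDiv
import Groth.Agent.Lib.Helper18.Cyc.OrdSum
import Groth.Agent.Lib.Helper18.Cyc.OrdQuotFlat
import Groth.Agent.Lib.Helper18.Cyc.DimOneFlat
import Groth.Agent.Lib.Helper18.Cyc.PullSquare
import Groth.Agent.Lib.Helper18.Cyc.FibreMax
import Groth.Agent.Lib.Helper18.FieldBC.LengthAlg

set_option autoImplicit false
set_option linter.style.haveILetI false
universe u
open AlgebraicGeometry CategoryTheory IsLocalRing Order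

namespace Groth.Agent.Lib.Helper18.CycDiv

open Groth.Agent.Lib.Helper13.StalkSpecLoc Groth.Agent.Lib.Helper18.CycPull
open Groth.Agent.Lib.Helper24.LatDist

variable {X : Scheme.{u}}

theorem specMap_congr {y ξ ξ' : X} (e : ξ = ξ') (h : ξ ⤳ y) (h' : ξ' ⤳ y)
    (a : X.presheaf.stalk y) :
    Cyc.specMap y ξ' h' a = (X.residueFieldCongr e).hom (Cyc.specMap y ξ h a) := by
  subst e
  rfl

/-- The length of the localization of `O_{X,x}` at the prime of `ξ` is the length of `O_{X,ξ}`. -/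
theorem length_localizedModule_primeOf {x ξ : X} (h : ξ ⤳ x) :
    Module.length (Localization.AtPrime (primeOf h))
      (LocalizedModule (primeOf h).primeCompl (X.presheaf.stalk x)) =
      Module.length (X.presheaf.stalk ξ) (X.presheaf.stalk ξ) := by
  rw [length_localizedModule_self]
  letI := (X.presheaf.stalkSpecializes h).hom.toAlgebra
  haveI := isLocalization_stalkSpecializes h
  exact Groth.Agent.Lib.Helper18.FieldBC.length_self_eq_of_ringEquiv
    (IsLocalization.algEquiv (primeOf h).primeCompl (Localization.AtPrime (primeOf h))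
      (X.presheaf.stalk ξ)).toRingEquiv

/-- The order along the prime of `ξ`, computed in `O_{X,x}/𝔭_ξ`. -/
theorem ordFrac_quot_primeOf [IsLocallyNoetherian X] {x ξ : X} (h : ξ ⤳ x)
    (hd : Ring.KrullDimLE 1 (Cyc.LocQuot x ξ h)) (c : X.presheaf.stalk x)
    (hc : Cyc.specMap x ξ h c ≠ 0) :
    CycAlg.ordFrac (X.presheaf.stalk x ⧸ primeOf h) (primeOf h).ResidueField
      (algebraMap (X.presheaf.stalk x) (primeOf h).ResidueField c) =
      ((Ring.ord (Cyc.LocQuot x ξ h)
        (Ideal.Quotient.mk (RingHom.ker (Cyc.specMap x ξ h)) c)).toNat : ℤ) := by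
  let e : (X.presheaf.stalk x ⧸ primeOf h) ≃+* Cyc.LocQuot x ξ h :=
    Ideal.quotEquivOfEq (ker_specMap h).symm
  haveI : IsDomain (X.presheaf.stalk x ⧸ primeOf h) := Ideal.Quotient.isDomain (primeOf h)
  haveI : IsNoetherianRing (X.presheaf.stalk x ⧸ primeOf h) :=
    Ideal.Quotient.isNoetherianRing (primeOf h)
  haveI : Ring.KrullDimLE 1 (X.presheaf.stalk x ⧸ primeOf h) := by
    rw [Ring.krullDimLE_iff, ringKrullDim_eq_of_ringEquiv e]
    exact Ring.krullDimLE_iff.1 hd
  have hc' : Ideal.Quotient.mk (primeOf h) c ≠ 0 := by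
    intro h0
    apply hc
    have : c ∈ primeOf h := Ideal.Quotient.eq_zero_iff_mem.1 h0
    rw [← ker_specMap h] at this
    exact RingHom.mem_ker.1 this
  have h1 : algebraMap (X.presheaf.stalk x) (primeOf h).ResidueField c =
      algebraMap (X.presheaf.stalk x ⧸ primeOf h) (primeOf h).ResidueField
        (Ideal.Quotient.mk (primeOf h) c) := rfl
  rw [h1, ordZ_algebraMap hc', ord_eq_of_ringEquiv e]
  rfl

theorem primeOf_mono {x ζ ζ' : X} (h : ζ ⤳ x) (h' : ζ' ⤳ x) (hζ : ζ' ⤳ ζ) :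
    primeOf h' ≤ primeOf h := by
  intro a ha
  by_contra hna
  unfold primeOf at ha hna
  rw [Ideal.mem_comap] at ha hna
  have hu : IsUnit ((X.presheaf.stalkSpecializes h).hom a) :=
    (IsLocalRing.notMem_maximalIdeal).1 hna
  have h1 : (X.presheaf.stalkSpecializes h').hom a =
      (X.presheaf.stalkSpecializes hζ).hom ((X.presheaf.stalkSpecializes h).hom a) := by
    have := TopCat.Presheaf.stalkSpecializes_comp X.presheaf hζ h
    rw [← this]
    rfl
  rw [h1] at ha
  exact (IsLocalRing.mem_maximalIdeal _).1 ha (hu.map _)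

theorem cq_primeOf {x ξ : X} (h : ξ ⤳ x) :
    cq (X.presheaf.stalk x) ⟨primeOf h, inferInstance⟩ =
      ((Module.length (X.presheaf.stalk ξ) (X.presheaf.stalk ξ)).toNat : ℤ) := by
  show ((Module.length (Localization.AtPrime (primeOf h))
    (LocalizedModule (primeOf h).primeCompl (X.presheaf.stalk x))).toNat : ℤ) = _
  rw [length_localizedModule_primeOf h]

theorem Uq_primeOf [IsLocallyNoetherian X] {x ξ : X} (h : ξ ⤳ x)
    (hd : Ring.KrullDimLE 1 (Cyc.LocQuot x ξ h)) (c : X.presheaf.stalk x)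
    (hc : Cyc.specMap x ξ h c ≠ 0) :
    Uq (X.presheaf.stalk x) c ⟨primeOf h, inferInstance⟩ =
      ((Ring.ord (Cyc.LocQuot x ξ h)
        (Ideal.Quotient.mk (RingHom.ker (Cyc.specMap x ξ h)) c)).toNat : ℤ) :=
  ordFrac_quot_primeOf h hd c hc

section Main

variable {Y : Scheme.{u}} (f : X ⟶ Y)

/-- The generic points of `X` lying over the generic point of `Y`. -/
abbrev GenIdx [IsIntegral Y] : Type u :=
  {ξ : X // (∀ x' : X, x' ⤳ ξ → x' = ξ) ∧ f ξ = genericPoint Y}

/-- The prime of `O_{X,x}` attached to a generic point. -/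
noncomputable def toPrime [IsIntegral Y] (x : X) (ξ : GenIdx f) :
    PrimeSpectrum (X.presheaf.stalk x) := by
  classical
  exact if h : ξ.1 ⤳ x then ⟨primeOf h, inferInstance⟩ else closedPoint _

theorem toPrime_eq [IsIntegral Y] (x : X) (ξ : GenIdx f) (h : ξ.1 ⤳ x) :
    toPrime f x ξ = ⟨primeOf h, inferInstance⟩ := by
  unfold toPrime
  rw [dif_pos h]

theorem bijOn_toPrime [IsIntegral Y] [Flat f] (x : X) :
    Set.BijOn (toPrime f x) {ξ | ξ.1 ⤳ x}
      {q | q.asIdeal ∈ minimalPrimes (X.presheaf.stalk x)} := by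
  refine ⟨?_, ?_, ?_⟩
  · intro ξ hξ
    have hξ' : ξ.1 ⤳ x := hξ
    show (toPrime f x ξ).asIdeal ∈ minimalPrimes _
    rw [toPrime_eq f x ξ hξ']
    show primeOf hξ' ∈ _
    rw [← ker_specMap hξ']
    exact Groth.Agent.Lib.Helper24.LocQuotDim.ker_specMap_mem_minimalPrimes X x ξ.1 hξ' ξ.2.1
  · intro ξ hξ ξ' hξ' he
    have h1 : ξ.1 ⤳ x := hξ
    have h2 : ξ'.1 ⤳ x := hξ'
    rw [toPrime_eq f x ξ h1, toPrime_eq f x ξ' h2] at he
    apply Subtype.ext
    rw [← fromSpecStalk_primeOf h1, ← fromSpecStalk_primeOf h2, he]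
  · intro q hq
    have hq' : q.asIdeal ∈ minimalPrimes (X.presheaf.stalk x) := hq
    haveI := q.2
    obtain ⟨ζ, h, hζ⟩ := exists_primeOf_eq x q.asIdeal
    have hmax : ∀ x' : X, x' ⤳ ζ → x' = ζ := by
      intro ζ' hζ'
      have h' : ζ' ⤳ x := hζ'.trans h
      have hle := primeOf_mono h h' hζ'
      have heq : primeOf h' = primeOf h := by
        apply le_antisymm hle
        rw [hζ]
        exact hq'.2 ⟨inferInstance, bot_le⟩ (hζ ▸ hle)
      rw [← fromSpecStalk_primeOf h', ← fromSpecStalk_primeOf h]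
      congr 1
      exact PrimeSpectrum.ext heq
    have hgen : f ζ = genericPoint Y := by
      obtain ⟨a', ha', hfa'⟩ := Flat.generalizingMap f (genericPoint_specializes (f ζ))
      rw [← hfa', hmax a' ha']
    refine ⟨⟨ζ, hmax, hgen⟩, h, ?_⟩
    rw [toPrime_eq f x ⟨ζ, hmax, hgen⟩ h]
    exact PrimeSpectrum.ext hζ

end Main

section Main2

variable {Y : Scheme.{u}} (f : X ⟶ Y)

theorem isMax_fibre_of_delta [LocallyOfFiniteType f] (δX : X → ℤ) (δY : Y → ℤ)
    (hdimX : Cyc.IsDimFun X δX) (r : ℕ) (hr : Cyc.HasRelDim f r)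
    (hδ : Cyc.DeltaCompat f δX δY) (x : X) (h2 : δX x = δY (f x) + r) :
    ∀ z, f z = f x → z ⤳ x → z = x := by
  intro z hz hzx
  by_contra hne
  have h1 := (hdimX z x hzx hne).1
  have h3 := delta_eq_add_tr f δX δY hδ z
  have h4 : (Groth.Agent.Lib.Helper24.FibreDim.tr f z : ℤ) ≤ r := by
    exact_mod_cast tr_le_of_hasRelDim f r hr z
  rw [hz] at h3
  linarith

theorem delta_genIdx [IsIntegral Y] [LocallyOfFiniteType f] (δX : X → ℤ) (δY : Y → ℤ) (r : ℕ)
    (hr : Cyc.HasRelDim f r) (hδ : Cyc.DeltaCompat f δX δY) (ξ : GenIdx f) :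
    δX ξ.1 = δY (genericPoint Y) + r := by
  have hmax : ∀ y, f y = f ξ.1 → y ⤳ ξ.1 → y = ξ.1 := fun y _ hy => ξ.2.1 y hy
  rw [delta_eq_add_tr f δX δY hδ ξ.1, tr_eq_of_isMax f r hr ξ.1 hmax, ξ.2.2]

/-- The restriction of `g = a/b` to a generic point `ξ` of `X`, as a quotient in `κ(ξ)`. -/
theorem restrict_eq_div [IsIntegral Y] {x : X} (ξ : GenIdx f) (hξ : ξ.1 ⤳ x)
    (hy : genericPoint Y ⤳ f x) (g : Y.residueField (genericPoint Y))
    (a b : Y.presheaf.stalk (f x))
    (hgab : g = Cyc.specMap (f x) (genericPoint Y) hy a / Cyc.specMap (f x) (genericPoint Y) hy b) :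
    (f.residueFieldMap ξ.1).hom ((Y.residueFieldCongr ξ.2.2.symm).hom g) =
      Cyc.specMap x ξ.1 hξ ((f.stalkMap x).hom a) / Cyc.specMap x ξ.1 hξ ((f.stalkMap x).hom b) := by
  have hfξ : f ξ.1 ⤳ f x := hξ.map f.continuous
  rw [specMap_stalkMap f hξ hfξ, specMap_stalkMap f hξ hfξ,
    specMap_congr ξ.2.2.symm hy hfξ a, specMap_congr ξ.2.2.symm hy hfξ b, hgab, map_div₀,
    map_div₀]

theorem finite_minimal_set (B : Type u) [CommRing B] [IsNoetherianRing B] :
    {q : PrimeSpectrum B | q.asIdeal ∈ minimalPrimes B}.Finite := by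
  have h1 : (minimalPrimes B).Finite := minimalPrimes.finite_of_isNoetherianRing B
  exact Set.Finite.preimage (fun a _ b _ hab => PrimeSpectrum.ext hab) h1

/-- The main formula: at a point `x` which is maximal in its fibre over a codimension one point,
`ord_y(g) · length(O_{X,x}/𝔪_y O_{X,x}) = Σ_ξ length(O_{X,ξ}) ord_x(g|_ξ)`. -/
theorem pull_div_sum_main [IsIntegral Y] [IsLocallyNoetherian X] [IsLocallyNoetherian Y]
    [Flat f] [LocallyOfFiniteType f] (δX : X → ℤ) (δY : Y → ℤ)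
    (hdimX : Cyc.IsDimFun X δX) (hdimY : Cyc.IsDimFun Y δY) (r : ℕ) (hr : Cyc.HasRelDim f r)
    (hδ : Cyc.DeltaCompat f δX δY) (g : Y.residueField (genericPoint Y)) (hg : g ≠ 0) (x : X)
    (hy : genericPoint Y ⤳ f x)
    (h2 : δX x = δY (f x) + r) (h3 : δY (f x) + 1 = δY (genericPoint Y)) :
    Cyc.ordAt (f x) (genericPoint Y) hy g *
      ((Module.length (X.presheaf.stalk x) (X.presheaf.stalk x ⧸
        Ideal.map (f.stalkMap x).hom (maximalIdeal (Y.presheaf.stalk (f x))))).toNat : ℤ) =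
      ∑ᶠ ξ : GenIdx f, ((Module.length (X.presheaf.stalk ξ.1) (X.presheaf.stalk ξ.1)).toNat : ℤ) *
        Cyc.divFun δX ξ.1
          ((f.residueFieldMap ξ.1).hom ((Y.residueFieldCongr ξ.2.2.symm).hom g)) x := by
  classical
  -- facts on `A = O_{Y,y}`
  have hkA := ker_specMap_eq_bot hy rfl
  have hdA := krullDimLE_one_locQuot δY hdimY hy h3
  obtain ⟨hA1, -⟩ := cond_stalk hy hkA hdA
  haveI := hA1
  have hne : genericPoint Y ≠ f x := by
    intro he
    rw [← he] at h3
    linarith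
  have hnf : ¬ IsField (Y.presheaf.stalk (f x)) := by
    rw [IsLocalRing.isField_iff_maximalIdeal_eq]
    intro hm
    apply primeOf_ne_maximalIdeal hy hne
    rw [hm, ← ker_specMap hy, hkA]
  have hmaxx := isMax_fibre_of_delta f δX δY hdimX r hr hδ x h2
  have hfin : Module.length (X.presheaf.stalk x) (X.presheaf.stalk x ⧸
      Ideal.map (f.stalkMap x).hom (maximalIdeal (Y.presheaf.stalk (f x)))) ≠ ⊤ :=
    (length_ne_top_iff_isMax f x).2 hmaxx
  obtain ⟨hdimB, hembB, hnzd⟩ :=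
    dim_one_and_no_embedded (f.stalkMap x).hom (Flat.stalkMap f x) hnf hfin
  -- write `g = a / b`
  obtain ⟨a, b, hb, hgab⟩ := exists_specMap_div hy g
  have ha : Cyc.specMap (f x) (genericPoint Y) hy a ≠ 0 := by
    intro h0
    apply hg
    rw [hgab, h0, zero_div]
  have ha0 : a ≠ 0 := fun h0 => ha (by rw [h0, map_zero])
  have hb0 : b ≠ 0 := fun h0 => hb (by rw [h0, map_zero])
  -- the left-hand side
  have hordA : ∀ c : Y.presheaf.stalk (f x),
      Ring.ord (Cyc.LocQuot (f x) (genericPoint Y) hy)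
        (Ideal.Quotient.mk (RingHom.ker (Cyc.specMap (f x) (genericPoint Y) hy)) c) =
      Ring.ord (Y.presheaf.stalk (f x)) c := fun c =>
    (ord_eq_of_ringEquiv (stalkEquivLocQuot hy hkA) c).symm
  have hmul : ∀ c : Y.presheaf.stalk (f x), c ≠ 0 →
      ((Ring.ord (Y.presheaf.stalk (f x)) c).toNat : ℤ) *
        ((Module.length (X.presheaf.stalk x) (X.presheaf.stalk x ⧸
          Ideal.map (f.stalkMap x).hom (maximalIdeal (Y.presheaf.stalk (f x))))).toNat : ℤ) =
      ∑ᶠ q ∈ {q : PrimeSpectrum (X.presheaf.stalk x) |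
          q.asIdeal ∈ minimalPrimes (X.presheaf.stalk x)},
        cq (X.presheaf.stalk x) q * Uq (X.presheaf.stalk x) ((f.stalkMap x).hom c) q := by
    intro c hc
    rw [← ord_eq_finsum_cq_Uq hdimB hembB _ (hnzd c hc),
      ord_map_of_flat (f.stalkMap x).hom (Flat.stalkMap f x) c, ENat.toNat_mul]
    push_cast
    rfl
  rw [hgab, ordAt_div hy hdA a b ha hb, hordA, hordA, sub_mul, hmul a ha0, hmul b hb0,
    ← finsum_mem_sub_distrib _ _ (finite_minimal_set _)]
  -- the right-hand side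
  have hsupp : Function.support (fun ξ : GenIdx f =>
      ((Module.length (X.presheaf.stalk ξ.1) (X.presheaf.stalk ξ.1)).toNat : ℤ) *
        Cyc.divFun δX ξ.1
          ((f.residueFieldMap ξ.1).hom ((Y.residueFieldCongr ξ.2.2.symm).hom
            (Cyc.specMap (f x) (genericPoint Y) hy a / Cyc.specMap (f x) (genericPoint Y) hy b)))
            x) ⊆ {ξ | ξ.1 ⤳ x} := by
    intro ξ hξ
    by_contra hn
    apply hξ
    have : Cyc.divFun δX ξ.1
        ((f.residueFieldMap ξ.1).hom ((Y.residueFieldCongr ξ.2.2.symm).hom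
          (Cyc.specMap (f x) (genericPoint Y) hy a / Cyc.specMap (f x) (genericPoint Y) hy b)))
          x = 0 := dif_neg (fun h => hn h.1)
    simp only [this, mul_zero]
  have hR := finsum_mem_inter_support_eq' _ Set.univ {ξ : GenIdx f | ξ.1 ⤳ x}
    (fun ξ hξ => ⟨fun _ => hsupp hξ, fun _ => trivial⟩)
  rw [finsum_mem_univ] at hR
  rw [hR]
  symm
  refine finsum_mem_eq_of_bijOn (toPrime f x) (bijOn_toPrime f x) ?_
  intro ξ hξ
  have hξ' : ξ.1 ⤳ x := hξ
  have hδξ : δX x + 1 = δX ξ.1 := by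
    rw [delta_genIdx f δX δY r hr hδ ξ]
    linarith
  have hd := krullDimLE_one_locQuot δX hdimX hξ' hδξ
  have hfξ : f ξ.1 ⤳ f x := hξ'.map f.continuous
  have hnz : ∀ c : Y.presheaf.stalk (f x), Cyc.specMap (f x) (genericPoint Y) hy c ≠ 0 →
      Cyc.specMap x ξ.1 hξ' ((f.stalkMap x).hom c) ≠ 0 := by
    intro c hc h0
    rw [specMap_stalkMap f hξ' hfξ, specMap_congr ξ.2.2.symm hy hfξ c] at h0
    apply hc
    have h1 := (map_eq_zero_iff _ (f.residueFieldMap ξ.1).hom.injective).1 h0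
    exact (map_eq_zero_iff _ (Y.residueFieldCongr ξ.2.2.symm).hom.hom.injective).1 h1
  have hdiv : Cyc.divFun δX ξ.1
      ((f.residueFieldMap ξ.1).hom ((Y.residueFieldCongr ξ.2.2.symm).hom
        (Cyc.specMap (f x) (genericPoint Y) hy a / Cyc.specMap (f x) (genericPoint Y) hy b))) x =
      Cyc.ordAt x ξ.1 hξ' ((f.residueFieldMap ξ.1).hom ((Y.residueFieldCongr ξ.2.2.symm).hom
        (Cyc.specMap (f x) (genericPoint Y) hy a / Cyc.specMap (f x) (genericPoint Y) hy b))) :=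
    dif_pos ⟨hξ', hδξ⟩
  rw [hdiv, restrict_eq_div f ξ hξ' hy _ a b rfl,
    ordAt_div hξ' hd _ _ (hnz a ha) (hnz b hb), toPrime_eq f x ξ hξ', cq_primeOf hξ',
    Uq_primeOf hξ' hd _ (hnz a ha), Uq_primeOf hξ' hd _ (hnz b hb)]
  ring

end Main2

end Groth.Agent.Lib.Helper18.CycDiv
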