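import Mathlib
import Groth.Prelude.Def_Cyc
import Groth.Agent.Lib.Helper18.Cyc.PullDivSum

set_option autoImplicit false
set_option linter.style.haveILetI false
universe u
open AlgebraicGeometry CategoryTheory IsLocalRing Order

namespace Groth.Agent.Lib.Helper18.CycDiv

open Groth.Agent.Lib.Helper13.StalkSpecLoc Groth.Agent.Lib.Helper18.CycPull
open Groth.Agent.Lib.Helper24.LatDist

variable {X Y : Scheme.{u}}

theorem primeOf_congr {y ζ₁ ζ₂ : X} (e : ζ₁ = ζ₂) (h₁ : ζ₁ ⤳ y) (h₂ : ζ₂ ⤳ y) :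
    primeOf h₁ = primeOf h₂ := by
  subst e
  rfl

theorem eq_of_primeOf_eq {y ζ₁ ζ₂ : X} (h₁ : ζ₁ ⤳ y) (h₂ : ζ₂ ⤳ y)
    (e : primeOf h₁ = primeOf h₂) : ζ₁ = ζ₂ := by
  rw [← fromSpecStalk_primeOf h₁, ← fromSpecStalk_primeOf h₂]
  congr 1
  exact PrimeSpectrum.ext e

theorem specializes_of_primeOf_le {y ζ₁ ζ₂ : X} (h₁ : ζ₁ ⤳ y) (h₂ : ζ₂ ⤳ y)
    (hle : primeOf h₁ ≤ primeOf h₂) : ζ₁ ⤳ ζ₂ := by
  have h : (⟨primeOf h₁, inferInstance⟩ : PrimeSpectrum (X.presheaf.stalk y)) ⤳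
      ⟨primeOf h₂, inferInstance⟩ := (PrimeSpectrum.le_iff_specializes _ _).1 hle
  have h' := h.map (X.fromSpecStalk y).continuous
  rwa [fromSpecStalk_primeOf, fromSpecStalk_primeOf] at h'

variable (f : X ⟶ Y)

/-- The prime of `ζ` in `O_{X,x}` lies over the prime of `f ζ` in `O_{Y,f x}`. -/
theorem comap_stalkMap_primeOf {ζ x : X} (hζ : ζ ⤳ x) (hfζ : f ζ ⤳ f x) :
    (primeOf hζ).comap (f.stalkMap x).hom = primeOf hfζ := by
  ext a
  rw [Ideal.mem_comap, ← ker_specMap hζ, ← ker_specMap hfζ, RingHom.mem_ker, RingHom.mem_ker,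
    specMap_stalkMap f hζ hfζ]
  exact map_eq_zero_iff _ (f.residueFieldMap ζ).hom.injective

theorem map_primeOf_le {x z : X} {ξ : Y} (hy : ξ ⤳ f x) (hz : z ⤳ x) (hfz : f z = ξ) :
    (primeOf hy).map (f.stalkMap x).hom ≤ primeOf hz := by
  rw [Ideal.map_le_iff_le_comap, comap_stalkMap_primeOf f hz (hz.map f.continuous)]
  exact (primeOf_congr hfz.symm hy _).le

theorem map_primeOf_le_maximalIdeal {x : X} {ξ : Y} (hy : ξ ⤳ f x) :
    (primeOf hy).map (f.stalkMap x).hom ≤ maximalIdeal (X.presheaf.stalk x) :=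
  (Ideal.map_mono (IsLocalRing.le_maximalIdeal (Ideal.IsPrime.ne_top inferInstance))).trans
    (IsLocalRing.map_maximalIdeal_le (f.stalkMap x).hom)

/-- The generic points of the fibre of `f` over `ξ`. -/
abbrev FibIdx (ξ : Y) : Type u :=
  {ξ' : X // f ξ' = ξ ∧ ∀ z : X, f z = ξ → z ⤳ ξ' → z = ξ'}

/-- The prime of `O_{X,x}/𝔭_ξ O_{X,x}` attached to a generic point of the fibre over `ξ`. -/
noncomputable def toPrimeBar {ξ : Y} (x : X) (hy : ξ ⤳ f x) (ξ' : FibIdx f ξ) :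
    PrimeSpectrum (X.presheaf.stalk x ⧸ (primeOf hy).map (f.stalkMap x).hom) := by
  classical
  exact if h : ξ'.1 ⤳ x then
    ⟨(primeOf h).map (Ideal.Quotient.mk _),
      Ideal.map_isPrime_of_surjective Ideal.Quotient.mk_surjective
        (by rw [Ideal.mk_ker]; exact map_primeOf_le f hy h ξ'.2.1)⟩
  else
    ⟨(maximalIdeal (X.presheaf.stalk x)).map (Ideal.Quotient.mk _),
      Ideal.map_isPrime_of_surjective Ideal.Quotient.mk_surjective
        (by rw [Ideal.mk_ker]; exact map_primeOf_le_maximalIdeal f hy)⟩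

theorem toPrimeBar_asIdeal {ξ : Y} (x : X) (hy : ξ ⤳ f x) (ξ' : FibIdx f ξ) (h : ξ'.1 ⤳ x) :
    (toPrimeBar f x hy ξ').asIdeal = (primeOf h).map (Ideal.Quotient.mk _) := by
  unfold toPrimeBar
  rw [dif_pos h]

theorem comap_map_mk_primeOf {x z : X} {ξ : Y} (hy : ξ ⤳ f x) (hz : z ⤳ x) (hfz : f z = ξ) :
    ((primeOf hz).map (Ideal.Quotient.mk ((primeOf hy).map (f.stalkMap x).hom))).comap
      (Ideal.Quotient.mk ((primeOf hy).map (f.stalkMap x).hom)) = primeOf hz := by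
  rw [Ideal.comap_map_of_surjective _ Ideal.Quotient.mk_surjective, ← RingHom.ker_eq_comap_bot,
    Ideal.mk_ker]
  exact sup_eq_left.2 (map_primeOf_le f hy hz hfz)

theorem bijOn_toPrimeBar [Flat f] {ξ : Y} (x : X) (hy : ξ ⤳ f x) :
    Set.BijOn (toPrimeBar f x hy) {ξ' | ξ'.1 ⤳ x}
      {q | q.asIdeal ∈ minimalPrimes
        (X.presheaf.stalk x ⧸ (primeOf hy).map (f.stalkMap x).hom)} := by
  set P := (primeOf hy).map (f.stalkMap x).hom with hP
  -- a prime of the quotient below the prime of a generic point of the fibre is equal to it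
  have key : ∀ (ζ : X) (hζ : ζ ⤳ x), f ζ = ξ → (∀ z : X, f z = ξ → z ⤳ ζ → z = ζ) →
      ∀ Q : Ideal (X.presheaf.stalk x ⧸ P), Q.IsPrime →
        Q ≤ (primeOf hζ).map (Ideal.Quotient.mk P) → (primeOf hζ).map (Ideal.Quotient.mk P) ≤ Q := by
    intro ζ hζ hfζ hmax Q hQ hle
    haveI := hQ
    have hPQ : P ≤ Q.comap (Ideal.Quotient.mk P) := by
      intro a ha
      rw [Ideal.mem_comap, Ideal.Quotient.eq_zero_iff_mem.2 ha]
      exact Q.zero_mem
    obtain ⟨z, hz, hzQ⟩ := exists_primeOf_eq x (Q.comap (Ideal.Quotient.mk P))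
    have hle' : primeOf hz ≤ primeOf hζ := by
      rw [hzQ, ← comap_map_mk_primeOf f hy hζ hfζ]
      exact Ideal.comap_mono hle
    have hzζ : z ⤳ ζ := specializes_of_primeOf_le hz hζ hle'
    have hfz : f z = ξ := by
      have h1 : primeOf (hz.map f.continuous) = primeOf hy := by
        apply le_antisymm
        · rw [← comap_stalkMap_primeOf f hz (hz.map f.continuous),
            ← primeOf_congr hfζ (hζ.map f.continuous) hy,
            ← comap_stalkMap_primeOf f hζ (hζ.map f.continuous)]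
          exact Ideal.comap_mono hle'
        · rw [← comap_stalkMap_primeOf f hz (hz.map f.continuous), hzQ,
            ← Ideal.map_le_iff_le_comap]
          exact hPQ
      exact eq_of_primeOf_eq _ _ h1
    have hzeq : z = ζ := hmax z hfz hzζ
    subst hzeq
    rw [hzQ, Ideal.map_comap_of_surjective _ Ideal.Quotient.mk_surjective]
  refine ⟨?_, ?_, ?_⟩
  · intro ξ' hξ'
    have h' : ξ'.1 ⤳ x := hξ'
    show (toPrimeBar f x hy ξ').asIdeal ∈ minimalPrimes _
    rw [toPrimeBar_asIdeal f x hy ξ' h']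
    refine ⟨⟨Ideal.map_isPrime_of_surjective Ideal.Quotient.mk_surjective
      (by rw [Ideal.mk_ker]; exact map_primeOf_le f hy h' ξ'.2.1), bot_le⟩, ?_⟩
    intro Q hQ hle
    exact key ξ'.1 h' ξ'.2.1 ξ'.2.2 Q hQ.1 hle
  · intro ξ₁ hξ₁ ξ₂ hξ₂ he
    have h1 : ξ₁.1 ⤳ x := hξ₁
    have h2 : ξ₂.1 ⤳ x := hξ₂
    have he' := congrArg PrimeSpectrum.asIdeal he
    rw [toPrimeBar_asIdeal f x hy ξ₁ h1, toPrimeBar_asIdeal f x hy ξ₂ h2] at he'
    have he'' := congrArg (Ideal.comap (Ideal.Quotient.mk P)) he'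
    rw [comap_map_mk_primeOf f hy h1 ξ₁.2.1, comap_map_mk_primeOf f hy h2 ξ₂.2.1] at he''
    exact Subtype.ext (eq_of_primeOf_eq h1 h2 he'')
  · intro q hq
    have hq' : q.asIdeal ∈ minimalPrimes (X.presheaf.stalk x ⧸ P) := hq
    haveI := q.2
    have hPq : P ≤ q.asIdeal.comap (Ideal.Quotient.mk P) := by
      intro a ha
      rw [Ideal.mem_comap, Ideal.Quotient.eq_zero_iff_mem.2 ha]
      exact q.asIdeal.zero_mem
    obtain ⟨ζ, hζ, hζq⟩ := exists_primeOf_eq x (q.asIdeal.comap (Ideal.Quotient.mk P))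
    have hqmap : (primeOf hζ).map (Ideal.Quotient.mk P) = q.asIdeal := by
      rw [hζq, Ideal.map_comap_of_surjective _ Ideal.Quotient.mk_surjective]
    -- every point of the fibre over `ξ` generalizing `ζ` is `ζ`
    have hgen : ∀ z : X, f z = ξ → z ⤳ ζ → z = ζ := by
      intro z hfz hzζ
      have hz : z ⤳ x := hzζ.trans hζ
      have hle : primeOf hz ≤ primeOf hζ := primeOf_mono hζ hz hzζ
      have hzprime : ((primeOf hz).map (Ideal.Quotient.mk P)).IsPrime :=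
        Ideal.map_isPrime_of_surjective Ideal.Quotient.mk_surjective
          (by rw [Ideal.mk_ker]; exact map_primeOf_le f hy hz hfz)
      have h1 : q.asIdeal ≤ (primeOf hz).map (Ideal.Quotient.mk P) :=
        hq'.2 ⟨hzprime, bot_le⟩ (hqmap ▸ Ideal.map_mono hle)
      have h2 : primeOf hζ ≤ primeOf hz := by
        rw [hζq, ← comap_map_mk_primeOf f hy hz hfz]
        exact Ideal.comap_mono h1
      exact eq_of_primeOf_eq hz hζ (le_antisymm hle h2)
    have hfζ : f ζ = ξ := by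
      have hξfζ : ξ ⤳ f ζ := by
        apply specializes_of_primeOf_le hy (hζ.map f.continuous)
        rw [← comap_stalkMap_primeOf f hζ (hζ.map f.continuous), hζq,
          ← Ideal.map_le_iff_le_comap]
        exact hPq
      obtain ⟨z, hzζ, hfz⟩ := Flat.generalizingMap f hξfζ
      rw [← hgen z hfz hzζ]
      exact hfz
    refine ⟨⟨ζ, hfζ, hgen⟩, hζ, ?_⟩
    apply PrimeSpectrum.ext
    rw [toPrimeBar_asIdeal f x hy ⟨ζ, hfζ, hgen⟩ hζ]
    exact hqmap

section Terms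

/-- The order along a prime `Q` computed in a ring isomorphic to `R/Q`. -/
theorem ordFrac_quot_of_ringEquiv {R R' : Type u} [CommRing R] [CommRing R'] (Q : Ideal R)
    [Q.IsPrime] [IsNoetherianRing R] [IsDomain R'] [Ring.KrullDimLE 1 R']
    (e : R ⧸ Q ≃+* R') (c : R) (hc : c ∉ Q) :
    CycAlg.ordFrac (R ⧸ Q) Q.ResidueField (algebraMap R Q.ResidueField c) =
      ((Ring.ord R' (e (Ideal.Quotient.mk Q c))).toNat : ℤ) := by
  haveI : IsDomain (R ⧸ Q) := Ideal.Quotient.isDomain Q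
  haveI : IsNoetherianRing (R ⧸ Q) := Ideal.Quotient.isNoetherianRing Q
  haveI : Ring.KrullDimLE 1 (R ⧸ Q) := by
    rw [Ring.krullDimLE_iff, ringKrullDim_eq_of_ringEquiv e]
    exact Ring.krullDimLE_iff.1 inferInstance
  have hc' : Ideal.Quotient.mk Q c ≠ 0 := fun h0 => hc (Ideal.Quotient.eq_zero_iff_mem.1 h0)
  have h1 : algebraMap R Q.ResidueField c =
      algebraMap (R ⧸ Q) Q.ResidueField (Ideal.Quotient.mk Q c) := rfl
  rw [h1, ordZ_algebraMap hc', ord_eq_of_ringEquiv e]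

/-- The local ring of `B/P` at the image of a prime `q ⊇ P` has the length of `S/PS`, for `S` the
localization of `B` at `q`. -/
theorem length_localization_quot {B S : Type u} [CommRing B] [CommRing S] [Algebra B S]
    (q : Ideal B) [q.IsPrime] [IsLocalization.AtPrime S q] (P : Ideal B) (hPq : P ≤ q)
    [hq' : (q.map (Ideal.Quotient.mk P)).IsPrime] :
    Module.length (Localization.AtPrime (q.map (Ideal.Quotient.mk P)))
      (Localization.AtPrime (q.map (Ideal.Quotient.mk P))) =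
      Module.length S (S ⧸ P.map (algebraMap B S)) := by
  have hloc : IsLocalization (Algebra.algebraMapSubmonoid (B ⧸ P) q.primeCompl)
      (S ⧸ P.map (algebraMap B S)) := inferInstance
  have hM : Algebra.algebraMapSubmonoid (B ⧸ P) q.primeCompl =
      (q.map (Ideal.Quotient.mk P)).primeCompl := by
    ext y
    obtain ⟨y, rfl⟩ := Ideal.Quotient.mk_surjective y
    constructor
    · rintro ⟨b, hb, hby⟩
      intro hyQ
      rw [← hby] at hyQ
      exact hb ((Ideal.mem_quotient_iff_mem hPq).1 hyQ)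
    · intro hy
      exact ⟨y, fun hyq => hy ((Ideal.mem_quotient_iff_mem hPq).2 hyq), rfl⟩
  rw [hM] at hloc
  haveI := hloc
  rw [Groth.Agent.Lib.Helper18.FieldBC.length_self_eq_of_ringEquiv
    (IsLocalization.algEquiv (q.map (Ideal.Quotient.mk P)).primeCompl
      (Localization.AtPrime (q.map (Ideal.Quotient.mk P)))
      (S ⧸ P.map (algebraMap B S))).toRingEquiv]
  exact (Module.length_eq_of_surjective Ideal.Quotient.mk_surjective).symm

variable (f : X ⟶ Y)

/-- `𝔭_ξ O_{X,ξ'} = 𝔪_{f ξ'} O_{X,ξ'}` for `ξ'` over `ξ`. -/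
theorem map_map_primeOf_eq {x z : X} {ξ : Y} (hy : ξ ⤳ f x) (hz : z ⤳ x) (hfz : f z = ξ) :
    ((primeOf hy).map (f.stalkMap x).hom).map (X.presheaf.stalkSpecializes hz).hom =
      (maximalIdeal (Y.presheaf.stalk (f z))).map (f.stalkMap z).hom := by
  have hfzx : f z ⤳ f x := hz.map f.continuous
  rw [primeOf_congr hfz.symm hy hfzx, Ideal.map_map]
  have h1 : (X.presheaf.stalkSpecializes hz).hom.comp (f.stalkMap x).hom =
      (f.stalkMap z).hom.comp (Y.presheaf.stalkSpecializes hfzx).hom := by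
    have := Scheme.Hom.stalkSpecializes_stalkMap f z x hz
    rw [← CommRingCat.hom_comp, ← CommRingCat.hom_comp]
    exact congrArg CommRingCat.Hom.hom this.symm
  rw [h1, ← Ideal.map_map]
  congr 1
  letI := (Y.presheaf.stalkSpecializes hfzx).hom.toAlgebra
  haveI := isLocalization_stalkSpecializes hfzx
  exact IsLocalization.AtPrime.map_eq_maximalIdeal (primeOf hfzx) (Y.presheaf.stalk (f z))

theorem cq_bar {x : X} {ξ : Y} (hy : ξ ⤳ f x) (ξ' : FibIdx f ξ) (h' : ξ'.1 ⤳ x) :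
    cq (X.presheaf.stalk x ⧸ (primeOf hy).map (f.stalkMap x).hom) (toPrimeBar f x hy ξ') =
      ((Module.length (X.presheaf.stalk ξ'.1) (X.presheaf.stalk ξ'.1 ⧸
        Ideal.map (f.stalkMap ξ'.1).hom
          (maximalIdeal (Y.presheaf.stalk (f ξ'.1))))).toNat : ℤ) := by
  have hPq := map_primeOf_le f hy h' ξ'.2.1
  have hprime : ((primeOf h').map (Ideal.Quotient.mk
      ((primeOf hy).map (f.stalkMap x).hom))).IsPrime :=
    Ideal.map_isPrime_of_surjective Ideal.Quotient.mk_surjective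
      (by rw [Ideal.mk_ker]; exact hPq)
  have hq : toPrimeBar f x hy ξ' = ⟨(primeOf h').map (Ideal.Quotient.mk _), hprime⟩ :=
    PrimeSpectrum.ext (toPrimeBar_asIdeal f x hy ξ' h')
  rw [hq]
  show ((Module.length (Localization.AtPrime ((primeOf h').map (Ideal.Quotient.mk _)))
    (LocalizedModule ((primeOf h').map (Ideal.Quotient.mk _)).primeCompl _)).toNat : ℤ) = _
  rw [length_localizedModule_self]
  letI := (X.presheaf.stalkSpecializes h').hom.toAlgebra
  haveI := isLocalization_stalkSpecializes h'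
  rw [length_localization_quot (S := X.presheaf.stalk ξ'.1) (primeOf h') _ hPq]
  have := map_map_primeOf_eq f hy h' ξ'.2.1
  rw [← this]
  rfl

theorem Uq_bar [IsLocallyNoetherian X] {x : X} {ξ : Y} (hy : ξ ⤳ f x) (ξ' : FibIdx f ξ)
    (h' : ξ'.1 ⤳ x) (hd : Ring.KrullDimLE 1 (Cyc.LocQuot x ξ'.1 h'))
    (d : X.presheaf.stalk x) (hdne : Cyc.specMap x ξ'.1 h' d ≠ 0) :
    Uq (X.presheaf.stalk x ⧸ (primeOf hy).map (f.stalkMap x).hom)
      (Ideal.Quotient.mk _ d) (toPrimeBar f x hy ξ') =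
      ((Ring.ord (Cyc.LocQuot x ξ'.1 h')
        (Ideal.Quotient.mk (RingHom.ker (Cyc.specMap x ξ'.1 h')) d)).toNat : ℤ) := by
  have hPq := map_primeOf_le f hy h' ξ'.2.1
  have hprime : ((primeOf h').map (Ideal.Quotient.mk
      ((primeOf hy).map (f.stalkMap x).hom))).IsPrime :=
    Ideal.map_isPrime_of_surjective Ideal.Quotient.mk_surjective
      (by rw [Ideal.mk_ker]; exact hPq)
  have hq : toPrimeBar f x hy ξ' = ⟨(primeOf h').map (Ideal.Quotient.mk _), hprime⟩ :=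
    PrimeSpectrum.ext (toPrimeBar_asIdeal f x hy ξ' h')
  rw [hq]
  haveI := hprime
  haveI := isDomain_locQuot h'
  let e : ((X.presheaf.stalk x ⧸ (primeOf hy).map (f.stalkMap x).hom) ⧸
      (primeOf h').map (Ideal.Quotient.mk ((primeOf hy).map (f.stalkMap x).hom))) ≃+*
      Cyc.LocQuot x ξ'.1 h' :=
    (DoubleQuot.quotQuotEquivQuotOfLE hPq).trans (Ideal.quotEquivOfEq (ker_specMap h').symm)
  have hdq : Ideal.Quotient.mk ((primeOf hy).map (f.stalkMap x).hom) d ∉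
      (primeOf h').map (Ideal.Quotient.mk ((primeOf hy).map (f.stalkMap x).hom)) := by
    intro hmem
    apply hdne
    have : d ∈ primeOf h' := (Ideal.mem_quotient_iff_mem hPq).1 hmem
    rw [← ker_specMap h'] at this
    exact RingHom.mem_ker.1 this
  exact ordFrac_quot_of_ringEquiv _ e _ hdq

end Terms

section MainGen

variable (f : X ⟶ Y)

theorem delta_fibIdx [LocallyOfFiniteType f] (δX : X → ℤ) (δY : Y → ℤ) (r : ℕ)
    (hr : Cyc.HasRelDim f r) (hδ : Cyc.DeltaCompat f δX δY) {ξ : Y} (ξ' : FibIdx f ξ) :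
    δX ξ'.1 = δY ξ + r := by
  have hmax : ∀ y, f y = f ξ'.1 → y ⤳ ξ'.1 → y = ξ'.1 :=
    fun y hy hs => ξ'.2.2 y (hy.trans ξ'.2.1) hs
  rw [delta_eq_add_tr f δX δY hδ ξ'.1, tr_eq_of_isMax f r hr ξ'.1 hmax, ξ'.2.1]

theorem restrict_eq_div_gen {x : X} {ξ : Y} (ξ' : FibIdx f ξ) (hξ' : ξ'.1 ⤳ x)
    (hy : ξ ⤳ f x) (g : Y.residueField ξ) (a b : Y.presheaf.stalk (f x))
    (hgab : g = Cyc.specMap (f x) ξ hy a / Cyc.specMap (f x) ξ hy b) :
    (f.residueFieldMap ξ'.1).hom ((Y.residueFieldCongr ξ'.2.1.symm).hom g) =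
      Cyc.specMap x ξ'.1 hξ' ((f.stalkMap x).hom a) /
        Cyc.specMap x ξ'.1 hξ' ((f.stalkMap x).hom b) := by
  have hfξ : f ξ'.1 ⤳ f x := hξ'.map f.continuous
  rw [specMap_stalkMap f hξ' hfξ, specMap_stalkMap f hξ' hfξ,
    specMap_congr ξ'.2.1.symm hy hfξ a, specMap_congr ξ'.2.1.symm hy hfξ b, hgab, map_div₀,
    map_div₀]

/-- The general local formula: at a point `x` maximal in its fibre over a point `f x` which is an
immediate specialization of `ξ`,
`ord_{f x}(g) · length(O_{X,x}/𝔪 O_{X,x}) = Σ_ξ' length(O_{X,ξ'}/𝔪_ξ O_{X,ξ'}) ord_x(g|_ξ')`. -/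
theorem pull_div_gen_main [IsLocallyNoetherian X] [IsLocallyNoetherian Y]
    [Flat f] [LocallyOfFiniteType f] (δX : X → ℤ) (δY : Y → ℤ)
    (hdimX : Cyc.IsDimFun X δX) (hdimY : Cyc.IsDimFun Y δY) (r : ℕ) (hr : Cyc.HasRelDim f r)
    (hδ : Cyc.DeltaCompat f δX δY) (ξ : Y) (g : Y.residueField ξ) (hg : g ≠ 0) (x : X)
    (hy : ξ ⤳ f x)
    (h2 : δX x = δY (f x) + r) (h3 : δY (f x) + 1 = δY ξ) :
    Cyc.ordAt (f x) ξ hy g *
      ((Module.length (X.presheaf.stalk x) (X.presheaf.stalk x ⧸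
        Ideal.map (f.stalkMap x).hom (maximalIdeal (Y.presheaf.stalk (f x))))).toNat : ℤ) =
      ∑ᶠ ξ' : FibIdx f ξ, ((Module.length (X.presheaf.stalk ξ'.1) (X.presheaf.stalk ξ'.1 ⧸
        Ideal.map (f.stalkMap ξ'.1).hom (maximalIdeal (Y.presheaf.stalk (f ξ'.1))))).toNat : ℤ) *
        Cyc.divFun δX ξ'.1
          ((f.residueFieldMap ξ'.1).hom ((Y.residueFieldCongr ξ'.2.1.symm).hom g)) x := by
  classical
  have hdA := krullDimLE_one_locQuot δY hdimY hy h3
  have hne : ξ ≠ f x := by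
    intro he
    rw [← he] at h3
    linarith
  have hpm : primeOf hy ≠ maximalIdeal (Y.presheaf.stalk (f x)) :=
    primeOf_ne_maximalIdeal hy hne
  have hmaxx := isMax_fibre_of_delta f δX δY hdimX r hr hδ x h2
  have hfin : Module.length (X.presheaf.stalk x) (X.presheaf.stalk x ⧸
      Ideal.map (f.stalkMap x).hom (maximalIdeal (Y.presheaf.stalk (f x)))) ≠ ⊤ :=
    (length_ne_top_iff_isMax f x).2 hmaxx
  have hdim' : Ring.KrullDimLE 1 (Y.presheaf.stalk (f x) ⧸ primeOf hy) := by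
    rw [Ring.krullDimLE_iff,
      ringKrullDim_eq_of_ringEquiv (Ideal.quotEquivOfEq (ker_specMap hy).symm)]
    exact Ring.krullDimLE_iff.1 hdA
  -- write `g = a / b`
  obtain ⟨a, b, hb, hgab⟩ := exists_specMap_div hy g
  have ha : Cyc.specMap (f x) ξ hy a ≠ 0 := by
    intro h0
    apply hg
    rw [hgab, h0, zero_div]
  have hmul : ∀ c : Y.presheaf.stalk (f x), Cyc.specMap (f x) ξ hy c ≠ 0 →
      ((Ring.ord (Cyc.LocQuot (f x) ξ hy)
        (Ideal.Quotient.mk (RingHom.ker (Cyc.specMap (f x) ξ hy)) c)).toNat : ℤ) *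
        ((Module.length (X.presheaf.stalk x) (X.presheaf.stalk x ⧸
          Ideal.map (f.stalkMap x).hom (maximalIdeal (Y.presheaf.stalk (f x))))).toNat : ℤ) =
      ∑ᶠ q ∈ {q : PrimeSpectrum (X.presheaf.stalk x ⧸ (primeOf hy).map (f.stalkMap x).hom) |
          q.asIdeal ∈ minimalPrimes
            (X.presheaf.stalk x ⧸ (primeOf hy).map (f.stalkMap x).hom)},
        cq (X.presheaf.stalk x ⧸ (primeOf hy).map (f.stalkMap x).hom) q *
          Uq (X.presheaf.stalk x ⧸ (primeOf hy).map (f.stalkMap x).hom)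
            (Ideal.Quotient.mk _ ((f.stalkMap x).hom c)) q := by
    intro c hc
    have hcp : c ∉ primeOf hy := by
      intro hmem
      apply hc
      rw [← ker_specMap hy] at hmem
      exact RingHom.mem_ker.1 hmem
    rw [← ord_quot_mul_eq_finsum (f.stalkMap x).hom (Flat.stalkMap f x) (primeOf hy) hdim' hpm
      hfin c hcp]
    congr 3
    exact ord_eq_of_ringEquiv (Ideal.quotEquivOfEq (ker_specMap hy)) _
  rw [hgab, ordAt_div hy hdA a b ha hb, sub_mul, hmul a ha, hmul b hb,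
    ← finsum_mem_sub_distrib _ _ (finite_minimal_set _)]
  -- the right-hand side
  have hsupp : Function.support (fun ξ' : FibIdx f ξ =>
      ((Module.length (X.presheaf.stalk ξ'.1) (X.presheaf.stalk ξ'.1 ⧸
        Ideal.map (f.stalkMap ξ'.1).hom (maximalIdeal (Y.presheaf.stalk (f ξ'.1))))).toNat : ℤ) *
        Cyc.divFun δX ξ'.1
          ((f.residueFieldMap ξ'.1).hom ((Y.residueFieldCongr ξ'.2.1.symm).hom
            (Cyc.specMap (f x) ξ hy a / Cyc.specMap (f x) ξ hy b))) x) ⊆ {ξ' | ξ'.1 ⤳ x} := by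
    intro ξ' hξ'
    by_contra hn
    apply hξ'
    have : Cyc.divFun δX ξ'.1
        ((f.residueFieldMap ξ'.1).hom ((Y.residueFieldCongr ξ'.2.1.symm).hom
          (Cyc.specMap (f x) ξ hy a / Cyc.specMap (f x) ξ hy b))) x = 0 :=
      dif_neg (fun h => hn h.1)
    simp only [this, mul_zero]
  have hR := finsum_mem_inter_support_eq' _ Set.univ {ξ' : FibIdx f ξ | ξ'.1 ⤳ x}
    (fun ξ' hξ' => ⟨fun _ => hsupp hξ', fun _ => trivial⟩)
  rw [finsum_mem_univ] at hR
  rw [hR]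
  symm
  refine finsum_mem_eq_of_bijOn (toPrimeBar f x hy) (bijOn_toPrimeBar f x hy) ?_
  intro ξ' hξ
  have hξ' : ξ'.1 ⤳ x := hξ
  have hδξ : δX x + 1 = δX ξ'.1 := by
    rw [delta_fibIdx f δX δY r hr hδ ξ']
    linarith
  have hd := krullDimLE_one_locQuot δX hdimX hξ' hδξ
  have hfξ : f ξ'.1 ⤳ f x := hξ'.map f.continuous
  have hnz : ∀ c : Y.presheaf.stalk (f x), Cyc.specMap (f x) ξ hy c ≠ 0 →
      Cyc.specMap x ξ'.1 hξ' ((f.stalkMap x).hom c) ≠ 0 := by
    intro c hc h0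
    rw [specMap_stalkMap f hξ' hfξ, specMap_congr ξ'.2.1.symm hy hfξ c] at h0
    apply hc
    have h1 := (map_eq_zero_iff _ (f.residueFieldMap ξ'.1).hom.injective).1 h0
    exact (map_eq_zero_iff _ (Y.residueFieldCongr ξ'.2.1.symm).hom.hom.injective).1 h1
  have hdiv : Cyc.divFun δX ξ'.1
      ((f.residueFieldMap ξ'.1).hom ((Y.residueFieldCongr ξ'.2.1.symm).hom
        (Cyc.specMap (f x) ξ hy a / Cyc.specMap (f x) ξ hy b))) x =
      Cyc.ordAt x ξ'.1 hξ' ((f.residueFieldMap ξ'.1).hom ((Y.residueFieldCongr ξ'.2.1.symm).hom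
        (Cyc.specMap (f x) ξ hy a / Cyc.specMap (f x) ξ hy b))) :=
    dif_pos ⟨hξ', hδξ⟩
  rw [hdiv, restrict_eq_div_gen f ξ' hξ' hy _ a b rfl,
    ordAt_div hξ' hd _ _ (hnz a ha) (hnz b hb), cq_bar f hy ξ' hξ',
    Uq_bar f hy ξ' hξ' hd _ (hnz a ha), Uq_bar f hy ξ' hξ' hd _ (hnz b hb)]
  ring

end MainGen

end Groth.Agent.Lib.Helper18.CycDiv
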