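import Mathlib
import Groth.Prelude.Def_Cyc
import Groth.Agent.Lib.Helper18.Cyc.PullDivGen

set_option autoImplicit false
set_option linter.style.haveILetI false
universe u
open AlgebraicGeometry CategoryTheory IsLocalRing Order

namespace Groth.Agent.Lib.Helper18.CycDiv

open Groth.Agent.Lib.Helper13.StalkSpecLoc Groth.Agent.Lib.Helper18.CycPull
open Groth.Agent.Lib.Helper24.LatDist

variable {X Y : Scheme.{u}}

/-- Flat pullback of a principal divisor, pointwise: `f^* div_ξ(g) = Σ_ξ' n_ξ' div_ξ'(g|_ξ')`,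
the sum over the generic points `ξ'` of the fibre over `ξ`, with `n_ξ'` the length of
`O_{X,ξ'}/𝔪_ξ O_{X,ξ'}`. -/
theorem pullFun_divFun_gen (f : X ⟶ Y) [IsLocallyNoetherian X] [IsLocallyNoetherian Y]
    [Flat f] [LocallyOfFiniteType f] (δX : X → ℤ) (δY : Y → ℤ)
    (hdimX : Cyc.IsDimFun X δX) (hdimY : Cyc.IsDimFun Y δY) (r : ℕ) (hr : Cyc.HasRelDim f r)
    (hδ : Cyc.DeltaCompat f δX δY) (ξ : Y) (g : Y.residueField ξ) (hg : g ≠ 0) (x : X) :
    Cyc.pullFun f δX δY r (Cyc.divFun δY ξ g) x =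
      ∑ᶠ ξ' : FibIdx f ξ, ((Module.length (X.presheaf.stalk ξ'.1) (X.presheaf.stalk ξ'.1 ⧸
        Ideal.map (f.stalkMap ξ'.1).hom (maximalIdeal (Y.presheaf.stalk (f ξ'.1))))).toNat : ℤ) *
        Cyc.divFun δX ξ'.1
          ((f.residueFieldMap ξ'.1).hom ((Y.residueFieldCongr ξ'.2.1.symm).hom g)) x := by
  have htr := tr_le_of_hasRelDim f r hr x
  have hδx := delta_eq_add_tr f δX δY hδ x
  unfold Cyc.pullFun
  by_cases h2 : δX x = δY (f x) + r
  · rw [if_pos h2]
    by_cases h3 : ξ ⤳ f x ∧ δY (f x) + 1 = δY ξ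
    · have hL : Cyc.divFun δY ξ g (f x) = Cyc.ordAt (f x) ξ h3.1 g := dif_pos h3
      rw [hL]
      exact pull_div_gen_main f δX δY hdimX hdimY r hr hδ ξ g hg x h3.1 h2 h3.2
    · have hL : Cyc.divFun δY ξ g (f x) = 0 := dif_neg h3
      rw [hL, zero_mul]
      symm
      apply finsum_eq_zero_of_forall_eq_zero
      intro ξ'
      have hξδ := delta_fibIdx f δX δY r hr hδ ξ'
      have h0 : Cyc.divFun δX ξ'.1
          ((f.residueFieldMap ξ'.1).hom ((Y.residueFieldCongr ξ'.2.1.symm).hom g)) x = 0 := by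
        refine dif_neg (fun h => h3 ⟨?_, by linarith [h.2]⟩)
        have := h.1.map f.continuous
        rwa [ξ'.2.1] at this
      rw [h0, mul_zero]
  · rw [if_neg h2]
    symm
    apply finsum_eq_zero_of_forall_eq_zero
    intro ξ'
    have hξδ := delta_fibIdx f δX δY r hr hδ ξ'
    by_cases hc : ξ'.1 ⤳ x ∧ δX x + 1 = δX ξ'.1
    · have hdiv : Cyc.divFun δX ξ'.1
          ((f.residueFieldMap ξ'.1).hom ((Y.residueFieldCongr ξ'.2.1.symm).hom g)) x =
          Cyc.ordAt x ξ'.1 hc.1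
            ((f.residueFieldMap ξ'.1).hom ((Y.residueFieldCongr ξ'.2.1.symm).hom g)) :=
        dif_pos hc
      rw [hdiv]
      have hy : ξ ⤳ f x := by
        have := hc.1.map f.continuous
        rwa [ξ'.2.1] at this
      have hfx : ξ = f x := by
        by_contra hne
        have h4 := (hdimY _ _ hy hne).1
        have h5 : (Groth.Agent.Lib.Helper24.FibreDim.tr f x : ℤ) < r := by
          have h6 : (Groth.Agent.Lib.Helper24.FibreDim.tr f x : ℤ) ≤ r := by exact_mod_cast htr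
          rcases lt_or_eq_of_le h6 with h7 | h7
          · exact h7
          · exact absurd (by rw [hδx, h7]) h2
        linarith [hc.2]
      obtain ⟨a, b, hb, hgab⟩ := exists_specMap_div hy g
      have ha : Cyc.specMap (f x) ξ hy a ≠ 0 := by
        intro h0
        apply hg
        rw [hgab, h0, zero_div]
      have hua := isUnit_of_specMap_ne_zero hy hfx a ha
      have hub := isUnit_of_specMap_ne_zero hy hfx b hb
      have hre := restrict_eq_div_gen f ξ' hc.1 hy g a b hgab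
      have hnz : Cyc.specMap x ξ'.1 hc.1 ((f.stalkMap x).hom b) ≠ 0 :=
        ((hub.map (f.stalkMap x).hom).map (Cyc.specMap x ξ'.1 hc.1)).ne_zero
      have h0 : Cyc.ordAt x ξ'.1 hc.1
          ((f.residueFieldMap ξ'.1).hom ((Y.residueFieldCongr ξ'.2.1.symm).hom g)) = 0 := by
        refine ordAt_eq_zero_of_isUnit hc.1 _ (hua.map (f.stalkMap x).hom).unit
          (hub.map (f.stalkMap x).hom).unit ?_
        rw [IsUnit.unit_spec, IsUnit.unit_spec]
        exact (hre ▸ div_mul_cancel₀ _ hnz)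
      rw [h0, mul_zero]
    · have h0 : Cyc.divFun δX ξ'.1
          ((f.residueFieldMap ξ'.1).hom ((Y.residueFieldCongr ξ'.2.1.symm).hom g)) x = 0 :=
        dif_neg hc
      rw [h0, mul_zero]

section Pow

variable {A : Type*} [CommRing A] [IsDomain A] [IsNoetherianRing A] [Ring.KrullDimLE 1 A]
variable {K : Type*} [Field K] [Algebra A K] [IsFractionRing A K]

theorem ordZ_pow (x : K) (n : ℕ) :
    CycAlg.ordFrac A K (x ^ n) = n * CycAlg.ordFrac A K x := by
  by_cases hx : x = 0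
  · subst hx
    rcases Nat.eq_zero_or_pos n with rfl | hn
    · simp [ordZ_one]
    · rw [zero_pow hn.ne', ordZ_zero, mul_zero]
  · induction n with
    | zero => simp [ordZ_one]
    | succ n ih =>
      rw [pow_succ, ordZ_mul (pow_ne_zero n hx) hx, ih]
      push_cast
      ring

end Pow

theorem ordAt_pow {x ξ : X} (h : ξ ⤳ x) (g : X.residueField ξ) (n : ℕ) :
    Cyc.ordAt x ξ h (g ^ n) = n * Cyc.ordAt x ξ h g := by
  unfold Cyc.ordAt
  by_cases hc : IsNoetherianRing (Cyc.LocQuot x ξ h) ∧ Ring.KrullDimLE 1 (Cyc.LocQuot x ξ h) ∧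
      Nontrivial (Cyc.LocQuot x ξ h) ∧ IsFractionRing (Cyc.LocQuot x ξ h) (X.residueField ξ)
  · haveI := hc.1; haveI := hc.2.1; haveI := hc.2.2.2
    haveI := isDomain_locQuot h
    exact ordZ_pow g n
  · unfold CycAlg.ordFrac
    rw [dif_neg hc, dif_neg hc, mul_zero]

theorem divFun_pow (δ : X → ℤ) (ξ : X) (g : X.residueField ξ) (n : ℕ) (x : X) :
    Cyc.divFun δ ξ (g ^ n) x = n * Cyc.divFun δ ξ g x := by
  unfold Cyc.divFun
  by_cases hc : ξ ⤳ x ∧ δ x + 1 = δ ξ
  · rw [dif_pos hc, dif_pos hc, ordAt_pow]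
  · rw [dif_neg hc, dif_neg hc, mul_zero]

/-- Fubini for `finsum` over a sigma type, for finitely supported functions. -/
theorem finsum_sigma_eq {ι : Type*} {T : ι → Type*} {M : Type*} [AddCommMonoid M]
    (F : (Σ i, T i) → M) (hF : (Function.support F).Finite) :
    ∑ᶠ j, F j = ∑ᶠ i, ∑ᶠ t, F ⟨i, t⟩ := by
  classical
  have hfib : ∀ i, (Function.support (fun t => F ⟨i, t⟩)).Finite := fun i =>
    Set.Finite.preimage (sigma_mk_injective.injOn) hF
  have hI : Function.support (fun i => ∑ᶠ t, F ⟨i, t⟩) ⊆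
      ((hF.toFinset.image Sigma.fst : Finset ι) : Set ι) := by
    intro i hi
    by_contra hn
    apply hi
    apply finsum_eq_zero_of_forall_eq_zero
    intro t
    by_contra hne
    apply hn
    simp only [Finset.coe_image, Set.Finite.coe_toFinset, Set.mem_image, Function.mem_support]
    exact ⟨⟨i, t⟩, hne, rfl⟩
  rw [finsum_eq_sum_of_support_subset F (s := hF.toFinset) (by simp),
    finsum_eq_sum_of_support_subset _ hI]
  have h1 : ∀ i, ∑ᶠ t, F ⟨i, t⟩ = ∑ t ∈ (hfib i).toFinset, F ⟨i, t⟩ := fun i =>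
    finsum_eq_sum_of_support_subset _ (by simp)
  simp_rw [h1]
  rw [← Finset.sum_sigma]
  apply Finset.sum_congr _ (fun _ _ => rfl)
  ext ⟨i, t⟩
  simp only [Set.Finite.mem_toFinset, Function.mem_support, ne_eq, Finset.mem_sigma,
    Finset.mem_image]
  constructor
  · intro h
    exact ⟨⟨⟨i, t⟩, h, rfl⟩, h⟩
  · intro h
    exact h.2

/-- A closed subset of a Noetherian quasi-sober space has finitely many maximal points. -/
theorem finite_maximal_points_of_isClosed {N : Type*} [TopologicalSpace N]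
    [TopologicalSpace.NoetherianSpace N] [QuasiSober N] {T : Set N} (hT : IsClosed T) :
    {w | w ∈ T ∧ ∀ z ∈ T, z ⤳ w → z = w}.Finite := by
  obtain ⟨S, hSf, hSc, hSi, hSU⟩ :=
    TopologicalSpace.NoetherianSpace.exists_finite_set_isClosed_irreducible hT
  haveI : Finite S := hSf.to_subtype
  choose γ hγ using fun t : S => QuasiSober.sober (hSi t.1 t.2) (hSc t.1 t.2)
  refine (Set.finite_range γ).subset ?_
  rintro w ⟨hwT, hmax⟩
  rw [hSU] at hwT
  obtain ⟨t, htS, hwt⟩ := hwT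
  refine ⟨⟨t, htS⟩, ?_⟩
  have hγt : γ ⟨t, htS⟩ ∈ t := (hγ ⟨t, htS⟩).mem
  have hspec : γ ⟨t, htS⟩ ⤳ w := (hγ ⟨t, htS⟩).specializes hwt
  exact hmax _ (hSU ▸ ⟨t, htS, hγt⟩) hspec

/-- The generic points of the fibres over a locally finite family form a locally finite family. -/
theorem locallyFinite_fibIdx (f : X ⟶ Y) [IsLocallyNoetherian X] {ι : Type*} (ξ : ι → Y)
    (hlf : ∀ y : Y, ∃ V : Set Y, IsOpen V ∧ y ∈ V ∧ {i | (closure {ξ i} ∩ V).Nonempty}.Finite)
    (x : X) :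
    ∃ U : Set X, IsOpen U ∧ x ∈ U ∧
      {j : Σ i, FibIdx f (ξ i) | (closure {j.2.1} ∩ U).Nonempty}.Finite := by
  obtain ⟨V, hVo, hxV, hfin⟩ := hlf (f x)
  obtain ⟨_, ⟨W, hW, rfl⟩, hxW, hWV⟩ := X.isBasis_affineOpens.exists_subset_of_mem_open
    (show x ∈ f ⁻¹' V from hxV) (hVo.preimage f.continuous)
  have hW' : IsAffineOpen W := hW
  refine ⟨W, W.isOpen, hxW, ?_⟩
  have hSi : ∀ i, {ξ' : FibIdx f (ξ i) | ξ'.1 ∈ W}.Finite := by
    intro i
    haveI : IsNoetherianRing Γ(X, W) := IsLocallyNoetherian.component_noetherian ⟨W, hW'⟩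
    haveI : TopologicalSpace.NoetherianSpace ↥W := noetherianSpace_of_isAffineOpen W hW'
    haveI : QuasiSober ↥W := W.isOpenEmbedding'.quasiSober
    let T : Set ↥W := {w | f w.1 ∈ closure {ξ i}}
    have hT : IsClosed T := isClosed_closure.preimage (f.continuous.comp continuous_subtype_val)
    have hfinT := finite_maximal_points_of_isClosed hT
    refine Set.Finite.subset ((hfinT.image Subtype.val).preimage
      (Subtype.val_injective.injOn)) ?_
    intro ξ' hξ'W
    refine ⟨⟨ξ'.1, hξ'W⟩, ⟨?_, ?_⟩, rfl⟩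
    · show f ξ'.1 ∈ closure {ξ i}
      rw [ξ'.2.1]
      exact subset_closure rfl
    · intro z hzT hzw
      have h1 : z.1 ⤳ ξ'.1 := hzw.map continuous_subtype_val
      have h2 : f z.1 ⤳ ξ i := by
        have := h1.map f.continuous
        rwa [ξ'.2.1] at this
      have h3 : ξ i ⤳ f z.1 := specializes_iff_mem_closure.2 hzT
      have h4 : f z.1 = ξ i := (h2.antisymm h3).eq
      exact Subtype.ext (ξ'.2.2 z.1 h4 h1)
  refine ((hfin.biUnion (fun i _ => (hSi i).image (Sigma.mk i)))).subset ?_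
  rintro ⟨i, ξ'⟩ ⟨z, hz, hzW⟩
  have hspec : ξ'.1 ⤳ z := specializes_iff_mem_closure.2 hz
  have hξW : ξ'.1 ∈ W := hspec.mem_open W.isOpen hzW
  simp only [Set.mem_iUnion, Set.mem_image, Set.mem_setOf_eq]
  refine ⟨i, ⟨ξ i, subset_closure rfl, ?_⟩, ξ', hξW, rfl⟩
  have := hWV hξW
  rwa [Set.mem_preimage, ξ'.2.1] at this

/-- Flat pullback preserves rational equivalence to zero. -/
theorem ratEquivZero_pull (f : X ⟶ Y) [Flat f] [LocallyOfFiniteType f] [IsLocallyNoetherian X]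
    [IsLocallyNoetherian Y] (δX : X → ℤ) (δY : Y → ℤ) (hdimX : Cyc.IsDimFun X δX)
    (hdimY : Cyc.IsDimFun Y δY) (r : ℕ) (hr : Cyc.HasRelDim f r)
    (hδ : Cyc.DeltaCompat f δX δY) (k : ℤ) (γ : AlgebraicCycle Y ℤ)
    (h : Cyc.RatEquivZero δY k γ) (γ' : AlgebraicCycle X ℤ)
    (hγ' : ⇑γ' = Cyc.pullFun f δX δY r ⇑γ) : Cyc.RatEquivZero δX (k + r) γ' := by
  obtain ⟨ι, ξ, g, hξδ, hg, hlf, hsum⟩ := h
  let n : (Σ i, FibIdx f (ξ i)) → ℕ := fun j =>
    (Module.length (X.presheaf.stalk j.2.1) (X.presheaf.stalk j.2.1 ⧸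
      Ideal.map (f.stalkMap j.2.1).hom (maximalIdeal (Y.presheaf.stalk (f j.2.1))))).toNat
  let g'' : (j : Σ i, FibIdx f (ξ i)) → X.residueField j.2.1 := fun j =>
    ((f.residueFieldMap j.2.1).hom ((Y.residueFieldCongr j.2.2.1.symm).hom (g j.1))) ^ n j
  have hlf' := locallyFinite_fibIdx f ξ hlf
  refine ⟨Σ i, FibIdx f (ξ i), fun j => j.2.1, g'', ?_, ?_, hlf', ?_⟩
  · intro j
    show δX j.2.1 = k + r + 1
    rw [delta_fibIdx f δX δY r hr hδ j.2, hξδ j.1]
    ring
  · intro j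
    apply pow_ne_zero
    intro h0
    have h1 := (map_eq_zero_iff _ (f.residueFieldMap j.2.1).hom.injective).1 h0
    exact hg j.1 ((map_eq_zero_iff _ (Y.residueFieldCongr j.2.2.1.symm).hom.hom.injective).1 h1)
  · intro x
    rw [hγ']
    have hA : Cyc.pullFun f δX δY r ⇑γ x =
        ∑ᶠ i, Cyc.pullFun f δX δY r (Cyc.divFun δY (ξ i) (g i)) x := by
      unfold Cyc.pullFun
      by_cases hc : δX x = δY (f x) + r
      · simp only [if_pos hc]
        rw [hsum (f x), finsum_mul]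
      · simp only [if_neg hc]
        rw [finsum_zero]
    rw [hA]
    have hB : ∀ i, Cyc.pullFun f δX δY r (Cyc.divFun δY (ξ i) (g i)) x =
        ∑ᶠ ξ' : FibIdx f (ξ i), Cyc.divFun δX ξ'.1 (g'' ⟨i, ξ'⟩) x := by
      intro i
      rw [pullFun_divFun_gen f δX δY hdimX hdimY r hr hδ (ξ i) (g i) (hg i) x]
      apply finsum_congr
      intro ξ'
      rw [divFun_pow]
    simp_rw [hB]
    symm
    apply finsum_sigma_eq (fun j : Σ i, FibIdx f (ξ i) => Cyc.divFun δX j.2.1 (g'' j) x)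
    obtain ⟨U, hUo, hxU, hfinU⟩ := hlf' x
    refine hfinU.subset ?_
    intro j hj
    have hspec : j.2.1 ⤳ x := by
      by_contra hn
      apply hj
      exact dif_neg (fun h => hn h.1)
    exact ⟨x, specializes_iff_mem_closure.1 hspec, hxU⟩

end Groth.Agent.Lib.Helper18.CycDiv
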