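import Mathlib
import Groth.Prelude.Def_C1
import Groth.Prelude.Def_Pic
import Groth.Agent.Lib.Helper18.Cyc.C1Core
import Groth.Agent.Lib.Helper18.Cyc.UnitStalk
import Groth.Agent.Lib.Helper18.Cyc.PullRat
import Groth.Agent.Lib.Helper18.Cyc.ClosedPush

/-!
# Rational sections of the structure sheaf
-/

set_option autoImplicit false
set_option linter.style.haveILetI false
open CategoryTheory AlgebraicGeometry IsLocalRing

namespace Groth.Agent.Lib.Helper18.C1Core

universe u

open Groth.Agent.Lib.Helper18.InvStalk Groth.Agent.Lib.Helper18.CycDiv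
open Groth.Agent.Lib.Helper18.CycUnitStalk Groth.Agent.Lib.Helper24.LatDist

variable {X : Scheme.{u}}

theorem isInvertible_structureModule (X : Scheme.{u}) :
    PicF.IsInvertible (Coh.structureModule X) :=
  fun _ => ⟨⊤, trivial, ⟨Scheme.Modules.restrictUnitIso _⟩⟩

theorem freeGen_one (x : X) : FreeGen (X.presheaf.stalk x) (one X x) := by
  have hb := bij X x
  constructor
  · rw [eq_top_iff]
    rintro m -
    obtain ⟨a, ha⟩ := hb.2 m
    exact Submodule.mem_span_singleton.2 ⟨a, ha⟩
  · intro a ha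
    apply hb.1
    rw [LinearMap.toSpanSingleton_apply, LinearMap.toSpanSingleton_apply, ha, zero_smul]

theorem stalkSpecializes_one {ξ x : X} (h : ξ ⤳ x) :
    (Coh.structureModule X).presheaf.stalkSpecializes h (one X x) = one X ξ := by
  unfold one gF
  exact TopCat.Presheaf.germ_stalkSpecializes_apply (Coh.structureModule X).presheaf
    (U := ⊤) (y := x) (x := ξ) trivial h _

/-- multiplicativity of the order along an immediate specialization -/
theorem ordAt_mul [IsLocallyNoetherian X] {x ξ : X} (h : ξ ⤳ x)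
    (hd : Ring.KrullDimLE 1 (Cyc.LocQuot x ξ h)) {a b : X.residueField ξ}
    (ha : a ≠ 0) (hb : b ≠ 0) :
    Cyc.ordAt x ξ h (a * b) = Cyc.ordAt x ξ h a + Cyc.ordAt x ξ h b := by
  haveI := isFractionRing_locQuot h
  haveI := isDomain_locQuot h
  haveI : IsNoetherianRing (Cyc.LocQuot x ξ h) :=
    Ideal.Quotient.isNoetherianRing (RingHom.ker (Cyc.specMap x ξ h))
  unfold Cyc.ordAt
  exact ordZ_mul ha hb

/-- every nonzero element of the fibre of the structure module is a unit multiple of `1` -/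
theorem exists_residue_ne_zero (ξ : X) (s : Cyc.secFibre (Coh.structureModule X) ξ) (hs : s ≠ 0) :
    ∃ φ : X.presheaf.stalk ξ,
      s = φ • (Submodule.Quotient.mk (one X ξ) : Cyc.secFibre (Coh.structureModule X) ξ) ∧
      X.residue ξ φ ≠ 0 := by
  obtain ⟨m, rfl⟩ := Submodule.Quotient.mk_surjective _ s
  obtain ⟨φ, hφ⟩ := (freeGen_one ξ).exists_smul m
  refine ⟨φ, by rw [hφ, Submodule.Quotient.mk_smul], ?_⟩
  intro h0
  apply hs
  have hmem : φ ∈ maximalIdeal (X.presheaf.stalk ξ) := by
    rw [← IsLocalRing.residue_eq_zero_iff]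
    exact h0
  rw [Submodule.Quotient.mk_eq_zero, hφ]
  exact Submodule.smul_mem_smul hmem Submodule.mem_top

/-- the divisor of a rational section of the structure sheaf is the divisor of the corresponding
rational function -/
theorem secDivFun_structure [IsLocallyNoetherian X] (δ : X → ℤ) (hδ : Cyc.IsDimFun X δ) (ξ : X)
    (φ : X.presheaf.stalk ξ) (hφ : X.residue ξ φ ≠ 0) (x : X) :
    Cyc.secDivFun δ (Coh.structureModule X) ξ
      (φ • (Submodule.Quotient.mk (one X ξ) : Cyc.secFibre (Coh.structureModule X) ξ)) x =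
      Cyc.divFun δ ξ (X.residue ξ φ) x := by
  classical
  have hL := isInvertible_structureModule X
  unfold Cyc.secDivFun Cyc.divFun
  by_cases hc : ξ ⤳ x ∧ δ x + 1 = δ ξ
  · rw [dif_pos hc, dif_pos hc]
    have ht := exists_span_eq_top (Coh.structureModule X) hL x
    obtain ⟨u, hu, -⟩ := (freeGen_one x).of_span_eq_top (Classical.choose_spec ht)
    -- `one ξ = sp(u⁻¹) • sp(t)`
    have h1 : one X ξ = X.presheaf.stalkSpecializes hc.1 ((u⁻¹ : (X.presheaf.stalk x)ˣ) :
        X.presheaf.stalk x) •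
        (Coh.structureModule X).presheaf.stalkSpecializes hc.1 (Classical.choose ht) := by
      rw [← stalkSpecializes_smul, hu, ← mul_smul, Units.inv_mul, one_smul, stalkSpecializes_one]
    have h2 : (φ • (Submodule.Quotient.mk (one X ξ) :
        Cyc.secFibre (Coh.structureModule X) ξ)) =
        (φ * X.presheaf.stalkSpecializes hc.1 ((u⁻¹ : (X.presheaf.stalk x)ˣ) :
          X.presheaf.stalk x)) •
        (Submodule.Quotient.mk ((Coh.structureModule X).presheaf.stalkSpecializes hc.1
          (Classical.choose ht)) : Cyc.secFibre (Coh.structureModule X) ξ) := by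
      conv_lhs => rw [h1]
      rw [Submodule.Quotient.mk_smul, ← mul_smul]
    rw [h2, secOrdAt_smul_mk (Coh.structureModule X) hL hc.1 ht, map_mul]
    have hd := krullDimLE_one_locQuot δ hδ hc.1 hc.2
    have h3 : X.residue ξ (X.presheaf.stalkSpecializes hc.1
        ((u⁻¹ : (X.presheaf.stalk x)ˣ) : X.presheaf.stalk x)) =
        Cyc.specMap x ξ hc.1 ((u⁻¹ : (X.presheaf.stalk x)ˣ) : X.presheaf.stalk x) := rfl
    rw [h3]
    have hu0 : Cyc.specMap x ξ hc.1 ((u⁻¹ : (X.presheaf.stalk x)ˣ) : X.presheaf.stalk x) ≠ 0 :=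
      ((u⁻¹).isUnit.map (Cyc.specMap x ξ hc.1)).ne_zero
    have h4 : Cyc.ordAt x ξ hc.1
        (Cyc.specMap x ξ hc.1 ((u⁻¹ : (X.presheaf.stalk x)ˣ) : X.presheaf.stalk x)) = 0 :=
      ordAt_eq_zero_of_isUnit hc.1 _ u⁻¹ 1 (by simp)
    rw [ordAt_mul hc.1 hd hφ hu0, h4, add_zero]
  · rw [dif_neg hc, dif_neg hc]

/-- integer powers -/
theorem divFun_zpow (δ : X → ℤ) (ξ : X) (g : X.residueField ξ) (n : ℤ) (x : X) :
    Cyc.divFun δ ξ (g ^ n) x = n * Cyc.divFun δ ξ g x := by
  cases n with
  | ofNat n => rw [Int.ofNat_eq_natCast, zpow_natCast, divFun_pow]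
  | negSucc n =>
    rw [zpow_negSucc, divFun_inv, divFun_pow, Int.negSucc_eq]
    push_cast
    ring

/-- a `finsum` over a type is a `finsum` over any subtype containing the support -/
theorem finsum_eq_finsum_subtype {ι M : Type*} [AddCommMonoid M] (F : ι → M) (p : ι → Prop)
    (h : ∀ a, F a ≠ 0 → p a) : ∑ᶠ a, F a = ∑ᶠ a : Subtype p, F a.1 := by
  have hsupp : ∀ a ∈ Function.support F, a ∈ (Set.univ : Set ι) ↔ a ∈ {a | p a} :=
    fun a ha => ⟨fun _ => h a ha, fun _ => trivial⟩
  have hR := finsum_mem_inter_support_eq' F _ _ hsupp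
  rw [finsum_mem_univ] at hR
  rw [hR]
  exact (finsum_subtype_eq_finsum_cond (f := F) p).symm

end Groth.Agent.Lib.Helper18.C1Core
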