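import Mathlib
import Groth.Prelude.Def_C1
import Groth.Prelude.Def_Pic
import Groth.Agent.Lib.Helper18.Cyc.C1Unit

/-!
# `c_1(L) ∩ α` does not depend on the chosen rational sections, up to rational equivalence
-/

set_option autoImplicit false
set_option linter.style.haveILetI false
open CategoryTheory AlgebraicGeometry IsLocalRing

namespace Groth.Agent.Lib.Helper18.C1Core

universe u

open Groth.Agent.Lib.Helper18.InvStalk Groth.Agent.Lib.Helper18.CycDiv
open Groth.Agent.Lib.Helper24.LatDist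

variable {X : Scheme.{u}} (L : X.Modules)

theorem mk_smul_eq_zero_of_mem {ξ : X} (a : X.presheaf.stalk ξ)
    (ha : a ∈ maximalIdeal (X.presheaf.stalk ξ)) (m : L.presheaf.stalk ξ) :
    (Submodule.Quotient.mk (a • m) : Cyc.secFibre L ξ) = 0 := by
  rw [Submodule.Quotient.mk_eq_zero]
  exact Submodule.smul_mem_smul ha Submodule.mem_top

/-- every element of the fibre is a multiple of the class of a free generator -/
theorem exists_smul_mk {ξ : X} {g : L.presheaf.stalk ξ} (hg : FreeGen (X.presheaf.stalk ξ) g)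
    (w : Cyc.secFibre L ξ) :
    ∃ φ : X.presheaf.stalk ξ, w = φ • (Submodule.Quotient.mk g : Cyc.secFibre L ξ) := by
  obtain ⟨m, rfl⟩ := Submodule.Quotient.mk_surjective _ w
  obtain ⟨φ, hφ⟩ := hg.exists_smul m
  exact ⟨φ, by rw [hφ, Submodule.Quotient.mk_smul]⟩

theorem residue_ne_zero_of_smul_mk_ne_zero {ξ : X} {g : L.presheaf.stalk ξ}
    (φ : X.presheaf.stalk ξ)
    (h : φ • (Submodule.Quotient.mk g : Cyc.secFibre L ξ) ≠ 0) : X.residue ξ φ ≠ 0 := by
  intro h0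
  apply h
  have hmem : φ ∈ maximalIdeal (X.presheaf.stalk ξ) := by
    rw [← IsLocalRing.residue_eq_zero_iff]
    exact h0
  rw [← Submodule.Quotient.mk_smul]
  exact mk_smul_eq_zero_of_mem L φ hmem g

theorem isUnit_of_residue_ne_zero {ξ : X} (φ : X.presheaf.stalk ξ) (h : X.residue ξ φ ≠ 0) :
    IsUnit φ := by
  by_contra hn
  apply h
  have hmem : φ ∈ maximalIdeal (X.presheaf.stalk ξ) := (mem_maximalIdeal _).2 hn
  exact (IsLocalRing.residue_eq_zero_iff _).2 hmem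

variable (hL : PicF.IsInvertible L)

include hL

/-- the order of a rational section written on the specialization of an arbitrary free generator
at `x` -/
theorem secOrdAt_smul_mk_of_freeGen [IsLocallyNoetherian X] {ξ x : X} (h : ξ ⤳ x)
    (hd : Ring.KrullDimLE 1 (Cyc.LocQuot x ξ h)) {t : L.presheaf.stalk x}
    (ht : FreeGen (X.presheaf.stalk x) t) (φ : X.presheaf.stalk ξ) (hφ : X.residue ξ φ ≠ 0) :
    Cyc.secOrdAt L ξ x h (φ • (Submodule.Quotient.mk
      ((L.presheaf.stalkSpecializes h) t) : Cyc.secFibre L ξ)) =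
      Cyc.ordAt x ξ h (X.residue ξ φ) := by
  have ht0 := exists_span_eq_top L hL x
  have hfree0 := freeGen_of_span_eq_top L hL (Classical.choose_spec ht0)
  obtain ⟨u, hu, -⟩ := hfree0.of_span_eq_top ht.1
  have h2 : (φ • (Submodule.Quotient.mk ((L.presheaf.stalkSpecializes h) t) :
      Cyc.secFibre L ξ)) =
      (φ * X.presheaf.stalkSpecializes h (u : X.presheaf.stalk x)) •
      (Submodule.Quotient.mk ((L.presheaf.stalkSpecializes h) (Classical.choose ht0)) :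
        Cyc.secFibre L ξ) := by
    conv_lhs => rw [hu, stalkSpecializes_smul]
    rw [Submodule.Quotient.mk_smul, ← mul_smul]
  rw [h2, secOrdAt_smul_mk L hL h ht0, map_mul]
  have h3 : X.residue ξ (X.presheaf.stalkSpecializes h (u : X.presheaf.stalk x)) =
      Cyc.specMap x ξ h (u : X.presheaf.stalk x) := rfl
  rw [h3]
  have hu0 : Cyc.specMap x ξ h (u : X.presheaf.stalk x) ≠ 0 :=
    (u.isUnit.map (Cyc.specMap x ξ h)).ne_zero
  have h4 : Cyc.ordAt x ξ h (Cyc.specMap x ξ h (u : X.presheaf.stalk x)) = 0 :=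
    ordAt_eq_zero_of_isUnit h _ u 1 (by simp)
  rw [ordAt_mul h hd hφ hu0, h4, add_zero]

/-- multiplying a rational section by a rational function adds the orders -/
theorem secOrdAt_smul [IsLocallyNoetherian X] {ξ x : X} (h : ξ ⤳ x)
    (hd : Ring.KrullDimLE 1 (Cyc.LocQuot x ξ h)) (ψ : X.presheaf.stalk ξ)
    (hψ : X.residue ξ ψ ≠ 0) (w : Cyc.secFibre L ξ) (hw : w ≠ 0) :
    Cyc.secOrdAt L ξ x h (ψ • w) = Cyc.ordAt x ξ h (X.residue ξ ψ) + Cyc.secOrdAt L ξ x h w := by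
  have ht0 := exists_span_eq_top L hL x
  have hg := freeGen_stalkSpecializes L hL h (Classical.choose_spec ht0)
  obtain ⟨φ, rfl⟩ := exists_smul_mk L hg w
  have hφ := residue_ne_zero_of_smul_mk_ne_zero L φ hw
  rw [← mul_smul, secOrdAt_smul_mk L hL h ht0, secOrdAt_smul_mk L hL h ht0, map_mul,
    ordAt_mul h hd hψ hφ]

theorem secDivFun_smul [IsLocallyNoetherian X] (δ : X → ℤ) (hδ : Cyc.IsDimFun X δ) (ξ : X)
    (ψ : X.presheaf.stalk ξ) (hψ : X.residue ξ ψ ≠ 0) (w : Cyc.secFibre L ξ) (hw : w ≠ 0)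
    (x : X) :
    Cyc.secDivFun δ L ξ (ψ • w) x =
      Cyc.divFun δ ξ (X.residue ξ ψ) x + Cyc.secDivFun δ L ξ w x := by
  classical
  unfold Cyc.secDivFun Cyc.divFun
  by_cases hc : ξ ⤳ x ∧ δ x + 1 = δ ξ
  · rw [dif_pos hc, dif_pos hc, dif_pos hc]
    exact secOrdAt_smul L hL hc.1 (krullDimLE_one_locQuot δ hδ hc.1 hc.2) ψ hψ w hw
  · rw [dif_neg hc, dif_neg hc, dif_neg hc, add_zero]

/-- two nonzero elements of the fibre differ by a unit -/
theorem exists_smul_eq (ξ : X) (w w' : Cyc.secFibre L ξ) (hw : w ≠ 0) (hw' : w' ≠ 0) :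
    ∃ ψ : X.presheaf.stalk ξ, X.residue ξ ψ ≠ 0 ∧ w = ψ • w' := by
  obtain ⟨g, hg⟩ := exists_freeGen L hL ξ
  obtain ⟨a, rfl⟩ := exists_smul_mk L hg w
  obtain ⟨b, rfl⟩ := exists_smul_mk L hg w'
  have ha := residue_ne_zero_of_smul_mk_ne_zero L a hw
  have hb := residue_ne_zero_of_smul_mk_ne_zero L b hw'
  have hbu := isUnit_of_residue_ne_zero b hb
  refine ⟨a * ((hbu.unit⁻¹ : (X.presheaf.stalk ξ)ˣ) : X.presheaf.stalk ξ), ?_, ?_⟩
  · rw [map_mul]
    apply mul_ne_zero ha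
    exact ((hbu.unit⁻¹).isUnit.map (X.residue ξ).hom).ne_zero
  · rw [← mul_smul, mul_assoc]
    congr 1
    have : ((hbu.unit⁻¹ : (X.presheaf.stalk ξ)ˣ) : X.presheaf.stalk ξ) * b = 1 :=
      hbu.val_inv_mul
    rw [this, mul_one]

omit hL in
/-- the supports of the summands of `c_1(L) ∩ β` at a point are finite -/
theorem finite_support_c1Cap_term (δ : X → ℤ) (β : X → ℤ) (hβ : LocallyFiniteSupport β)
    (s : (ξ : X) → Cyc.secFibre L ξ) (x : X) :
    (Function.support (fun ξ : X => β ξ * Cyc.secDivFun δ L ξ (s ξ) x)).Finite := by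
  classical
  obtain ⟨t, ht, hfin⟩ := hβ x
  refine hfin.subset ?_
  intro ξ hξ
  have h1 : β ξ ≠ 0 := left_ne_zero_of_mul hξ
  have h2 : Cyc.secDivFun δ L ξ (s ξ) x ≠ 0 := right_ne_zero_of_mul hξ
  have hspec : ξ ⤳ x := by
    by_contra hn
    apply h2
    unfold Cyc.secDivFun
    exact dif_neg (fun h => hn h.1)
  have hi : ξ ∈ interior t := hspec.mem_open isOpen_interior (mem_interior_iff_mem_nhds.2 ht)
  exact ⟨interior_subset hi, h1⟩

/-- **Independence of the sections**: two choices of nonzero rational sections give rationally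
equivalent `c_1(L) ∩ β`. -/
theorem ratEquivZero_c1CapFun_sub [IsLocallyNoetherian X] (δ : X → ℤ) (hδ : Cyc.IsDimFun X δ)
    (k : ℤ) (β : X → ℤ) (hβk : ∀ ξ, β ξ ≠ 0 → δ ξ = k + 1) (hβ : LocallyFiniteSupport β)
    (s s' : (ξ : X) → Cyc.secFibre L ξ) (hs : ∀ ξ, s ξ ≠ 0) (hs' : ∀ ξ, s' ξ ≠ 0)
    (γ : AlgebraicCycle X ℤ)
    (hγ : ∀ x, γ x = Cyc.c1CapFun δ L β s x - Cyc.c1CapFun δ L β s' x) :
    Cyc.RatEquivZero δ k γ := by
  classical
  choose ψ hψ0 hψs using fun ξ : X => exists_smul_eq L hL ξ (s ξ) (s' ξ) (hs ξ) (hs' ξ)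
  refine ⟨{ξ : X // β ξ ≠ 0}, fun i => i.1, fun i => (X.residue i.1 (ψ i.1)) ^ (β i.1),
    ?_, ?_, ?_, ?_⟩
  · intro i
    exact hβk i.1 i.2
  · intro i
    exact zpow_ne_zero _ (hψ0 i.1)
  · intro y
    obtain ⟨t, ht, hfin⟩ := hβ y
    refine ⟨interior t, isOpen_interior, mem_interior_iff_mem_nhds.2 ht, ?_⟩
    refine Set.Finite.subset (hfin.preimage (Subtype.val_injective.injOn) :
      {i : {ξ : X // β ξ ≠ 0} | (i : X) ∈ t ∩ Function.support β}.Finite) ?_
    rintro i ⟨w, hw1, hw2⟩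
    have hi : (i : X) ∈ interior t :=
      (specializes_iff_mem_closure.2 hw1).mem_open isOpen_interior hw2
    exact ⟨interior_subset hi, i.2⟩
  · intro x
    rw [hγ]
    show ∑ᶠ ξ : X, β ξ * Cyc.secDivFun δ L ξ (s ξ) x -
      ∑ᶠ ξ : X, β ξ * Cyc.secDivFun δ L ξ (s' ξ) x = _
    rw [← finsum_sub_distrib (finite_support_c1Cap_term L δ β hβ s x)
      (finite_support_c1Cap_term L δ β hβ s' x)]
    rw [finsum_eq_finsum_subtype (fun ξ : X => β ξ * Cyc.secDivFun δ L ξ (s ξ) x -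
      β ξ * Cyc.secDivFun δ L ξ (s' ξ) x) (fun ξ => β ξ ≠ 0)
      (fun a ha h0 => ha (by show _ - _ = 0; rw [h0, zero_mul, zero_mul, sub_zero]))]
    apply finsum_congr
    intro i
    show β i.1 * Cyc.secDivFun δ L i.1 (s i.1) x - β i.1 * Cyc.secDivFun δ L i.1 (s' i.1) x = _
    rw [divFun_zpow]
    conv_lhs => rw [hψs i.1]
    rw [secDivFun_smul L hL δ hδ i.1 (ψ i.1) (hψ0 i.1) (s' i.1) (hs' i.1) x]
    ring

end Groth.Agent.Lib.Helper18.C1Core
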