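import Mathlib
import Groth.Prelude.Def_C1
import Groth.Prelude.Def_Pic
import Groth.Agent.Lib.Helper18.Cyc.C1Sec
import Groth.Agent.Lib.Helper28.PullbackInv2

/-!
# Pullback of germs of sections of a module

For `f : X ⟶ Y` and an `O_Y`-module `M`: the map `M_{f x} → (f^* M)_x` on stalks induced by the
pullback of sections, its semilinearity, compatibility with specialization, and for invertible `M`
preservation of free generators; the induced map on fibres.
-/

set_option autoImplicit false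
set_option linter.style.haveILetI false
open CategoryTheory AlgebraicGeometry IsLocalRing

namespace Groth.Agent.Lib.Helper18.C1Core

universe u

open Groth.Agent.Lib.Helper18.InvStalk Groth.Agent.Lib.Helper18.CycDiv
open Groth.Agent.Lib.Helper28 Groth.Agent.Lib.Helper28.QCohLoc Groth.Agent.Lib.Helper28.GenLocus
open Groth.Agent.Lib.Helper28.PullbackInv

section IsGenFree

variable {X : Scheme.{u}} (L : X.Modules)

/-- the germs of a local generator are free generators of the stalks -/
theorem freeGen_germ_of_isGen {U : X.Opens} {g : Γ(L, U)} (hg : IsGen L U g) (y : X)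
    (hy : y ∈ U) : FreeGen (X.presheaf.stalk y) (L.presheaf.germ U y hy g) := by
  constructor
  · rw [eq_top_iff]
    rintro μ -
    obtain ⟨W, hyW, σ, rfl⟩ := TopCat.Presheaf.exists_germ_eq L.presheaf μ
    have hyW' : y ∈ W ⊓ U := ⟨hyW, hy⟩
    obtain ⟨c, hc⟩ := (hg (W ⊓ U) inf_le_right).2 (res L (inf_le_left : W ⊓ U ≤ W) σ)
    have hc' : (c • res L (inf_le_right : W ⊓ U ≤ U) g : Γ(L, W ⊓ U)) =
        res L (inf_le_left : W ⊓ U ≤ W) σ := hc
    have h1 : L.presheaf.germ W y hyW σ = L.presheaf.germ (W ⊓ U) y hyW'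
        (res L (inf_le_left : W ⊓ U ≤ W) σ) :=
      (TopCat.Presheaf.germ_res_apply L.presheaf (homOfLE inf_le_left) y hyW' σ).symm
    rw [h1, ← hc', germ_smul]
    have h2 : L.presheaf.germ (W ⊓ U) y hyW' (res L (inf_le_right : W ⊓ U ≤ U) g) =
        L.presheaf.germ U y hy g :=
      TopCat.Presheaf.germ_res_apply L.presheaf (homOfLE inf_le_right) y hyW' g
    rw [h2]
    exact Submodule.smul_mem _ _ (Submodule.subset_span rfl)
  · intro a ha
    obtain ⟨W, hyW, ρ, rfl⟩ := TopCat.Presheaf.exists_germ_eq X.presheaf a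
    have hyW' : y ∈ W ⊓ U := ⟨hyW, hy⟩
    set ρ₁ := resO (inf_le_left : W ⊓ U ≤ W) ρ with hρ₁
    have h1 : X.presheaf.germ W y hyW ρ = X.presheaf.germ (W ⊓ U) y hyW' ρ₁ :=
      (TopCat.Presheaf.germ_res_apply X.presheaf (homOfLE inf_le_left) y hyW' ρ).symm
    have h2 : L.presheaf.germ U y hy g = L.presheaf.germ (W ⊓ U) y hyW'
        (res L (inf_le_right : W ⊓ U ≤ U) g) :=
      (TopCat.Presheaf.germ_res_apply L.presheaf (homOfLE inf_le_right) y hyW' g).symm
    rw [h1, h2, ← germ_smul] at ha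
    have h0 : L.presheaf.germ (W ⊓ U) y hyW' (ρ₁ • res L (inf_le_right : W ⊓ U ≤ U) g) =
        L.presheaf.germ (W ⊓ U) y hyW' 0 := by
      rw [ha, map_zero]
    obtain ⟨W₂, hyW₂, i₁, i₂, hres⟩ := TopCat.Presheaf.germ_eq L.presheaf y hyW' hyW' _ _ h0
    have hle : W₂ ≤ W ⊓ U := i₁.le
    have h3 : res L hle (ρ₁ • res L (inf_le_right : W ⊓ U ≤ U) g) = 0 := by
      have : res L hle (ρ₁ • res L (inf_le_right : W ⊓ U ≤ U) g) = res L hle 0 := hres
      rw [this, res_zero]
    rw [res_smul, res_res] at h3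
    have h4 : resO hle ρ₁ = 0 := by
      apply (hg W₂ (hle.trans inf_le_right)).1
      show (resO hle ρ₁ • res L _ g : Γ(L, W₂)) = ((0 : Γ(X, W₂)) • res L _ g : Γ(L, W₂))
      rw [zero_smul]
      exact h3
    rw [h1]
    have h5 : X.presheaf.germ (W ⊓ U) y hyW' ρ₁ = X.presheaf.germ W₂ y hyW₂ (resO hle ρ₁) :=
      (TopCat.Presheaf.germ_res_apply X.presheaf (homOfLE hle) y hyW₂ ρ₁).symm
    rw [h5, h4, map_zero]

/-- the class of a free generator in the fibre is nonzero -/
theorem mk_ne_zero_of_freeGen {ξ : X} {g : L.presheaf.stalk ξ}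
    (hg : FreeGen (X.presheaf.stalk ξ) g) :
    (Submodule.Quotient.mk g : Cyc.secFibre L ξ) ≠ 0 := by
  intro h0
  rw [Submodule.Quotient.mk_eq_zero, ← hg.1, Submodule.mem_smul_span_singleton] at h0
  obtain ⟨a, ha, hag⟩ := h0
  have h1 : a • g = (1 : X.presheaf.stalk ξ) • g := by rw [hag, one_smul]
  have h2 : a = 1 := hg.smul_inj h1
  rw [h2] at ha
  exact (Ideal.ne_top_iff_one _).1 (IsLocalRing.maximalIdeal.isMaximal _).ne_top ha

end IsGenFree

variable {X Y : Scheme.{u}} (f : X ⟶ Y) (M : Y.Modules)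

/-- pullback of germs: `M_{f x} → (f^* M)_x` -/
noncomputable def pg (x : X) (m : M.presheaf.stalk (f x)) :
    ((Scheme.Modules.pullback f).obj M).presheaf.stalk x :=
  let h := TopCat.Presheaf.exists_germ_eq M.presheaf m
  ((Scheme.Modules.pullback f).obj M).presheaf.germ (f ⁻¹ᵁ h.choose) x h.choose_spec.choose
    (pbs f M h.choose h.choose_spec.choose_spec.choose)

theorem pg_germ (x : X) (U : Y.Opens) (hx : f x ∈ U) (σ : Γ(M, U)) :
    pg f M x (M.presheaf.germ U (f x) hx σ) =
      ((Scheme.Modules.pullback f).obj M).presheaf.germ (f ⁻¹ᵁ U) x hx (pbs f M U σ) := by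
  set m := M.presheaf.germ U (f x) hx σ with hm
  have h := TopCat.Presheaf.exists_germ_eq M.presheaf m
  have hspec : M.presheaf.germ h.choose (f x) h.choose_spec.choose
      h.choose_spec.choose_spec.choose = M.presheaf.germ U (f x) hx σ :=
    h.choose_spec.choose_spec.choose_spec
  obtain ⟨W, hW, iU, iV, hres⟩ := TopCat.Presheaf.germ_eq M.presheaf (f x) _ hx _ _ hspec
  show ((Scheme.Modules.pullback f).obj M).presheaf.germ (f ⁻¹ᵁ h.choose) x h.choose_spec.choose
    (pbs f M h.choose h.choose_spec.choose_spec.choose) = _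
  have hxW : x ∈ f ⁻¹ᵁ W := hW
  have e1 := TopCat.Presheaf.germ_res_apply ((Scheme.Modules.pullback f).obj M).presheaf
    (homOfLE (f.preimage_mono iU.le)) x hxW (pbs f M h.choose h.choose_spec.choose_spec.choose)
  have e2 := TopCat.Presheaf.germ_res_apply ((Scheme.Modules.pullback f).obj M).presheaf
    (homOfLE (f.preimage_mono iV.le)) x hxW (pbs f M U σ)
  rw [← e1, ← e2]
  congr 1
  have p1 := pbs_res f M iU.le h.choose_spec.choose_spec.choose
  have p2 := pbs_res f M iV.le σ
  have hres' : res M iU.le h.choose_spec.choose_spec.choose = res M iV.le σ := hres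
  exact p1.symm.trans ((congrArg (pbs f M W) hres').trans p2)

theorem pg_smul (x : X) (a : Y.presheaf.stalk (f x)) (m : M.presheaf.stalk (f x)) :
    pg f M x (a • m) = (f.stalkMap x).hom a • pg f M x m := by
  obtain ⟨U, hx, r, σ, rfl, rfl⟩ := exists_germ_pair M (f x) a m
  rw [← germ_smul, pg_germ, pg_germ, pbs_smul, germ_smul]
  congr 1
  exact (Scheme.Hom.germ_stalkMap_apply f U x hx r).symm

theorem pg_stalkSpecializes {x₁ x₂ : X} (h : x₁ ⤳ x₂) (h' : f x₁ ⤳ f x₂)
    (m : M.presheaf.stalk (f x₂)) :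
    ((Scheme.Modules.pullback f).obj M).presheaf.stalkSpecializes h (pg f M x₂ m) =
      pg f M x₁ (M.presheaf.stalkSpecializes h' m) := by
  obtain ⟨U, hx, σ, rfl⟩ := TopCat.Presheaf.exists_germ_eq M.presheaf m
  rw [pg_germ, TopCat.Presheaf.germ_stalkSpecializes_apply,
    TopCat.Presheaf.germ_stalkSpecializes_apply, pg_germ]

variable {M}

/-- pullback of germs preserves free generators of the stalks of an invertible module -/
theorem freeGen_pg (hM : PicF.IsInvertible M) (x : X) {g : M.presheaf.stalk (f x)}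
    (hg : FreeGen (Y.presheaf.stalk (f x)) g) :
    FreeGen (X.presheaf.stalk x) (pg f M x g) := by
  obtain ⟨U, γ, hxU, hγ⟩ := exists_isGen M hM (f x)
  have h1 := freeGen_germ_of_isGen M hγ (f x) hxU
  obtain ⟨u, hu, -⟩ := h1.of_span_eq_top hg.1
  rw [hu, pg_smul, pg_germ]
  have h2 : FreeGen (X.presheaf.stalk x)
      (((Scheme.Modules.pullback f).obj M).presheaf.germ (f ⁻¹ᵁ U) x hxU (pbs f M U γ)) :=
    freeGen_germ_of_isGen _ (isGen_pbs hγ) x hxU
  have hu' : IsUnit ((f.stalkMap x).hom (u : Y.presheaf.stalk (f x))) :=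
    u.isUnit.map (f.stalkMap x).hom
  exact h2.unit_smul hu'.unit

variable (M)

/-- the induced map on fibres (defined through a representative) -/
noncomputable def pullSec (x : X) (w : Cyc.secFibre M (f x)) :
    Cyc.secFibre ((Scheme.Modules.pullback f).obj M) x :=
  Submodule.Quotient.mk (pg f M x (Classical.choose (Submodule.Quotient.mk_surjective _ w)))

variable {M}

theorem pullSec_smul_mk (x : X) {t : M.presheaf.stalk (f x)}
    (ht : FreeGen (Y.presheaf.stalk (f x)) t) (ψ : Y.presheaf.stalk (f x)) :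
    pullSec f M x (ψ • (Submodule.Quotient.mk t : Cyc.secFibre M (f x))) =
      (f.stalkMap x).hom ψ •
        (Submodule.Quotient.mk (pg f M x t) :
          Cyc.secFibre ((Scheme.Modules.pullback f).obj M) x) := by
  set w := ψ • (Submodule.Quotient.mk t : Cyc.secFibre M (f x)) with hw
  have hsp := Classical.choose_spec (Submodule.Quotient.mk_surjective _ w)
  set m := Classical.choose (Submodule.Quotient.mk_surjective _ w) with hm
  obtain ⟨b, hb⟩ := ht.exists_smul m
  have h1 : b • (Submodule.Quotient.mk t : Cyc.secFibre M (f x)) =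
      ψ • (Submodule.Quotient.mk t : Cyc.secFibre M (f x)) := by
    rw [← Submodule.Quotient.mk_smul, ← hb]
    exact hsp
  have h2 := residue_eq_of_smul_mk_eq M ht b ψ h1
  have h3 : b - ψ ∈ maximalIdeal (Y.presheaf.stalk (f x)) := by
    rw [← IsLocalRing.residue_eq_zero_iff, map_sub, sub_eq_zero]
    exact h2
  have h4 : (f.stalkMap x).hom (b - ψ) ∈ maximalIdeal (X.presheaf.stalk x) :=
    map_nonunit (f.stalkMap x).hom _ h3
  show (Submodule.Quotient.mk (pg f M x m) :
    Cyc.secFibre ((Scheme.Modules.pullback f).obj M) x) = _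
  rw [hb, pg_smul, ← Submodule.Quotient.mk_smul, ← sub_eq_zero, ← Submodule.Quotient.mk_sub,
    ← sub_smul, ← map_sub]
  exact mk_smul_eq_zero_of_mem _ _ h4 _

theorem pullSec_ne_zero (hM : PicF.IsInvertible M) (x : X) (w : Cyc.secFibre M (f x))
    (hw : w ≠ 0) : pullSec f M x w ≠ 0 := by
  obtain ⟨g, hg⟩ := exists_freeGen M hM (f x)
  obtain ⟨ψ, rfl⟩ := exists_smul_mk M hg w
  have hψ := residue_ne_zero_of_smul_mk_ne_zero M ψ hw
  have hu := isUnit_of_residue_ne_zero ψ hψ
  rw [pullSec_smul_mk f x hg ψ]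
  have hu' : IsUnit ((f.stalkMap x).hom ψ) := hu.map (f.stalkMap x).hom
  intro h0
  have h1 := congrArg (fun z => ((hu'.unit⁻¹ : (X.presheaf.stalk x)ˣ) : X.presheaf.stalk x) • z) h0
  simp only [smul_zero] at h1
  rw [← mul_smul, hu'.val_inv_mul, one_smul] at h1
  exact mk_ne_zero_of_freeGen _ (freeGen_pg f hM x hg) h1

end Groth.Agent.Lib.Helper18.C1Core
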