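import Mathlib
import Groth.Prelude.Def_Cyc
import Groth.Agent.Lib.Helper18.Cyc.PullRat

set_option autoImplicit false
set_option linter.style.haveILetI false
universe u
open AlgebraicGeometry CategoryTheory IsLocalRing Order

namespace Groth.Agent.Lib.Helper18.CycDiv

open Groth.Agent.Lib.Helper13.StalkSpecLoc Groth.Agent.Lib.Helper18.CycPull
open Groth.Agent.Lib.Helper24.LatDist

variable {X Y : Scheme.{u}} (f : X ⟶ Y)

/-- Every point has a generization in its fibre which is maximal in the fibre. -/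
theorem exists_max_generization_in_fibre [Flat f] (x : X) :
    ∃ z : X, f z = f x ∧ z ⤳ x ∧ ∀ y, f y = f z → y ⤳ z → y = z := by
  have hy : f x ⤳ f x := specializes_rfl
  set P := (primeOf hy).map (f.stalkMap x).hom with hP
  have hPm := map_primeOf_le_maximalIdeal f hy
  have hprime : ((maximalIdeal (X.presheaf.stalk x)).map (Ideal.Quotient.mk P)).IsPrime :=
    Ideal.map_isPrime_of_surjective Ideal.Quotient.mk_surjective
      (by rw [Ideal.mk_ker]; exact hPm)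
  obtain ⟨q, hq, -⟩ := Ideal.exists_minimalPrimes_le
    (bot_le : (⊥ : Ideal (X.presheaf.stalk x ⧸ P)) ≤
      (maximalIdeal (X.presheaf.stalk x)).map (Ideal.Quotient.mk P))
  obtain ⟨ξ', hξ', -⟩ := (bijOn_toPrimeBar f x hy).surjOn
    (show (⟨q, hq.1.1⟩ : PrimeSpectrum (X.presheaf.stalk x ⧸ P)) ∈
      {q | q.asIdeal ∈ minimalPrimes (X.presheaf.stalk x ⧸ P)} from hq)
  exact ⟨ξ'.1, ξ'.2.1, hξ', fun y hy' hs => ξ'.2.2 y (hy'.trans ξ'.2.1) hs⟩

section BK

variable [Flat f] (δX : X → ℤ) (δY : Y → ℤ) (hdimX : Cyc.IsDimFun X δX) (c : ℤ)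
  (hc : ∀ x : X, (∀ y, f y = f x → y ⤳ x → y = x) → δX x = δY (f x) + c)

include hdimX hc

theorem delta_le_of_bc (x : X) : δX x ≤ δY (f x) + c := by
  obtain ⟨z, hfz, hzx, hmax⟩ := exists_max_generization_in_fibre f x
  have h1 := hc z hmax
  rw [hfz] at h1
  by_cases hzx' : z = x
  · rw [← hzx', h1, hfz]
  · have := (hdimX z x hzx hzx').1
    linarith

theorem isMax_fibre_of_delta_bc (x : X) (h2 : δX x = δY (f x) + c) :
    ∀ z, f z = f x → z ⤳ x → z = x := by
  obtain ⟨z, hfz, hzx, hmax⟩ := exists_max_generization_in_fibre f x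
  have h1 := hc z hmax
  rw [hfz] at h1
  have hzx' : z = x := by
    by_contra hne
    have := (hdimX z x hzx hne).1
    linarith
  subst hzx'
  exact hmax

omit hdimX in
theorem delta_fibIdx_bc {ξ : Y} (ξ' : FibIdx f ξ) : δX ξ'.1 = δY ξ + c := by
  have hmax : ∀ y, f y = f ξ'.1 → y ⤳ ξ'.1 → y = ξ'.1 :=
    fun y hy hs => ξ'.2.2 y (hy.trans ξ'.2.1) hs
  rw [hc ξ'.1 hmax, ξ'.2.1]

end BK

/-- The general local formula: at a point `x` maximal in its fibre over a point `f x` which is an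
immediate specialization of `ξ`,
`ord_{f x}(g) · length(O_{X,x}/𝔪 O_{X,x}) = Σ_ξ' length(O_{X,ξ'}/𝔪_ξ O_{X,ξ'}) ord_x(g|_ξ')`. -/
theorem pull_div_gen_main_bc [IsLocallyNoetherian X] [IsLocallyNoetherian Y]
    [Flat f] (δX : X → ℤ) (δY : Y → ℤ)
    (hdimX : Cyc.IsDimFun X δX) (hdimY : Cyc.IsDimFun Y δY) (c : ℤ)
    (hc : ∀ x : X, (∀ y, f y = f x → y ⤳ x → y = x) → δX x = δY (f x) + c) (ξ : Y) (g : Y.residueField ξ) (hg : g ≠ 0) (x : X)
    (hy : ξ ⤳ f x)
    (h2 : δX x = δY (f x) + c) (h3 : δY (f x) + 1 = δY ξ) :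
    Cyc.ordAt (f x) ξ hy g *
      ((Module.length (X.presheaf.stalk x) (X.presheaf.stalk x ⧸
        Ideal.map (f.stalkMap x).hom (maximalIdeal (Y.presheaf.stalk (f x))))).toNat : ℤ) =
      ∑ᶠ ξ' : FibIdx f ξ, ((Module.length (X.presheaf.stalk ξ'.1) (X.presheaf.stalk ξ'.1 ⧸
        Ideal.map (f.stalkMap ξ'.1).hom (maximalIdeal (Y.presheaf.stalk (f ξ'.1))))).toNat : ℤ) *
        Cyc.divFun δX ξ'.1
          ((f.residueFieldMap ξ'.1).hom ((Y.residueFieldCongr ξ'.2.1.symm).hom g)) x := by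
  classical
  have hdA := krullDimLE_one_locQuot δY hdimY hy h3
  have hne : ξ ≠ f x := by
    intro he
    rw [← he] at h3
    linarith
  have hpm : primeOf hy ≠ maximalIdeal (Y.presheaf.stalk (f x)) :=
    primeOf_ne_maximalIdeal hy hne
  have hmaxx := isMax_fibre_of_delta_bc f δX δY hdimX c hc x h2
  have hfin : Module.length (X.presheaf.stalk x) (X.presheaf.stalk x ⧸
      Ideal.map (f.stalkMap x).hom (maximalIdeal (Y.presheaf.stalk (f x)))) ≠ ⊤ :=
    (length_ne_top_iff_isMax f x).2 hmaxx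
  have hdim' : Ring.KrullDimLE 1 (Y.presheaf.stalk (f x) ⧸ primeOf hy) := by
    rw [Ring.krullDimLE_iff,
      ringKrullDim_eq_of_ringEquiv (Ideal.quotEquivOfEq (ker_specMap hy).symm)]
    exact Ring.krullDimLE_iff.1 hdA
  -- write `g = a / b`
  obtain ⟨a, b, hb, hgab⟩ := exists_specMap_div hy g
  have ha : Cyc.specMap (f x) ξ hy a ≠ 0 := by
    intro h0
    apply hg
    rw [hgab, h0, zero_div]
  have hmul : ∀ c : Y.presheaf.stalk (f x), Cyc.specMap (f x) ξ hy c ≠ 0 →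
      ((Ring.ord (Cyc.LocQuot (f x) ξ hy)
        (Ideal.Quotient.mk (RingHom.ker (Cyc.specMap (f x) ξ hy)) c)).toNat : ℤ) *
        ((Module.length (X.presheaf.stalk x) (X.presheaf.stalk x ⧸
          Ideal.map (f.stalkMap x).hom (maximalIdeal (Y.presheaf.stalk (f x))))).toNat : ℤ) =
      ∑ᶠ q ∈ {q : PrimeSpectrum (X.presheaf.stalk x ⧸ (primeOf hy).map (f.stalkMap x).hom) |
          q.asIdeal ∈ minimalPrimes
            (X.presheaf.stalk x ⧸ (primeOf hy).map (f.stalkMap x).hom)},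
        cq (X.presheaf.stalk x ⧸ (primeOf hy).map (f.stalkMap x).hom) q *
          Uq (X.presheaf.stalk x ⧸ (primeOf hy).map (f.stalkMap x).hom)
            (Ideal.Quotient.mk _ ((f.stalkMap x).hom c)) q := by
    intro c hc
    have hcp : c ∉ primeOf hy := by
      intro hmem
      apply hc
      rw [← ker_specMap hy] at hmem
      exact RingHom.mem_ker.1 hmem
    rw [← ord_quot_mul_eq_finsum (f.stalkMap x).hom (Flat.stalkMap f x) (primeOf hy) hdim' hpm
      hfin c hcp]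
    congr 3
    exact ord_eq_of_ringEquiv (Ideal.quotEquivOfEq (ker_specMap hy)) _
  rw [hgab, ordAt_div hy hdA a b ha hb, sub_mul, hmul a ha, hmul b hb,
    ← finsum_mem_sub_distrib _ _ (finite_minimal_set _)]
  -- the right-hand side
  have hsupp : Function.support (fun ξ' : FibIdx f ξ =>
      ((Module.length (X.presheaf.stalk ξ'.1) (X.presheaf.stalk ξ'.1 ⧸
        Ideal.map (f.stalkMap ξ'.1).hom (maximalIdeal (Y.presheaf.stalk (f ξ'.1))))).toNat : ℤ) *
        Cyc.divFun δX ξ'.1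
          ((f.residueFieldMap ξ'.1).hom ((Y.residueFieldCongr ξ'.2.1.symm).hom
            (Cyc.specMap (f x) ξ hy a / Cyc.specMap (f x) ξ hy b))) x) ⊆ {ξ' | ξ'.1 ⤳ x} := by
    intro ξ' hξ'
    by_contra hn
    apply hξ'
    have : Cyc.divFun δX ξ'.1
        ((f.residueFieldMap ξ'.1).hom ((Y.residueFieldCongr ξ'.2.1.symm).hom
          (Cyc.specMap (f x) ξ hy a / Cyc.specMap (f x) ξ hy b))) x = 0 :=
      dif_neg (fun h => hn h.1)
    simp only [this, mul_zero]
  have hR := finsum_mem_inter_support_eq' _ Set.univ {ξ' : FibIdx f ξ | ξ'.1 ⤳ x}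
    (fun ξ' hξ' => ⟨fun _ => hsupp hξ', fun _ => trivial⟩)
  rw [finsum_mem_univ] at hR
  rw [hR]
  symm
  refine finsum_mem_eq_of_bijOn (toPrimeBar f x hy) (bijOn_toPrimeBar f x hy) ?_
  intro ξ' hξ
  have hξ' : ξ'.1 ⤳ x := hξ
  have hδξ : δX x + 1 = δX ξ'.1 := by
    rw [delta_fibIdx_bc f δX δY c hc ξ']
    linarith
  have hd := krullDimLE_one_locQuot δX hdimX hξ' hδξ
  have hfξ : f ξ'.1 ⤳ f x := hξ'.map f.continuous
  have hnz : ∀ c : Y.presheaf.stalk (f x), Cyc.specMap (f x) ξ hy c ≠ 0 →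
      Cyc.specMap x ξ'.1 hξ' ((f.stalkMap x).hom c) ≠ 0 := by
    intro c hc h0
    rw [specMap_stalkMap f hξ' hfξ, specMap_congr ξ'.2.1.symm hy hfξ c] at h0
    apply hc
    have h1 := (map_eq_zero_iff _ (f.residueFieldMap ξ'.1).hom.injective).1 h0
    exact (map_eq_zero_iff _ (Y.residueFieldCongr ξ'.2.1.symm).hom.hom.injective).1 h1
  have hdiv : Cyc.divFun δX ξ'.1
      ((f.residueFieldMap ξ'.1).hom ((Y.residueFieldCongr ξ'.2.1.symm).hom
        (Cyc.specMap (f x) ξ hy a / Cyc.specMap (f x) ξ hy b))) x =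
      Cyc.ordAt x ξ'.1 hξ' ((f.residueFieldMap ξ'.1).hom ((Y.residueFieldCongr ξ'.2.1.symm).hom
        (Cyc.specMap (f x) ξ hy a / Cyc.specMap (f x) ξ hy b))) :=
    dif_pos ⟨hξ', hδξ⟩
  rw [hdiv, restrict_eq_div_gen f ξ' hξ' hy _ a b rfl,
    ordAt_div hξ' hd _ _ (hnz a ha) (hnz b hb), cq_bar f hy ξ' hξ',
    Uq_bar f hy ξ' hξ' hd _ (hnz a ha), Uq_bar f hy ξ' hξ' hd _ (hnz b hb)]
  ring


/-- Flat pullback of a principal divisor, pointwise: `f^* div_ξ(g) = Σ_ξ' n_ξ' div_ξ'(g|_ξ')`,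
the sum over the generic points `ξ'` of the fibre over `ξ`, with `n_ξ'` the length of
`O_{X,ξ'}/𝔪_ξ O_{X,ξ'}`. -/
theorem pullFun_divFun_gen_bc (f : X ⟶ Y) [IsLocallyNoetherian X] [IsLocallyNoetherian Y]
    [Flat f] (δX : X → ℤ) (δY : Y → ℤ)
    (hdimX : Cyc.IsDimFun X δX) (hdimY : Cyc.IsDimFun Y δY) (c : ℤ)
    (hc : ∀ x : X, (∀ y, f y = f x → y ⤳ x → y = x) → δX x = δY (f x) + c) (ξ : Y) (g : Y.residueField ξ) (hg : g ≠ 0) (x : X) :
    Cyc.pullFun f δX δY c (Cyc.divFun δY ξ g) x =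
      ∑ᶠ ξ' : FibIdx f ξ, ((Module.length (X.presheaf.stalk ξ'.1) (X.presheaf.stalk ξ'.1 ⧸
        Ideal.map (f.stalkMap ξ'.1).hom (maximalIdeal (Y.presheaf.stalk (f ξ'.1))))).toNat : ℤ) *
        Cyc.divFun δX ξ'.1
          ((f.residueFieldMap ξ'.1).hom ((Y.residueFieldCongr ξ'.2.1.symm).hom g)) x := by
  have hle := delta_le_of_bc f δX δY hdimX c hc x
  unfold Cyc.pullFun
  by_cases h2 : δX x = δY (f x) + c
  · rw [if_pos h2]
    by_cases h3 : ξ ⤳ f x ∧ δY (f x) + 1 = δY ξ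
    · have hL : Cyc.divFun δY ξ g (f x) = Cyc.ordAt (f x) ξ h3.1 g := dif_pos h3
      rw [hL]
      exact pull_div_gen_main_bc f δX δY hdimX hdimY c hc ξ g hg x h3.1 h2 h3.2
    · have hL : Cyc.divFun δY ξ g (f x) = 0 := dif_neg h3
      rw [hL, zero_mul]
      symm
      apply finsum_eq_zero_of_forall_eq_zero
      intro ξ'
      have hξδ := delta_fibIdx_bc f δX δY c hc ξ'
      have h0 : Cyc.divFun δX ξ'.1
          ((f.residueFieldMap ξ'.1).hom ((Y.residueFieldCongr ξ'.2.1.symm).hom g)) x = 0 := by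
        refine dif_neg (fun h => h3 ⟨?_, by linarith [h.2]⟩)
        have := h.1.map f.continuous
        rwa [ξ'.2.1] at this
      rw [h0, mul_zero]
  · rw [if_neg h2]
    symm
    apply finsum_eq_zero_of_forall_eq_zero
    intro ξ'
    have hξδ := delta_fibIdx_bc f δX δY c hc ξ'
    by_cases hcc : ξ'.1 ⤳ x ∧ δX x + 1 = δX ξ'.1
    · have hdiv : Cyc.divFun δX ξ'.1
          ((f.residueFieldMap ξ'.1).hom ((Y.residueFieldCongr ξ'.2.1.symm).hom g)) x =
          Cyc.ordAt x ξ'.1 hcc.1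
            ((f.residueFieldMap ξ'.1).hom ((Y.residueFieldCongr ξ'.2.1.symm).hom g)) :=
        dif_pos hcc
      rw [hdiv]
      have hy : ξ ⤳ f x := by
        have := hcc.1.map f.continuous
        rwa [ξ'.2.1] at this
      have hfx : ξ = f x := by
        by_contra hne
        have h4 := (hdimY _ _ hy hne).1
        have h5 : δX x < δY (f x) + c := lt_of_le_of_ne hle h2
        linarith [hcc.2]
      obtain ⟨a, b, hb, hgab⟩ := exists_specMap_div hy g
      have ha : Cyc.specMap (f x) ξ hy a ≠ 0 := by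
        intro h0
        apply hg
        rw [hgab, h0, zero_div]
      have hua := isUnit_of_specMap_ne_zero hy hfx a ha
      have hub := isUnit_of_specMap_ne_zero hy hfx b hb
      have hre := restrict_eq_div_gen f ξ' hcc.1 hy g a b hgab
      have hnz : Cyc.specMap x ξ'.1 hcc.1 ((f.stalkMap x).hom b) ≠ 0 :=
        ((hub.map (f.stalkMap x).hom).map (Cyc.specMap x ξ'.1 hcc.1)).ne_zero
      have h0 : Cyc.ordAt x ξ'.1 hcc.1
          ((f.residueFieldMap ξ'.1).hom ((Y.residueFieldCongr ξ'.2.1.symm).hom g)) = 0 := by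
        refine ordAt_eq_zero_of_isUnit hcc.1 _ (hua.map (f.stalkMap x).hom).unit
          (hub.map (f.stalkMap x).hom).unit ?_
        rw [IsUnit.unit_spec, IsUnit.unit_spec]
        exact (hre ▸ div_mul_cancel₀ _ hnz)
      rw [h0, mul_zero]
    · have h0 : Cyc.divFun δX ξ'.1
          ((f.residueFieldMap ξ'.1).hom ((Y.residueFieldCongr ξ'.2.1.symm).hom g)) x = 0 :=
        dif_neg hcc
      rw [h0, mul_zero]


/-- Flat pullback preserves rational equivalence to zero. -/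
theorem ratEquivZero_pull_bc (f : X ⟶ Y) [Flat f] [IsLocallyNoetherian X]
    [IsLocallyNoetherian Y] (δX : X → ℤ) (δY : Y → ℤ) (hdimX : Cyc.IsDimFun X δX)
    (hdimY : Cyc.IsDimFun Y δY) (c : ℤ)
    (hc : ∀ x : X, (∀ y, f y = f x → y ⤳ x → y = x) → δX x = δY (f x) + c) (k : ℤ) (γ : AlgebraicCycle Y ℤ)
    (h : Cyc.RatEquivZero δY k γ) (γ' : AlgebraicCycle X ℤ)
    (hγ' : ⇑γ' = Cyc.pullFun f δX δY c ⇑γ) : Cyc.RatEquivZero δX (k + c) γ' := by
  obtain ⟨ι, ξ, g, hξδ, hg, hlf, hsum⟩ := h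
  let n : (Σ i, FibIdx f (ξ i)) → ℕ := fun j =>
    (Module.length (X.presheaf.stalk j.2.1) (X.presheaf.stalk j.2.1 ⧸
      Ideal.map (f.stalkMap j.2.1).hom (maximalIdeal (Y.presheaf.stalk (f j.2.1))))).toNat
  let g'' : (j : Σ i, FibIdx f (ξ i)) → X.residueField j.2.1 := fun j =>
    ((f.residueFieldMap j.2.1).hom ((Y.residueFieldCongr j.2.2.1.symm).hom (g j.1))) ^ n j
  have hlf' := locallyFinite_fibIdx f ξ hlf
  refine ⟨Σ i, FibIdx f (ξ i), fun j => j.2.1, g'', ?_, ?_, hlf', ?_⟩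
  · intro j
    show δX j.2.1 = k + c + 1
    rw [delta_fibIdx_bc f δX δY c hc j.2, hξδ j.1]
    ring
  · intro j
    apply pow_ne_zero
    intro h0
    have h1 := (map_eq_zero_iff _ (f.residueFieldMap j.2.1).hom.injective).1 h0
    exact hg j.1 ((map_eq_zero_iff _ (Y.residueFieldCongr j.2.2.1.symm).hom.hom.injective).1 h1)
  · intro x
    rw [hγ']
    have hA : Cyc.pullFun f δX δY c ⇑γ x =
        ∑ᶠ i, Cyc.pullFun f δX δY c (Cyc.divFun δY (ξ i) (g i)) x := by
      unfold Cyc.pullFun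
      by_cases hcc : δX x = δY (f x) + c
      · simp only [if_pos hcc]
        rw [hsum (f x), finsum_mul]
      · simp only [if_neg hcc]
        rw [finsum_zero]
    rw [hA]
    have hB : ∀ i, Cyc.pullFun f δX δY c (Cyc.divFun δY (ξ i) (g i)) x =
        ∑ᶠ ξ' : FibIdx f (ξ i), Cyc.divFun δX ξ'.1 (g'' ⟨i, ξ'⟩) x := by
      intro i
      rw [pullFun_divFun_gen_bc f δX δY hdimX hdimY c hc (ξ i) (g i) (hg i) x]
      apply finsum_congr
      intro ξ'
      rw [divFun_pow]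
    simp_rw [hB]
    symm
    apply finsum_sigma_eq (fun j : Σ i, FibIdx f (ξ i) => Cyc.divFun δX j.2.1 (g'' j) x)
    obtain ⟨U, hUo, hxU, hfinU⟩ := hlf' x
    refine hfinU.subset ?_
    intro j hj
    have hspec : j.2.1 ⤳ x := by
      by_contra hn
      apply hj
      exact dif_neg (fun h => hn h.1)
    exact ⟨x, specializes_iff_mem_closure.1 hspec, hxU⟩


end Groth.Agent.Lib.Helper18.CycDiv
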