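import Mathlib
import Groth.Prelude.Def_C1
import Groth.Prelude.Def_Pic
import Groth.Agent.Lib.Helper18.Cyc.PullGerm
import Groth.Agent.Lib.Helper18.Cyc.PullRatBC
import Groth.Agent.Lib.Helper18.Cyc.DivFamily

/-!
# Flat pullback commutes with `c_1(L) ∩ -`, for the pulled back rational sections
-/

set_option autoImplicit false
set_option linter.style.haveILetI false
open CategoryTheory AlgebraicGeometry IsLocalRing

namespace Groth.Agent.Lib.Helper18.C1Core

universe u

open Groth.Agent.Lib.Helper18.InvStalk Groth.Agent.Lib.Helper18.CycDiv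
open Groth.Agent.Lib.Helper28.PullbackInv

variable {X Y : Scheme.{u}}

/-- the multiplicity of a point in its fibre -/
noncomputable abbrev fibLen (f : X ⟶ Y) (x : X) : ℤ :=
  ((Module.length (X.presheaf.stalk x) (X.presheaf.stalk x ⧸
    Ideal.map (f.stalkMap x).hom (maximalIdeal (Y.presheaf.stalk (f x))))).toNat : ℤ)

/-- a family with locally finite support is locally finite as a family of closures -/
theorem locallyFinite_closure_of_locallyFiniteSupport (α : Y → ℤ)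
    (hα : LocallyFiniteSupport α) (y : Y) :
    ∃ V : Set Y, IsOpen V ∧ y ∈ V ∧
      {i : {η : Y // α η ≠ 0} | (closure {(i : Y)} ∩ V).Nonempty}.Finite := by
  obtain ⟨t, ht, hfin⟩ := hα y
  refine ⟨interior t, isOpen_interior, mem_interior_iff_mem_nhds.2 ht, ?_⟩
  refine Set.Finite.subset (hfin.preimage (Subtype.val_injective.injOn) :
    {i : {η : Y // α η ≠ 0} | (i : Y) ∈ t ∩ Function.support α}.Finite) ?_
  rintro i ⟨w, hw1, hw2⟩
  have hi : (i : Y) ∈ interior t :=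
    (specializes_iff_mem_closure.2 hw1).mem_open isOpen_interior hw2
  exact ⟨interior_subset hi, i.2⟩

/-- **Flat pullback commutes with `c_1(L) ∩ -`** when the rational sections upstairs are the
pullbacks of those downstairs. The flatness enters through `hpull` (flat pullback of principal
divisors). -/
theorem pullFun_c1CapFun [IsLocallyNoetherian X] [IsLocallyNoetherian Y]
    (f : X ⟶ Y) (δX : X → ℤ) (δY : Y → ℤ) (hdimX : Cyc.IsDimFun X δX)
    (hdimY : Cyc.IsDimFun Y δY) (c : ℤ)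
    (hpull : ∀ (ξ : Y) (g : Y.residueField ξ), g ≠ 0 → ∀ x : X,
      Cyc.pullFun f δX δY c (Cyc.divFun δY ξ g) x =
      ∑ᶠ ξ' : FibIdx f ξ, fibLen f ξ'.1 * Cyc.divFun δX ξ'.1
          ((f.residueFieldMap ξ'.1).hom ((Y.residueFieldCongr ξ'.2.1.symm).hom g)) x)
    (hfib : ∀ (ξ : Y) (ξ' : FibIdx f ξ), δX ξ'.1 = δY ξ + c)
    (hmax : ∀ x : X, δX x = δY (f x) + c → ∀ z, f z = f x → z ⤳ x → z = x)
    (L : Y.Modules) (hL : PicF.IsInvertible L) (α : Y → ℤ) (hα : LocallyFiniteSupport α)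
    (v : (η : Y) → Cyc.secFibre L η) (hv : ∀ η, v η ≠ 0) (x' : X) :
    Cyc.pullFun f δX δY c (Cyc.c1CapFun δY L α v) x' =
      Cyc.c1CapFun δX ((Scheme.Modules.pullback f).obj L) (Cyc.pullFun f δX δY c α)
        (fun ξ' => pullSec f L ξ' (v (f ξ'))) x' := by
  classical
  have hM : PicF.IsInvertible ((Scheme.Modules.pullback f).obj L) := isInvertible_pullback f hL
  obtain ⟨t, ht⟩ := exists_freeGen L hL (f x')
  -- the rational functions representing the sections near `f x'`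
  have hGex : ∀ η : Y, ∃ g : Y.residueField η, g ≠ 0 ∧ ∀ h : η ⤳ f x',
      ∃ ψ : Y.presheaf.stalk η,
        v η = ψ • (Submodule.Quotient.mk (L.presheaf.stalkSpecializes h t) :
          Cyc.secFibre L η) ∧ Y.residue η ψ = g := by
    intro η
    by_cases h : η ⤳ f x'
    · have hg := freeGen_stalkSpecializes L hL h ht.1
      obtain ⟨ψ, hψ⟩ := exists_smul_mk L hg (v η)
      refine ⟨Y.residue η ψ, ?_, fun h' => ⟨ψ, hψ, rfl⟩⟩
      exact residue_ne_zero_of_smul_mk_ne_zero L ψ (hψ ▸ hv η)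
    · exact ⟨1, one_ne_zero, fun h' => absurd h' h⟩
  choose G hG0 hG using hGex
  -- Step A: the divisor of the section at `f x'`
  have hA : ∀ η : Y, Cyc.secDivFun δY L η (v η) (f x') = Cyc.divFun δY η (G η) (f x') := by
    intro η
    unfold Cyc.secDivFun Cyc.divFun
    by_cases hc : η ⤳ f x' ∧ δY (f x') + 1 = δY η
    · rw [dif_pos hc, dif_pos hc]
      obtain ⟨ψ, hψ, hres⟩ := hG η hc.1
      have hd := krullDimLE_one_locQuot δY hdimY hc.1 hc.2
      have hne : Y.residue η ψ ≠ 0 := by rw [hres]; exact hG0 η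
      rw [hψ, secOrdAt_smul_mk_of_freeGen L hL hc.1 hd ht ψ hne, hres]
    · rw [dif_neg hc, dif_neg hc]
  -- Step B
  have hB : Cyc.pullFun f δX δY c (Cyc.c1CapFun δY L α v) x' =
      ∑ᶠ η : Y, α η * Cyc.pullFun f δX δY c (Cyc.divFun δY η (G η)) x' := by
    unfold Cyc.pullFun
    by_cases hcx : δX x' = δY (f x') + c
    · simp only [if_pos hcx]
      show (∑ᶠ η : Y, α η * Cyc.secDivFun δY L η (v η) (f x')) * _ = _
      rw [finsum_mul]
      apply finsum_congr
      intro η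
      rw [hA η, mul_assoc]
    · simp only [if_neg hcx, mul_zero]
      rw [finsum_zero]
  rw [hB]
  -- Step C/D: a sum over the sigma type
  let T : (Σ η : Y, FibIdx f η) → ℤ := fun j =>
    α j.1 * (fibLen f j.2.1 * Cyc.divFun δX j.2.1
      ((f.residueFieldMap j.2.1).hom ((Y.residueFieldCongr j.2.2.1.symm).hom (G j.1))) x')
  have hC : ∀ η : Y, α η * Cyc.pullFun f δX δY c (Cyc.divFun δY η (G η)) x' =
      ∑ᶠ ξ' : FibIdx f η, T ⟨η, ξ'⟩ := by
    intro η
    rw [hpull η (G η) (hG0 η) x', mul_finsum]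
  rw [finsum_congr hC]
  have hTfin : (Function.support T).Finite := by
    obtain ⟨U, hUo, hxU, hfin⟩ := locallyFinite_fibIdx f
      (fun i : {η : Y // α η ≠ 0} => (i : Y))
      (locallyFinite_closure_of_locallyFiniteSupport α hα) x'
    let φ : (Σ i : {η : Y // α η ≠ 0}, FibIdx f (i : Y)) → (Σ η : Y, FibIdx f η) :=
      fun j => ⟨j.1.1, j.2⟩
    refine (hfin.image φ).subset ?_
    intro j hj
    have h1 : α j.1 ≠ 0 := left_ne_zero_of_mul hj
    have h2 : Cyc.divFun δX j.2.1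
        ((f.residueFieldMap j.2.1).hom ((Y.residueFieldCongr j.2.2.1.symm).hom (G j.1))) x' ≠ 0 :=
      right_ne_zero_of_mul (right_ne_zero_of_mul hj)
    have hspec : j.2.1 ⤳ x' := specializes_of_divFun_ne_zero _ _ _ _ h2
    exact ⟨⟨⟨j.1, h1⟩, j.2⟩, ⟨x', specializes_iff_mem_closure.1 hspec, hxU⟩, rfl⟩
  rw [← finsum_sigma_eq T hTfin]
  -- Step E: the right-hand side, reindexed
  show _ = ∑ᶠ ξ'' : X, Cyc.pullFun f δX δY c α ξ'' *
    Cyc.secDivFun δX ((Scheme.Modules.pullback f).obj L) ξ'' (pullSec f L ξ'' (v (f ξ''))) x'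
  let e : (Σ η : Y, FibIdx f η) → X := fun j => j.2.1
  have he : Function.Injective e := by
    rintro ⟨η₁, ξ₁⟩ ⟨η₂, ξ₂⟩ h
    have h1 : ξ₁.1 = ξ₂.1 := h
    have h2 : η₁ = η₂ := by rw [← ξ₁.2.1, ← ξ₂.2.1, h1]
    subst h2
    have : ξ₁ = ξ₂ := Subtype.ext h1
    rw [this]
  have hsupp : ∀ ξ'' ∈ Function.support (fun ξ'' : X => Cyc.pullFun f δX δY c α ξ'' *
      Cyc.secDivFun δX ((Scheme.Modules.pullback f).obj L) ξ''
        (pullSec f L ξ'' (v (f ξ''))) x'),
      ξ'' ∈ (Set.univ : Set X) ↔ ξ'' ∈ Set.range e := by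
    intro ξ'' hξ
    refine ⟨fun _ => ?_, fun _ => trivial⟩
    have h1 : Cyc.pullFun f δX δY c α ξ'' ≠ 0 := left_ne_zero_of_mul hξ
    have h2 : δX ξ'' = δY (f ξ'') + c := by
      by_contra h
      exact h1 (if_neg h)
    exact ⟨⟨f ξ'', ⟨ξ'', rfl, fun z hz hzs => hmax ξ'' h2 z hz hzs⟩⟩, rfl⟩
  have hR := finsum_mem_inter_support_eq' _ _ _ hsupp
  rw [finsum_mem_univ] at hR
  rw [hR, finsum_mem_range he]
  -- Step F: termwise
  have hE : ∀ ξ'' : X, Cyc.secDivFun δX ((Scheme.Modules.pullback f).obj L) ξ''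
      (pullSec f L ξ'' (v (f ξ''))) x' =
      Cyc.divFun δX ξ'' ((f.residueFieldMap ξ'').hom (G (f ξ''))) x' := by
    intro ξ''
    unfold Cyc.secDivFun Cyc.divFun
    by_cases hc : ξ'' ⤳ x' ∧ δX x' + 1 = δX ξ''
    · rw [dif_pos hc, dif_pos hc]
      have h' : f ξ'' ⤳ f x' := hc.1.map f.continuous
      obtain ⟨ψ, hψ, hres⟩ := hG (f ξ'') h'
      have hg := freeGen_stalkSpecializes L hL h' ht.1
      have hd := krullDimLE_one_locQuot δX hdimX hc.1 hc.2
      have hcomp : X.residue ξ'' ((f.stalkMap ξ'').hom ψ) =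
          (f.residueFieldMap ξ'').hom (Y.residue (f ξ'') ψ) := by
        have := congrArg (fun φ => (ConcreteCategory.hom φ) ψ)
          (Scheme.residue_residueFieldMap f ξ'')
        exact this.symm
      have hne : X.residue ξ'' ((f.stalkMap ξ'').hom ψ) ≠ 0 := by
        rw [hcomp, hres]
        exact (map_ne_zero_iff _ (f.residueFieldMap ξ'').hom.injective).2 (hG0 (f ξ''))
      rw [hψ, pullSec_smul_mk f ξ'' hg ψ, ← pg_stalkSpecializes f L hc.1 h' t,
        secOrdAt_smul_mk_of_freeGen _ hM hc.1 hd (freeGen_pg f hL x' ht) _ hne, hcomp, hres]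
    · rw [dif_neg hc, dif_neg hc]
  apply finsum_congr
  rintro ⟨η, ⟨ξ'', hfξ, hmx⟩⟩
  subst hfξ
  show α (f ξ'') * (fibLen f ξ'' * Cyc.divFun δX ξ''
      ((f.residueFieldMap ξ'').hom (G (f ξ''))) x') =
    Cyc.pullFun f δX δY c α ξ'' * Cyc.secDivFun δX ((Scheme.Modules.pullback f).obj L) ξ''
      (pullSec f L ξ'' (v (f ξ''))) x'
  have hp : Cyc.pullFun f δX δY c α ξ'' = α (f ξ'') * fibLen f ξ'' := by
    unfold Cyc.pullFun
    rw [if_pos (hfib (f ξ'') ⟨ξ'', rfl, hmx⟩)]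
  rw [hp, hE, mul_assoc]

end Groth.Agent.Lib.Helper18.C1Core
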