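import Mathlib
import Groth.Prelude.Def_Cyc
import Groth.Prelude.Def_C1
import Groth.Prelude.Def_Pic
import Groth.Agent.Lib.Helper18.Cyc.C1Sec
import Groth.Agent.Lib.Helper18.Cyc.C1Pull

/-!
# `c_1(L) ∩ β` has locally finite support
-/

set_option autoImplicit false
set_option linter.style.haveILetI false
universe u
open AlgebraicGeometry CategoryTheory IsLocalRing

namespace Groth.Agent.Lib.Helper18.C1Core

open Groth.Agent.Lib.Helper18.InvStalk Groth.Agent.Lib.Helper18.CycDiv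

variable {X : Scheme.{u}}

theorem locallyFiniteSupport_c1CapFun [IsLocallyNoetherian X] (L : X.Modules)
    (hL : PicF.IsInvertible L) (δ : X → ℤ) (hδ : Cyc.IsDimFun X δ) (β : X → ℤ)
    (hβ : LocallyFiniteSupport β) (s : (ξ : X) → Cyc.secFibre L ξ) (hs : ∀ ξ, s ξ ≠ 0) :
    LocallyFiniteSupport (Cyc.c1CapFun δ L β s) := by
  classical
  intro z
  obtain ⟨V, hzV, e, he⟩ := exists_local_generator L hL z
  have hGex : ∀ ξ : X, ∃ g : X.residueField ξ, g ≠ 0 ∧ ∀ hξ : ξ ∈ V,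
      ∃ ψ : X.presheaf.stalk ξ,
        s ξ = ψ • (Submodule.Quotient.mk (L.presheaf.germ V ξ hξ e) : Cyc.secFibre L ξ) ∧
          X.residue ξ ψ = g := by
    intro ξ
    by_cases hξ : ξ ∈ V
    · obtain ⟨ψ, hψ⟩ := exists_smul_mk L (show FreeGen (X.presheaf.stalk ξ) _ from he ξ hξ) (s ξ)
      refine ⟨X.residue ξ ψ, ?_, fun _ => ⟨ψ, hψ, rfl⟩⟩
      exact residue_ne_zero_of_smul_mk_ne_zero L ψ (hψ ▸ hs ξ)
    · exact ⟨1, one_ne_zero, fun h => absurd h hξ⟩
  choose G hG0 hG using hGex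
  have hterm : ∀ x ∈ V, ∀ ξ : X, Cyc.secDivFun δ L ξ (s ξ) x = Cyc.divFun δ ξ (G ξ) x := by
    intro x hx ξ
    unfold Cyc.secDivFun Cyc.divFun
    by_cases hc : ξ ⤳ x ∧ δ x + 1 = δ ξ
    · rw [dif_pos hc, dif_pos hc]
      have hξV : ξ ∈ V := hc.1.mem_open V.isOpen hx
      obtain ⟨ψ, hψ, hres⟩ := hG ξ hξV
      have hd := krullDimLE_one_locQuot δ hδ hc.1 hc.2
      have hne : X.residue ξ ψ ≠ 0 := by rw [hres]; exact hG0 ξ
      have hsp : L.presheaf.stalkSpecializes hc.1 (L.presheaf.germ V x hx e) =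
          L.presheaf.germ V ξ hξV e := TopCat.Presheaf.germ_stalkSpecializes_apply _ _ _ _
      rw [hψ, ← hsp, secOrdAt_smul_mk_of_freeGen L hL hc.1 hd
        (show FreeGen (X.presheaf.stalk x) _ from he x hx) ψ hne, hres]
    · rw [dif_neg hc, dif_neg hc]
  have hlf := locallyFinite_closure_of_locallyFiniteSupport β hβ
  have hne : ∀ i : {ξ : X // β ξ ≠ 0}, (G i.1) ^ (β i.1) ≠ 0 := fun i => zpow_ne_zero _ (hG0 i.1)
  have hD := locallyFiniteSupport_finsum_divFun'' δ (fun i : {ξ : X // β ξ ≠ 0} => i.1)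
    (fun i => (G i.1) ^ (β i.1)) hne hlf
  have hform : ∀ x ∈ V, Cyc.c1CapFun δ L β s x =
      ∑ᶠ i : {ξ : X // β ξ ≠ 0}, Cyc.divFun δ i.1 ((G i.1) ^ (β i.1)) x := by
    intro x hx
    show ∑ᶠ ξ : X, β ξ * Cyc.secDivFun δ L ξ (s ξ) x = _
    rw [finsum_eq_finsum_subtype (fun ξ : X => β ξ * Cyc.secDivFun δ L ξ (s ξ) x)
      (fun ξ => β ξ ≠ 0) (fun a ha h0 => ha (by show _ * _ = 0; rw [h0, zero_mul]))]
    apply finsum_congr
    intro i
    show β i.1 * Cyc.secDivFun δ L i.1 (s i.1) x = _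
    rw [divFun_zpow, hterm x hx i.1]
  obtain ⟨t, ht, hfin⟩ := hD z
  refine ⟨t ∩ V, Filter.inter_mem ht (V.isOpen.mem_nhds hzV), hfin.subset ?_⟩
  rintro x ⟨⟨hxt, hxV⟩, hx⟩
  refine ⟨hxt, ?_⟩
  rw [Function.mem_support] at hx ⊢
  rwa [hform x hxV] at hx

/-- Restriction of a function with locally finite support along an injective continuous map. -/
theorem locallyFiniteSupport_comp_of_injective {Z : Scheme.{u}} (j : Z ⟶ X)
    (hj : Function.Injective j) (T : X → ℤ) (hT : LocallyFiniteSupport T) :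
    LocallyFiniteSupport (fun z => T (j z)) := by
  intro z
  obtain ⟨t, ht, hfin⟩ := hT (j z)
  refine ⟨j ⁻¹' t, j.continuous.continuousAt ht, ?_⟩
  refine (hfin.preimage hj.injOn).subset ?_
  rintro y ⟨hy1, hy2⟩
  exact ⟨hy1, hy2⟩

end Groth.Agent.Lib.Helper18.C1Core
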