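import Groth.Agent.Lib.Helper18.Cyc.PullComp
import Groth.Agent.Lib.Helper17.ModStalk
import Groth.Prelude.Def_Coh

set_option autoImplicit false
set_option linter.style.haveILetI false
universe u
open AlgebraicGeometry CategoryTheory TensorProduct IsLocalRing

namespace Groth.Agent.Lib.Helper18.CycPull

/-- Length of the stalk of the pullback of a quasi-coherent module along a flat morphism. -/
theorem length_stalk_pullback {X Y : Scheme.{u}} (f : X ⟶ Y) [Flat f] (F : Y.Modules)
    [F.IsQuasicoherent] (x : X) :
    Module.length (X.presheaf.stalk x) (((Scheme.Modules.pullback f).obj F).presheaf.stalk x) =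
      Module.length (Y.presheaf.stalk (f x)) (F.presheaf.stalk (f x)) *
        Module.length (X.presheaf.stalk x) (X.presheaf.stalk x ⧸
          Ideal.map (f.stalkMap x).hom (maximalIdeal (Y.presheaf.stalk (f x)))) := by
  letI := (f.stalkMap x).hom.toAlgebra
  haveI : Module.Flat (Y.presheaf.stalk (f x)) (X.presheaf.stalk x) := Flat.stalkMap f x
  haveI : IsLocalHom (algebraMap (Y.presheaf.stalk (f x)) (X.presheaf.stalk x)) :=
    inferInstanceAs (IsLocalHom (f.stalkMap x).hom)
  obtain ⟨e⟩ := Groth.Agent.Lib.Helper17.ModStalk.nonempty_linearEquiv_stalk_pullback f F x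
  rw [e.length_eq]
  exact IsLocalRing.length_baseChange (Y.presheaf.stalk (f x)) (X.presheaf.stalk x)
    (F.presheaf.stalk (f x))

/-- Nontriviality of the stalk of a pullback forces nontriviality downstairs. -/
theorem nontrivial_stalk_of_nontrivial_stalk_pullback {X Y : Scheme.{u}} (f : X ⟶ Y)
    (F : Y.Modules) [F.IsQuasicoherent] (x : X)
    (h : Nontrivial (((Scheme.Modules.pullback f).obj F).presheaf.stalk x)) :
    Nontrivial (F.presheaf.stalk (f x)) := by
  letI := (f.stalkMap x).hom.toAlgebra
  obtain ⟨e⟩ := Groth.Agent.Lib.Helper17.ModStalk.nonempty_linearEquiv_stalk_pullback f F x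
  by_contra hcon
  rw [not_nontrivial_iff_subsingleton] at hcon
  haveI := hcon
  haveI : Subsingleton ((X.presheaf.stalk x) ⊗[Y.presheaf.stalk (f x)] (F.presheaf.stalk (f x))) :=
    inferInstance
  haveI := e.toEquiv.subsingleton
  exact not_subsingleton _ ‹_›

theorem pullFun_sheafFun {X Y : Scheme.{u}} (δX : X → ℤ) (δY : Y → ℤ) (f : X ⟶ Y) [Flat f]
    [LocallyOfFiniteType f] (r : ℕ) (hr : Cyc.HasRelDim f r) (hδ : Cyc.DeltaCompat f δX δY)
    (k : ℤ) (F : Y.Modules) [F.IsQuasicoherent]
    (hdim : ∀ y : Y, Nontrivial (F.presheaf.stalk y) → δY y ≤ k) :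
    (∀ x : X, Nontrivial (((Scheme.Modules.pullback f).obj F).presheaf.stalk x) → δX x ≤ k + r) ∧
      Cyc.pullFun f δX δY r (Cyc.sheafFun δY k F) =
        Cyc.sheafFun δX (k + r) ((Scheme.Modules.pullback f).obj F) := by
  refine ⟨fun x hx => ?_, ?_⟩
  · have h1 := hdim _ (nontrivial_stalk_of_nontrivial_stalk_pullback f F x hx)
    have h2 := delta_eq_add_tr f δX δY hδ x
    have h3 := tr_le_of_hasRelDim f r hr x
    omega
  · funext x
    have h2 := delta_eq_add_tr f δX δY hδ x
    have h3 := tr_le_of_hasRelDim f r hr x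
    have hlen := length_stalk_pullback f F x
    unfold Cyc.pullFun Cyc.sheafFun
    simp only
    by_cases hC3 : δX x = k + r
    · rw [if_pos hC3, hlen, ENat.toNat_mul]
      by_cases hF : Nontrivial (F.presheaf.stalk (f x))
      · have h1 := hdim _ hF
        have hC1 : δX x = δY (f x) + r := by omega
        have hC2 : δY (f x) = k := by omega
        rw [if_pos hC1, if_pos hC2]
        push_cast
        ring
      · rw [not_nontrivial_iff_subsingleton] at hF
        haveI := hF
        have h0 : Module.length (Y.presheaf.stalk (f x)) (F.presheaf.stalk (f x)) = 0 :=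
          Module.length_eq_zero
        rw [h0]
        simp only [ENat.toNat_zero, zero_mul, Nat.cast_zero]
        split_ifs <;> simp
    · rw [if_neg hC3]
      by_cases hC1 : δX x = δY (f x) + r
      · rw [if_pos hC1]
        have hC2 : ¬ δY (f x) = k := by
          intro hC2
          apply hC3
          omega
        rw [if_neg hC2, zero_mul]
      · rw [if_neg hC1]

end Groth.Agent.Lib.Helper18.CycPull
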