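import Groth.Agent.Lib.Helper18.Cyc.FibreMax
import Groth.Agent.Lib.Helper18.Cyc.PullSheaf

set_option autoImplicit false
set_option linter.style.haveILetI false
universe u
open AlgebraicGeometry CategoryTheory TensorProduct IsLocalRing

namespace Groth.Agent.Lib.Helper18.CycPull

/-- The fibre length is nonzero. -/
theorem length_quot_ne_zero {X' X : Scheme.{u}} (p : X' ⟶ X) (x' : X') :
    Module.length (X'.presheaf.stalk x') (X'.presheaf.stalk x' ⧸
      Ideal.map (p.stalkMap x').hom (maximalIdeal (X.presheaf.stalk (p x')))) ≠ 0 := by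
  have hle : Ideal.map (p.stalkMap x').hom (maximalIdeal (X.presheaf.stalk (p x'))) ≤
      maximalIdeal (X'.presheaf.stalk x') := IsLocalRing.map_maximalIdeal_le _
  have hne : Ideal.map (p.stalkMap x').hom (maximalIdeal (X.presheaf.stalk (p x'))) ≠ ⊤ := by
    intro h
    rw [h] at hle
    exact (maximalIdeal.isMaximal _).ne_top (top_le_iff.1 hle)
  haveI : Nontrivial (X'.presheaf.stalk x' ⧸
      Ideal.map (p.stalkMap x').hom (maximalIdeal (X.presheaf.stalk (p x')))) :=
    Ideal.Quotient.nontrivial_iff.2 hne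
  rw [Ne, Module.length_eq_zero_iff]
  exact not_subsingleton _

theorem pullFun_flat_comp {X X' X'' : Scheme.{u}} (p : X' ⟶ X) (p' : X'' ⟶ X') [Flat p']
    (δ : X → ℤ) (δ' : X' → ℤ) (δ'' : X'' → ℤ) [IsLocallyNoetherian X'] [IsLocallyNoetherian X'']
    (c c' : ℤ) (hc : ∀ x' : X', (∀ y, p y = p x' → y ⤳ x' → y = x') → δ' x' = δ (p x') + c)
    (hc' : ∀ x'' : X'', (∀ y, p' y = p' x'' → y ⤳ x'' → y = x'') → δ'' x'' = δ' (p' x'') + c')
    (α : X → ℤ) :
    (∀ x'' : X'', (∀ y, (p' ≫ p) y = (p' ≫ p) x'' → y ⤳ x'' → y = x'') →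
        δ'' x'' = δ ((p' ≫ p) x'') + (c + c')) ∧
      Cyc.pullFun (p' ≫ p) δ'' δ (c + c') α =
        Cyc.pullFun p' δ'' δ' c' (Cyc.pullFun p δ' δ c α) := by
  have key : ∀ x'' : X'',
      Module.length (X''.presheaf.stalk x'') (X''.presheaf.stalk x'' ⧸
        Ideal.map ((p'.stalkMap x'').hom.comp (p.stalkMap (p' x'')).hom)
          (maximalIdeal (X.presheaf.stalk (p (p' x''))))) ≠ ⊤ →
      δ'' x'' = δ' (p' x'') + c' ∧ δ' (p' x'') = δ (p (p' x'')) + c := by
    intro x'' h3
    have hlen := length_quot_map_comp (p'.stalkMap x'').hom (p.stalkMap (p' x'')).hom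
      (Flat.stalkMap p' x'')
    rw [hlen] at h3
    have h1 : Module.length (X''.presheaf.stalk x'') (X''.presheaf.stalk x'' ⧸
        Ideal.map (p'.stalkMap x'').hom (maximalIdeal (X'.presheaf.stalk (p' x'')))) ≠ ⊤ := by
      intro h
      apply h3
      rw [h]
      exact ENat.mul_top (length_quot_ne_zero p (p' x''))
    have h2 : Module.length (X'.presheaf.stalk (p' x'')) (X'.presheaf.stalk (p' x'') ⧸
        Ideal.map (p.stalkMap (p' x'')).hom (maximalIdeal (X.presheaf.stalk (p (p' x''))))) ≠ ⊤ := by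
      intro h
      apply h3
      rw [h]
      exact ENat.top_mul (length_quot_ne_zero p' x'')
    exact ⟨hc' x'' ((length_ne_top_iff_isMax p' x'').1 h1),
      hc (p' x'') ((length_ne_top_iff_isMax p (p' x'')).1 h2)⟩
  have hcomp : ∀ x'' : X'', ((p' ≫ p).stalkMap x'').hom =
      (p'.stalkMap x'').hom.comp (p.stalkMap (p' x'')).hom := fun x'' => by
    rw [Scheme.Hom.stalkMap_comp]
    rfl
  refine ⟨fun x'' hmax => ?_, ?_⟩
  · have h3 := (length_ne_top_iff_isMax (p' ≫ p) x'').2 hmax
    rw [hcomp] at h3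
    obtain ⟨h1, h2⟩ := key x'' h3
    show δ'' x'' = δ (p (p' x'')) + (c + c')
    omega
  · funext x''
    have hlen := length_quot_map_comp (p'.stalkMap x'').hom (p.stalkMap (p' x'')).hom
      (Flat.stalkMap p' x'')
    have hlen' := congrArg ENat.toNat hlen
    rw [ENat.toNat_mul] at hlen'
    unfold Cyc.pullFun
    simp only
    rw [hcomp]
    show (if δ'' x'' = δ (p (p' x'')) + (c + c') then α (p (p' x'')) *
        ((Module.length (X''.presheaf.stalk x'') (X''.presheaf.stalk x'' ⧸
          Ideal.map ((p'.stalkMap x'').hom.comp (p.stalkMap (p' x'')).hom)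
            (maximalIdeal (X.presheaf.stalk (p (p' x'')))))).toNat : ℤ) else 0) = _
    rw [hlen']
    by_cases h3 : Module.length (X''.presheaf.stalk x'') (X''.presheaf.stalk x'' ⧸
        Ideal.map ((p'.stalkMap x'').hom.comp (p.stalkMap (p' x'')).hom)
          (maximalIdeal (X.presheaf.stalk (p (p' x''))))) = ⊤
    · have h0 : (Module.length (X'.presheaf.stalk (p' x'')) (X'.presheaf.stalk (p' x'') ⧸
          Ideal.map (p.stalkMap (p' x'')).hom
            (maximalIdeal (X.presheaf.stalk (p (p' x'')))))).toNat *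
          (Module.length (X''.presheaf.stalk x'') (X''.presheaf.stalk x'' ⧸
            Ideal.map (p'.stalkMap x'').hom
              (maximalIdeal (X'.presheaf.stalk (p' x''))))).toNat = 0 := by
        rw [← hlen', h3]
        rfl
      have h0' : ((Module.length (X'.presheaf.stalk (p' x'')) (X'.presheaf.stalk (p' x'') ⧸
          Ideal.map (p.stalkMap (p' x'')).hom
            (maximalIdeal (X.presheaf.stalk (p (p' x'')))))).toNat : ℤ) *
          ((Module.length (X''.presheaf.stalk x'') (X''.presheaf.stalk x'' ⧸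
            Ideal.map (p'.stalkMap x'').hom
              (maximalIdeal (X'.presheaf.stalk (p' x''))))).toNat : ℤ) = 0 := by
        exact_mod_cast h0
      rw [h0]
      split_ifs <;> simp [mul_assoc, h0']
    · obtain ⟨h1, h2⟩ := key x'' h3
      have h3' : δ'' x'' = δ (p (p' x'')) + (c + c') := by omega
      rw [if_pos h3', if_pos h1, if_pos h2]
      push_cast
      ring

end Groth.Agent.Lib.Helper18.CycPull
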