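import Mathlib
import Groth.Prelude.Def_Cyc
import Groth.Agent.Lib.Helper18.Cyc.PullRatBC
import Groth.Agent.Lib.Helper18.Cyc.PullBC

set_option autoImplicit false
set_option linter.style.haveILetI false
universe u
open AlgebraicGeometry CategoryTheory IsLocalRing Order

namespace Groth.Agent.Lib.Helper18.CycDiv

open Groth.Agent.Lib.Helper18.CycPull

/-- On a compact space a function with locally finite support has finite support. -/
theorem finite_support_of_compactSpace {X : Type*} [TopologicalSpace X] [CompactSpace X]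
    (α : Function.locallyFinsuppWithin (⊤ : Set X) ℤ) : (Function.support α).Finite := by
  choose t ht hfin using fun z : X => α.supportLocallyFiniteWithinDomain z (Set.mem_univ z)
  obtain ⟨s, hs⟩ := CompactSpace.elim_nhds_subcover t ht
  refine ((s.finite_toSet.biUnion (fun z _ => hfin z))).subset ?_
  intro x hx
  have hx' : x ∈ ⋃ z ∈ s, t z := hs ▸ Set.mem_univ x
  simp only [Set.mem_iUnion] at hx' ⊢
  obtain ⟨z, hz, hxz⟩ := hx'
  exact ⟨z, hz, hxz, hx⟩

/-- If a point with nonzero coefficient is in the image of a flat morphism, the pullback of the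
cycle is nonzero. -/
theorem pullFun_ne_zero_of_mem_range {X' X : Scheme.{u}} (p : X' ⟶ X) [Flat p]
    [IsLocallyNoetherian X'] (δ' : X' → ℤ) (δ : X → ℤ) (c : ℤ)
    (hc : ∀ x' : X', (∀ y, p y = p x' → y ⤳ x' → y = x') → δ' x' = δ (p x') + c)
    (α : X → ℤ) (ξ : X) (hξ : α ξ ≠ 0) (hr : ξ ∈ Set.range p) :
    ∃ z, Cyc.pullFun p δ' δ c α z ≠ 0 := by
  obtain ⟨x', rfl⟩ := hr
  obtain ⟨z, hfz, hzx, hmax⟩ := exists_max_generization_in_fibre p x'
  refine ⟨z, ?_⟩
  unfold Cyc.pullFun
  rw [if_pos (hc z hmax)]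
  have hξ' : α (p z) ≠ 0 := by rw [hfz]; exact hξ
  apply mul_ne_zero hξ'
  have h1 := length_quot_ne_zero p z
  have h2 := (length_ne_top_iff_isMax p z).2 hmax
  intro h0
  have h3 : (Module.length (X'.presheaf.stalk z) (X'.presheaf.stalk z ⧸
      Ideal.map (p.stalkMap z).hom (maximalIdeal (X.presheaf.stalk (p z))))).toNat = 0 := by
    exact_mod_cast h0
  rcases (ENat.toNat_eq_zero).1 h3 with h4 | h4
  · exact h1 h4
  · exact h2 h4

end Groth.Agent.Lib.Helper18.CycDiv
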