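import Mathlib
import Groth.Prelude.Def_Cyc
import Groth.Agent.Lib.Helper18.Cyc.LimCyc

set_option autoImplicit false
set_option linter.style.haveILetI false
universe u
open AlgebraicGeometry CategoryTheory IsLocalRing Limits

namespace Groth.Agent.Lib.Helper18.CycDiv

open Groth.Agent.Lib.Helper18.CycPull

/-- For a factorization `p = q ≫ t`, the ideal generated by the maximal ideal of the target of `p`
is contained in the one generated by the maximal ideal of the target of `q`. -/
theorem map_maximalIdeal_le_of_comp {X' Y Z : Scheme.{u}} (p : X' ⟶ Y) (q : X' ⟶ Z) (t : Z ⟶ Y)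
    (h : q ≫ t = p) (x' : X') :
    Ideal.map (p.stalkMap x').hom (maximalIdeal (Y.presheaf.stalk (p x'))) ≤
      Ideal.map (q.stalkMap x').hom (maximalIdeal (Z.presheaf.stalk (q x'))) := by
  subst h
  rw [Ideal.map_le_iff_le_comap]
  intro b hb
  have h1 : ((q ≫ t).stalkMap x').hom b = (q.stalkMap x').hom ((t.stalkMap (q x')).hom b) := by
    rw [Scheme.Hom.stalkMap_comp]; rfl
  rw [Ideal.mem_comap, h1]
  apply Ideal.mem_map_of_mem
  have hloc : IsLocalHom (t.stalkMap (q x')).hom := inferInstance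
  have hle : maximalIdeal _ ≤ Ideal.comap (t.stalkMap (q x')).hom (maximalIdeal _) :=
    ((IsLocalRing.local_hom_TFAE (t.stalkMap (q x')).hom).out 0 3).1 hloc
  exact hle hb

/-- The residue field has length one. -/
theorem length_quot_maximalIdeal (R : Type*) [CommRing R] [IsLocalRing R] :
    Module.length R (R ⧸ maximalIdeal R) = 1 :=
  Module.length_eq_one_iff.2 (isSimpleModule_iff_isCoatom.2 (Ideal.isMaximal_def.1 inferInstance))

section Lim

variable {I : Type u} [Category.{u} I] [IsCofiltered I] (D : I ⥤ Scheme.{u}) (c : Cone D)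
  (hc : IsLimit c) [∀ {i j} (f : i ⟶ j), IsAffineHom (D.map f)]

include hc in
/-- Points of a cofiltered limit with affine transition maps are separated by the projections. -/
theorem eq_of_forall_π_eq (x z : c.pt) (h : ∀ i, c.π.app i x = c.π.app i z) : x = z := by
  have hB : ∀ {U : TopologicalSpace.Opens ↥c.pt} {x : ↥c.pt}, x ∈ U →
      ∃ U' ∈ {x | ∃ i V, ∃ (_ : IsAffineOpen V), c.π.app i ⁻¹ᵁ V = x}, x ∈ U' ∧ U' ≤ U :=
    TopologicalSpace.Opens.isBasis_iff_nbhd.1 (isBasis_preimage_isAffineOpen D c hc)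
  have key : ∀ x z : c.pt, (∀ i, c.π.app i x = c.π.app i z) →
      ∀ U : Set c.pt, IsOpen U → x ∈ U → z ∈ U := by
    intro x z h U hU hx
    obtain ⟨_, ⟨i, V, _, rfl⟩, hxV, hVU⟩ := hB (U := ⟨U, hU⟩) hx
    apply hVU
    show c.π.app i z ∈ V
    rw [← h i]
    exact hxV
  have hins : Inseparable x z := by
    rw [inseparable_iff_forall_isOpen]
    exact fun U hU => ⟨key x z h U hU, key z x (fun i => (h i).symm) U hU⟩
  exact hins.eq

set_option backward.defeqAttrib.useBackward true in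
set_option backward.isDefEq.respectTransparency false in
open Scheme.Opens in
include hc in
/-- Sections over the preimage of an affine open come from a finite stage. -/
theorem exists_appLE_eq (i : I) (V : (D.obj i).Opens) (hV : IsAffineOpen V)
    (r : Γ(c.pt, c.π.app i ⁻¹ᵁ V)) :
    ∃ (j : Over i) (s : Γ(D.obj j.left, D.map j.hom ⁻¹ᵁ V))
      (h : c.π.app i ⁻¹ᵁ V ≤ c.π.app j.left ⁻¹ᵁ D.map j.hom ⁻¹ᵁ V),
      r = (c.π.app j.left).appLE (D.map j.hom ⁻¹ᵁ V) (c.π.app i ⁻¹ᵁ V) h s := by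
  have (j : _) : IsAffine ((opensDiagram D i V).op.obj j).unop := hV.preimage _
  have (j : _) : IsAffine ((opensDiagram D i V).obj j) := hV.preimage _
  obtain ⟨⟨j⟩, s, hs⟩ := (Types.jointly_surjective_of_isColimit (isColimitOfPreserves
    (Scheme.Γ ⋙ forget _) (isLimitOpensCone D c hc i V).op) ((c.π.app i ⁻¹ᵁ V).topIso.inv r))
  obtain ⟨s, rfl⟩ := (D.map j.hom ⁻¹ᵁ V).topIso.symm.commRingCatIsoToRingEquiv.surjective s
  have h : c.π.app j.left ⁻¹ᵁ D.map j.hom ⁻¹ᵁ V = c.π.app i ⁻¹ᵁ V := congr($(c.w j.hom) ⁻¹ᵁ V)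
  refine ⟨j, s, h.ge, ?_⟩
  convert!
    show r = ((topIso _).inv ≫ ((opensCone D c i V).π.app j).appTop ≫ (topIso _).hom) s from
      (c.π.app i ⁻¹ᵁ V).topIso.commRingCatIsoToRingEquiv.symm_apply_eq.mp hs.symm using 3
  simp [Scheme.Hom.app_eq_appLE, Scheme.Hom.resLE_appLE]

include hc in
/-- Every element of the maximal ideal of a local ring of the limit lies in the ideal generated by
the maximal ideal of the local ring at some finite stage. -/
theorem exists_mem_map_maximalIdeal (x' : c.pt) (a : c.pt.presheaf.stalk x')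
    (ha : a ∈ maximalIdeal (c.pt.presheaf.stalk x')) :
    ∃ j : I, a ∈ Ideal.map ((c.π.app j).stalkMap x').hom
      (maximalIdeal ((D.obj j).presheaf.stalk (c.π.app j x'))) := by
  obtain ⟨i⟩ := IsCofiltered.nonempty (C := I)
  obtain ⟨_, ⟨V, hV : IsAffineOpen V, rfl⟩, hxV, -⟩ :=
    (D.obj i).isBasis_affineOpens.exists_subset_of_mem_open
      (Set.mem_univ (c.π.app i x')) isOpen_univ
  let p : c.pt ⟶ D.obj i := c.π.app i
  haveI : IsAffineHom p := isAffineHom_π_app D c hc i
  have hU' : IsAffineOpen (p ⁻¹ᵁ V) := hV.preimage p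
  have hx' : x' ∈ p ⁻¹ᵁ V := hxV
  letI := c.pt.presheaf.algebra_section_stalk ⟨x', hx'⟩
  haveI := hU'.isLocalization_stalk ⟨x', hx'⟩
  obtain ⟨⟨s, r⟩, hsr⟩ := IsLocalization.surj (hU'.primeIdealOf ⟨x', hx'⟩).asIdeal.primeCompl a
  have hr : IsUnit (algebraMap Γ(c.pt, p ⁻¹ᵁ V) (c.pt.presheaf.stalk x') r) :=
    IsLocalization.map_units _ r
  obtain ⟨j, t, h, hst⟩ := exists_appLE_eq D c hc i V hV s
  refine ⟨j.left, ?_⟩
  let q : c.pt ⟶ D.obj j.left := c.π.app j.left
  show a ∈ Ideal.map (q.stalkMap x').hom (maximalIdeal ((D.obj j.left).presheaf.stalk (q x')))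
  have hxj : q x' ∈ D.map j.hom ⁻¹ᵁ V := h hx'
  have hgerm : algebraMap Γ(c.pt, p ⁻¹ᵁ V) (c.pt.presheaf.stalk x') s =
      (q.stalkMap x').hom ((D.obj j.left).presheaf.germ _ _ hxj t) := by
    rw [hst]
    show c.pt.presheaf.germ _ x' hx' _ = _
    erw [Scheme.Hom.germ_stalkMap_apply]
    simp only [Scheme.Hom.appLE, CommRingCat.comp_apply]
    exact TopCat.Presheaf.germ_res_apply c.pt.presheaf (homOfLE h) x' hx' _
  have hloc : IsLocalHom (q.stalkMap x').hom := inferInstance
  have htm : (D.obj j.left).presheaf.germ _ _ hxj t ∈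
      maximalIdeal ((D.obj j.left).presheaf.stalk (q x')) := by
    rw [mem_maximalIdeal, mem_nonunits_iff]
    intro hu
    have hu' := hu.map (q.stalkMap x').hom
    rw [← hgerm] at hu'
    have : a * algebraMap Γ(c.pt, p ⁻¹ᵁ V) (c.pt.presheaf.stalk x') r ∈
        maximalIdeal (c.pt.presheaf.stalk x') := Ideal.mul_mem_right _ _ ha
    rw [hsr] at this
    exact (mem_nonunits_iff.1 ((mem_maximalIdeal _).1 this)) hu'
  have ha' : a = (q.stalkMap x').hom ((D.obj j.left).presheaf.germ _ _ hxj t) *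
      ↑(hr.unit⁻¹) := by
    rw [← hgerm, ← hsr, mul_assoc]
    have : algebraMap Γ(c.pt, p ⁻¹ᵁ V) (c.pt.presheaf.stalk x') r * ↑(hr.unit⁻¹) = 1 :=
      hr.mul_val_inv
    rw [this, mul_one]
  rw [ha']
  exact Ideal.mul_mem_right _ _ (Ideal.mem_map_of_mem _ htm)

include hc in
/-- At a point of a locally Noetherian limit, the maximal ideal is generated by the maximal ideal
of the local ring at every sufficiently large finite stage. -/
theorem exists_map_maximalIdeal_eq [IsLocallyNoetherian c.pt] (x' : c.pt) :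
    ∃ i : I, ∀ (j : I) (_ : j ⟶ i), Ideal.map ((c.π.app j).stalkMap x').hom
      (maximalIdeal ((D.obj j).presheaf.stalk (c.π.app j x'))) =
        maximalIdeal (c.pt.presheaf.stalk x') := by
  classical
  haveI : Nonempty I := IsCofiltered.nonempty
  obtain ⟨S, hS⟩ := (isNoetherianRing_iff_ideal_fg _).1 inferInstance
    (maximalIdeal (c.pt.presheaf.stalk x'))
  have hmem : ∀ a ∈ S, a ∈ maximalIdeal (c.pt.presheaf.stalk x') :=
    fun a ha => hS ▸ Ideal.subset_span ha
  choose! J hJ using fun a (ha : a ∈ S) => exists_mem_map_maximalIdeal D c hc x' a (hmem a ha)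
  obtain ⟨i, hi⟩ := IsCofiltered.inf_objs_exists (S.image J)
  refine ⟨i, fun j f => le_antisymm ?_ ?_⟩
  · have hloc : IsLocalHom ((c.π.app j).stalkMap x').hom := inferInstance
    exact ((IsLocalRing.local_hom_TFAE ((c.π.app j).stalkMap x').hom).out 0 2).1 hloc
  · rw [← hS, Ideal.span_le]
    intro a ha
    obtain ⟨g⟩ := hi (Finset.mem_image_of_mem J ha)
    exact map_maximalIdeal_le_of_comp (c.π.app (J a)) (c.π.app j) (D.map (f ≫ g)) (c.w _) x'
      (hJ a ha)

include hc in
/-- At every sufficiently large finite stage `j`, a point `x'` of a Noetherian limit with a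
dimension function compatible with the projections has: the maximal ideal of its local ring is
generated by that of the image point, and it is the only point of its `δ'`-dimension in its fibre
over stage `j`. -/
theorem exists_stage_unique [IsLocallyNoetherian c.pt] [∀ i, CompactSpace (D.obj i)]
    (δ' : c.pt → ℤ) (hdim' : Cyc.IsDimFun c.pt δ') (δ : (i : I) → D.obj i → ℤ)
    (hflat' : ∀ i, Flat (c.π.app i))
    (hshift' : ∀ (i : I) (x : c.pt), (∀ y, c.π.app i y = c.π.app i x → y ⤳ x → y = x) →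
      δ' x = δ i (c.π.app i x))
    (x' : c.pt) :
    ∃ i : I, ∀ (j : I) (_ : j ⟶ i),
      Ideal.map ((c.π.app j).stalkMap x').hom
        (maximalIdeal ((D.obj j).presheaf.stalk (c.π.app j x'))) =
          maximalIdeal (c.pt.presheaf.stalk x') ∧
      ∀ z, c.π.app j z = c.π.app j x' → δ' z = δ' x' → z = x' := by
  classical
  haveI : Nonempty I := IsCofiltered.nonempty
  haveI : CompactSpace c.pt := Scheme.compactSpace_of_isLimit D c hc
  haveI : IsNoetherian c.pt := {}
  obtain ⟨i₀, hi₀⟩ := exists_map_maximalIdeal_eq D c hc x'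
  let p₀ : c.pt ⟶ D.obj i₀ := c.π.app i₀
  haveI : Flat p₀ := hflat' i₀
  have hmax₀ : ∀ y, c.π.app i₀ y = c.π.app i₀ x' → y ⤳ x' → y = x' := by
    apply (length_ne_top_iff_isMax p₀ x').1
    rw [hi₀ i₀ (𝟙 _), length_quot_maximalIdeal]
    exact ENat.one_ne_top
  have hδ₀ : δ' x' = δ i₀ (c.π.app i₀ x') := hshift' i₀ x' hmax₀
  let M : Set c.pt := {z | c.π.app i₀ z = c.π.app i₀ x' ∧ δ' z = δ' x'}
  have hMfin : M.Finite := by
    let T : Set c.pt := c.π.app i₀ ⁻¹' closure {c.π.app i₀ x'}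
    have hT : IsClosed T := isClosed_closure.preimage (c.π.app i₀).continuous
    refine (finite_maximal_points_of_isClosed hT).subset ?_
    rintro z ⟨hz1, hz2⟩
    have hzmax : ∀ y, c.π.app i₀ y = c.π.app i₀ z → y ⤳ z → y = z :=
      isMax_fibre_of_delta_bc p₀ δ' (δ i₀) hdim' 0
        (fun x hx => by rw [hshift' i₀ x hx, add_zero]) z (by rw [hz2, hδ₀, hz1, add_zero])
    refine ⟨?_, fun y hyT hyz => ?_⟩
    · show c.π.app i₀ z ∈ closure {c.π.app i₀ x'}
      rw [hz1]; exact subset_closure rfl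
    · apply hzmax y _ hyz
      have h1 : c.π.app i₀ y ⤳ c.π.app i₀ z := hyz.map (c.π.app i₀).continuous
      have h2 : c.π.app i₀ x' ⤳ c.π.app i₀ y := specializes_iff_mem_closure.2 hyT
      rw [hz1] at h1 ⊢
      exact (h1.antisymm h2).eq
  have hsep : ∀ z, z ≠ x' → ∃ j, c.π.app j z ≠ c.π.app j x' := by
    intro z hz
    by_contra hcon
    push_neg at hcon
    exact hz (eq_of_forall_π_eq D c hc z x' hcon)
  choose! J hJ using hsep
  obtain ⟨i, hi⟩ := IsCofiltered.inf_objs_exists (insert i₀ (hMfin.toFinset.image J))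
  obtain ⟨g₀⟩ := hi (Finset.mem_insert_self _ _)
  refine ⟨i, fun j f => ⟨hi₀ j (f ≫ g₀), fun z hz hδz => ?_⟩⟩
  by_contra hne
  have hzM : z ∈ M := by
    refine ⟨?_, hδz⟩
    rw [← c.w (f ≫ g₀)]
    simp only [Scheme.Hom.comp_apply, Functor.const_obj_obj]
    rw [hz]
  obtain ⟨g⟩ := hi (Finset.mem_insert_of_mem
    (Finset.mem_image_of_mem J (hMfin.mem_toFinset.2 hzM)))
  apply hJ z hne
  rw [← c.w (f ≫ g)]
  simp only [Scheme.Hom.comp_apply, Functor.const_obj_obj]
  rw [hz]

end Lim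

end Groth.Agent.Lib.Helper18.CycDiv
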