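import Mathlib
import Groth.Prelude.Def_Cyc
import Groth.Agent.Lib.Helper18.Cyc.LimSurj
import Groth.Agent.Lib.Helper18.Cyc.PullComp
import Groth.Agent.Lib.Helper18.Cyc.DivFinite2

set_option autoImplicit false
set_option linter.style.haveILetI false
universe u
open AlgebraicGeometry CategoryTheory IsLocalRing Limits

namespace Groth.Agent.Lib.Helper18.CycDiv

open Groth.Agent.Lib.Helper18.CycPull

/-- A family which is locally finite on a compact space is finite. -/
theorem finite_index_of_compactSpace {X : Type*} [TopologicalSpace X] [CompactSpace X]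
    {ι : Type*} (ξ : ι → X)
    (hlf : ∀ x : X, ∃ U : Set X, IsOpen U ∧ x ∈ U ∧ {i | (closure {ξ i} ∩ U).Nonempty}.Finite) :
    Finite ι := by
  choose U hUo hxU hfin using hlf
  obtain ⟨s, hs⟩ := CompactSpace.elim_nhds_subcover U (fun x => (hUo x).mem_nhds (hxU x))
  have hsub : (Set.univ : Set ι) ⊆ ⋃ x ∈ s, {i | (closure {ξ i} ∩ U x).Nonempty} := by
    intro i _
    have hi : ξ i ∈ ⋃ x ∈ s, U x := hs ▸ Set.mem_univ _
    simp only [Set.mem_iUnion] at hi ⊢
    obtain ⟨x, hx, hix⟩ := hi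
    exact ⟨x, hx, ξ i, subset_closure rfl, hix⟩
  exact Set.finite_univ_iff.1 ((s.finite_toSet.biUnion (fun x _ => hfin x)).subset hsub)

theorem pullFun_sub {X Y : Scheme.{u}} (f : X ⟶ Y) (δX : X → ℤ) (δY : Y → ℤ) (c : ℤ)
    (a b : Y → ℤ) :
    Cyc.pullFun f δX δY c (a - b) = Cyc.pullFun f δX δY c a - Cyc.pullFun f δX δY c b := by
  funext x
  unfold Cyc.pullFun
  simp only [Pi.sub_apply]
  split_ifs
  · rw [sub_mul]
  · simp

theorem pullFun_finsum {X Y : Scheme.{u}} (f : X ⟶ Y) (δX : X → ℤ) (δY : Y → ℤ) (c : ℤ)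
    {ι : Type*} (a : ι → Y → ℤ) (x : X) :
    Cyc.pullFun f δX δY c (fun y => ∑ᶠ l, a l y) x = ∑ᶠ l, Cyc.pullFun f δX δY c (a l) x := by
  unfold Cyc.pullFun
  simp only
  split_ifs
  · rw [finsum_mul]
  · simp

/-- Composition of pullbacks of coefficient functions, in the base-change flavour. -/
theorem pullFun_comp_bc {X Y Z : Scheme.{u}} (f : X ⟶ Y) (g : Y ⟶ Z) [Flat f] [Flat g]
    (δX : X → ℤ) (δY : Y → ℤ) (δZ : Z → ℤ)
    (hdimX : Cyc.IsDimFun X δX) (hdimY : Cyc.IsDimFun Y δY) (c d : ℤ)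
    (hf : ∀ x : X, (∀ y, f y = f x → y ⤳ x → y = x) → δX x = δY (f x) + c)
    (hg : ∀ y : Y, (∀ z, g z = g y → z ⤳ y → z = y) → δY y = δZ (g y) + d) (α : Z → ℤ) :
    Cyc.pullFun f δX δY c (Cyc.pullFun g δY δZ d α) =
      Cyc.pullFun (f ≫ g) δX δZ (c + d) α := by
  funext x
  have hd1 := delta_le_of_bc f δX δY hdimX c hf x
  have hd2 := delta_le_of_bc g δY δZ hdimY d hg (f x)
  have hlen := length_quot_map_comp (f.stalkMap x).hom (g.stalkMap (f x)).hom
    (Flat.stalkMap f x)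
  have hcomp : ((f ≫ g).stalkMap x).hom = (f.stalkMap x).hom.comp (g.stalkMap (f x)).hom := by
    rw [Scheme.Hom.stalkMap_comp]
    rfl
  unfold Cyc.pullFun
  simp only
  rw [hcomp]
  have hfg : (f ≫ g) x = g (f x) := rfl
  by_cases h3 : δX x = δZ ((f ≫ g) x) + (c + d)
  · have h1 : δX x = δY (f x) + c := by rw [hfg] at h3; omega
    have h2 : δY (f x) = δZ (g (f x)) + d := by rw [hfg] at h3; omega
    rw [if_pos h3, if_pos h1, if_pos h2]
    have hlen' := congrArg ENat.toNat hlen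
    rw [ENat.toNat_mul] at hlen'
    show α (g (f x)) * _ * _ = α (g (f x)) *
      ((Module.length (X.presheaf.stalk x) (X.presheaf.stalk x ⧸
        Ideal.map ((f.stalkMap x).hom.comp (g.stalkMap (f x)).hom)
          (maximalIdeal (Z.presheaf.stalk (g (f x)))))).toNat : ℤ)
    rw [hlen']
    push_cast
    ring
  · rw [if_neg h3]
    by_cases h1 : δX x = δY (f x) + c
    · rw [if_pos h1]
      have h2 : ¬ δY (f x) = δZ (g (f x)) + d := by
        intro h2
        apply h3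
        rw [hfg]
        omega
      rw [if_neg h2, zero_mul]
    · rw [if_neg h1]

/-- The flat pullback of a cycle has locally finite support. -/
theorem locallyFiniteSupport_pullFun {X Y : Scheme.{u}} (f : X ⟶ Y) [IsLocallyNoetherian X]
    (δX : X → ℤ) (δY : Y → ℤ) (c : ℤ) (α : AlgebraicCycle Y ℤ) :
    LocallyFiniteSupport (Cyc.pullFun f δX δY c ⇑α) := by
  intro x
  have hlf : ∀ y : Y, ∃ V : Set Y, IsOpen V ∧ y ∈ V ∧
      {i : Function.support α | (closure {(i : Y)} ∩ V).Nonempty}.Finite := by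
    intro y
    obtain ⟨t, ht, hfin⟩ := α.supportLocallyFiniteWithinDomain y (Set.mem_univ y)
    refine ⟨interior t, isOpen_interior, mem_interior_iff_mem_nhds.2 ht, ?_⟩
    refine Set.Finite.subset (hfin.preimage (Subtype.val_injective.injOn) :
      {i : Function.support α | (i : Y) ∈ t ∩ Function.support α}.Finite) ?_
    rintro i ⟨w, hw1, hw2⟩
    have hi : (i : Y) ∈ interior t :=
      (specializes_iff_mem_closure.2 hw1).mem_open isOpen_interior hw2
    exact ⟨interior_subset hi, i.2⟩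
  obtain ⟨U, hUo, hxU, hfin⟩ :=
    locallyFinite_fibIdx f (fun i : Function.support α => (i : Y)) hlf x
  refine ⟨U, hUo.mem_nhds hxU, ?_⟩
  refine Set.Finite.subset (hfin.image (fun j => j.2.1)) ?_
  rintro z ⟨hzU, hz⟩
  rw [Function.mem_support] at hz
  unfold Cyc.pullFun at hz
  have hcond : δX z = δY (f z) + c := by
    by_contra h
    exact hz (if_neg h)
  rw [if_pos hcond] at hz
  have hα : α (f z) ≠ 0 := left_ne_zero_of_mul hz
  have hmax : ∀ y, f y = f z → y ⤳ z → y = z := by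
    apply (length_ne_top_iff_isMax f z).1
    intro htop
    apply hz
    rw [htop]
    simp
  exact ⟨⟨⟨f z, hα⟩, ⟨z, rfl, fun w hw hs => hmax w hw hs⟩⟩, ⟨z, subset_closure rfl, hzU⟩, rfl⟩

/-- If `x'` generates... the pullback of a principal divisor at a point over which `x'` is the only
generic point of the fibre and the fibre is reduced at `x'` is the principal divisor of the
pulled-back function. -/
theorem pullFun_divFun_of_unique {X' X : Scheme.{u}} (p : X' ⟶ X) [Flat p]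
    [IsLocallyNoetherian X'] [IsLocallyNoetherian X] (δ' : X' → ℤ) (δ : X → ℤ)
    (hdim' : Cyc.IsDimFun X' δ') (hdim : Cyc.IsDimFun X δ)
    (hc : ∀ x : X', (∀ y, p y = p x → y ⤳ x → y = x) → δ' x = δ (p x) + 0)
    (x' : X')
    (hgen : Ideal.map (p.stalkMap x').hom (maximalIdeal (X.presheaf.stalk (p x'))) =
      maximalIdeal (X'.presheaf.stalk x'))
    (huniq : ∀ z, p z = p x' → δ' z = δ' x' → z = x')
    (g : X.residueField (p x')) (hg : g ≠ 0) :
    Cyc.pullFun p δ' δ 0 (Cyc.divFun δ (p x') g) =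
      Cyc.divFun δ' x' ((p.residueFieldMap x').hom g) := by
  funext x
  rw [pullFun_divFun_gen_bc p δ' δ hdim' hdim 0 hc (p x') g hg x]
  have hmax : ∀ y, p y = p x' → y ⤳ x' → y = x' := by
    apply (length_ne_top_iff_isMax p x').1
    rw [hgen, length_quot_maximalIdeal]
    exact ENat.one_ne_top
  let ξ₀ : FibIdx p (p x') := ⟨x', rfl, hmax⟩
  have hall : ∀ ξ'' : FibIdx p (p x'), ξ'' = ξ₀ := by
    intro ξ''
    apply Subtype.ext
    apply huniq _ ξ''.2.1
    rw [delta_fibIdx_bc p δ' δ 0 hc ξ'', delta_fibIdx_bc p δ' δ 0 hc ξ₀]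
  rw [finsum_eq_single _ ξ₀ (fun ξ'' hne => absurd (hall ξ'') hne)]
  show ((Module.length (X'.presheaf.stalk x') (X'.presheaf.stalk x' ⧸
      Ideal.map (p.stalkMap x').hom (maximalIdeal (X.presheaf.stalk (p x'))))).toNat : ℤ) *
    Cyc.divFun δ' x' ((p.residueFieldMap x').hom ((X.residueFieldCongr rfl).hom g)) x = _
  rw [hgen, length_quot_maximalIdeal]
  simp

theorem range_stalkMap_le_of_comp {X' Y Z : Scheme.{u}} (p : X' ⟶ Y) (q : X' ⟶ Z) (t : Z ⟶ Y)
    (h : q ≫ t = p) (x' : X') :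
    (p.stalkMap x').hom.range ≤ (q.stalkMap x').hom.range := by
  subst h
  rintro _ ⟨b, rfl⟩
  exact ⟨(t.stalkMap (q x')).hom b, by rw [Scheme.Hom.stalkMap_comp]; rfl⟩

theorem range_residueFieldMap_le_of_comp {X' Y Z : Scheme.{u}} (p : X' ⟶ Y) (q : X' ⟶ Z)
    (t : Z ⟶ Y) (h : q ≫ t = p) (x' : X') :
    (p.residueFieldMap x').hom.range ≤ (q.residueFieldMap x').hom.range := by
  subst h
  rintro _ ⟨b, rfl⟩
  exact ⟨(t.residueFieldMap (q x')).hom b, by rw [Scheme.residueFieldMap_comp]; rfl⟩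

section Lim

variable {I : Type u} [Category.{u} I] [IsCofiltered I] (D : I ⥤ Scheme.{u}) (c : Cone D)
  (hc : IsLimit c) [∀ {i j} (f : i ⟶ j), IsAffineHom (D.map f)]

include hc in
/-- Every germ of the limit comes from a finite stage. -/
theorem exists_stalkMap_eq (x' : c.pt) (a : c.pt.presheaf.stalk x') :
    ∃ j : I, a ∈ ((c.π.app j).stalkMap x').hom.range := by
  obtain ⟨i⟩ := IsCofiltered.nonempty (C := I)
  obtain ⟨_, ⟨V, hV : IsAffineOpen V, rfl⟩, hxV, -⟩ :=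
    (D.obj i).isBasis_affineOpens.exists_subset_of_mem_open
      (Set.mem_univ (c.π.app i x')) isOpen_univ
  let p : c.pt ⟶ D.obj i := c.π.app i
  haveI : IsAffineHom p := isAffineHom_π_app D c hc i
  have hU' : IsAffineOpen (p ⁻¹ᵁ V) := hV.preimage p
  have hx' : x' ∈ p ⁻¹ᵁ V := hxV
  letI := c.pt.presheaf.algebra_section_stalk ⟨x', hx'⟩
  haveI := hU'.isLocalization_stalk ⟨x', hx'⟩
  obtain ⟨⟨s, r⟩, hsr⟩ := IsLocalization.surj (hU'.primeIdealOf ⟨x', hx'⟩).asIdeal.primeCompl a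
  have hr : IsUnit (algebraMap Γ(c.pt, p ⁻¹ᵁ V) (c.pt.presheaf.stalk x') r) :=
    IsLocalization.map_units _ r
  have key : ∀ s : Γ(c.pt, p ⁻¹ᵁ V), ∃ j : I,
      algebraMap Γ(c.pt, p ⁻¹ᵁ V) (c.pt.presheaf.stalk x') s ∈
        ((c.π.app j).stalkMap x').hom.range := by
    intro s
    obtain ⟨j, t, h, hst⟩ := exists_appLE_eq D c hc i V hV s
    refine ⟨j.left, ?_⟩
    let q : c.pt ⟶ D.obj j.left := c.π.app j.left
    have hxj : q x' ∈ D.map j.hom ⁻¹ᵁ V := h hx'
    refine ⟨(D.obj j.left).presheaf.germ _ _ hxj t, ?_⟩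
    symm
    rw [hst]
    show c.pt.presheaf.germ _ x' hx' _ = (q.stalkMap x').hom _
    erw [Scheme.Hom.germ_stalkMap_apply]
    simp only [Scheme.Hom.appLE, CommRingCat.comp_apply]
    exact TopCat.Presheaf.germ_res_apply c.pt.presheaf (homOfLE h) x' hx' _
  obtain ⟨j₁, b₁, hb₁⟩ := key s
  obtain ⟨j₂, b₂, hb₂⟩ := key r
  obtain ⟨j, g₁, g₂, -⟩ := IsCofilteredOrEmpty.cone_objs j₁ j₂
  refine ⟨j, ?_⟩
  have h1 := range_stalkMap_le_of_comp (c.π.app j₁) (c.π.app j) (D.map g₁) (c.w _) x' ⟨b₁, hb₁⟩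
  have h2 := range_stalkMap_le_of_comp (c.π.app j₂) (c.π.app j) (D.map g₂) (c.w _) x' ⟨b₂, hb₂⟩
  let q : c.pt ⟶ D.obj j := c.π.app j
  obtain ⟨d₁, hd₁⟩ : algebraMap Γ(c.pt, p ⁻¹ᵁ V) (c.pt.presheaf.stalk x') s ∈
    (q.stalkMap x').hom.range := h1
  obtain ⟨d₂, hd₂⟩ : algebraMap Γ(c.pt, p ⁻¹ᵁ V) (c.pt.presheaf.stalk x') r ∈
    (q.stalkMap x').hom.range := h2
  have hloc : IsLocalHom (q.stalkMap x').hom := inferInstance
  have hd₂u : IsUnit d₂ := by
    apply isUnit_of_map_unit (q.stalkMap x').hom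
    rw [hd₂]
    exact hr
  show a ∈ (q.stalkMap x').hom.range
  refine ⟨d₁ * ↑(hd₂u.unit⁻¹), ?_⟩
  rw [map_mul, hd₁]
  have h3 : (q.stalkMap x').hom ↑(hd₂u.unit⁻¹) *
      algebraMap Γ(c.pt, p ⁻¹ᵁ V) (c.pt.presheaf.stalk x') r = 1 := by
    rw [← hd₂, ← map_mul]
    simp
  have hsr' : a * algebraMap Γ(c.pt, p ⁻¹ᵁ V) (c.pt.presheaf.stalk x') r =
      algebraMap Γ(c.pt, p ⁻¹ᵁ V) (c.pt.presheaf.stalk x') s := hsr
  rw [← hsr', mul_assoc, mul_comm (algebraMap _ _ _), h3, mul_one]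

include hc in
/-- Every element of the residue field at a point of the limit comes from every sufficiently large
finite stage. -/
theorem exists_stage_residueField (x' : c.pt) (a : c.pt.residueField x') :
    ∃ i : I, ∀ (j : I) (_ : j ⟶ i), a ∈ ((c.π.app j).residueFieldMap x').hom.range := by
  obtain ⟨a₀, rfl⟩ := Scheme.residue_surjective c.pt x' a
  obtain ⟨i, b₀, hb₀⟩ := exists_stalkMap_eq D c hc x' a₀
  refine ⟨i, fun j f => ?_⟩
  apply range_residueFieldMap_le_of_comp (c.π.app i) (c.π.app j) (D.map f) (c.w _) x'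
  let q : c.pt ⟶ D.obj i := c.π.app i
  refine ⟨(D.obj i).residue (q x') b₀, ?_⟩
  have h := Scheme.residue_residueFieldMap q x'
  have h' := congrArg (fun φ => φ.hom b₀) h
  simp only [CommRingCat.comp_apply] at h'
  show (q.residueFieldMap x').hom _ = _
  rw [← hb₀]
  exact h'

end Lim

end Groth.Agent.Lib.Helper18.CycDiv
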