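import Mathlib
import Groth.Prelude.Def_Cyc
import Groth.Agent.Lib.Helper18.Cyc.ClosedPush

set_option autoImplicit false
universe u
open AlgebraicGeometry CategoryTheory IsLocalRing

namespace Groth.Agent.Lib.Helper18.CycDiv

/-- splitting a finite-support sum along a predicate -/
theorem finsum_eq_add_subtype {ι : Type*} (P : ι → Prop) (F : ι → ℤ)
    (hF : (Function.support F).Finite) :
    ∑ᶠ j, F j = ∑ᶠ j : {j // P j}, F j.1 + ∑ᶠ j : {j // ¬ P j}, F j.1 := by
  have h1 : ∑ᶠ j : {j // P j}, F j.1 = ∑ᶠ j ∈ {j | P j}, F j :=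
    finsum_set_coe_eq_finsum_mem (f := F) {j | P j}
  have h2 : ∑ᶠ j : {j // ¬ P j}, F j.1 = ∑ᶠ j ∈ {j | ¬ P j}, F j :=
    finsum_set_coe_eq_finsum_mem (f := F) {j | ¬ P j}
  rw [h1, h2, ← finsum_mem_union' (by
      rw [Set.disjoint_left]
      intro j hj hj'
      exact hj' hj) (hF.subset Set.inter_subset_right) (hF.subset Set.inter_subset_right)]
  have : {j | P j} ∪ {j | ¬ P j} = Set.univ := by
    ext j
    simp [em]
  rw [this, finsum_mem_univ]

variable {X Z : Scheme.{u}}

/-- restriction of a cycle along an injective morphism -/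
noncomputable def comapCycle (p : Z ⟶ X) (hinj : Function.Injective p)
    (B : AlgebraicCycle X ℤ) : AlgebraicCycle Z ℤ where
  toFun := fun z => B (p z)
  supportWithinDomain' := Set.subset_univ _
  supportLocallyFiniteWithinDomain' := fun z _ => by
    obtain ⟨t, ht, hfin⟩ := B.locallyFiniteSupport (p z)
    exact ⟨p ⁻¹' t, p.continuous.continuousAt ht,
      (hfin.preimage hinj.injOn).subset (fun y hy => ⟨hy.1, hy.2⟩)⟩

@[simp] theorem comapCycle_apply (p : Z ⟶ X) (hinj : Function.Injective p)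
    (B : AlgebraicCycle X ℤ) (z : Z) : comapCycle p hinj B z = B (p z) := rfl

/-- the finite-support property of a locally finite family of divisors at a point -/
theorem finite_support_divFun_family (δ : X → ℤ) {ι : Type*} (ξ : ι → X)
    (f : (i : ι) → X.residueField (ξ i))
    (hlf : ∀ x : X, ∃ U : Set X, IsOpen U ∧ x ∈ U ∧ {i | (closure {ξ i} ∩ U).Nonempty}.Finite)
    (x : X) : (Function.support fun i => Cyc.divFun δ (ξ i) (f i) x).Finite := by
  obtain ⟨V, -, hxV, hfin⟩ := hlf x
  refine hfin.subset (fun j hj => ⟨x, ?_, hxV⟩)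
  exact (specializes_of_divFun_ne_zero δ (ξ j) (f j) x hj).mem_closure

end Groth.Agent.Lib.Helper18.CycDiv
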