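import Mathlib
import Groth.Prelude.Def_Cyc
import Groth.Agent.Lib.Helper18.Cyc.MVTools
import Groth.Agent.Lib.Helper18.Cyc.DivFinite2

set_option autoImplicit false
universe u
open AlgebraicGeometry CategoryTheory IsLocalRing

namespace Groth.Agent.Lib.Helper18.CycDiv

variable {X : Scheme.{u}}

/-- Mayer–Vietoris exactness for cycles, for an abstract model of the intersection. -/
theorem mv_exact [IsLocallyNoetherian X] (δ : X → ℤ) {X₁ X₂ Y : Scheme.{u}} (i₁ : X₁ ⟶ X)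
    (i₂ : X₂ ⟶ X) [IsClosedImmersion i₁] [IsClosedImmersion i₂]
    (hcov : Set.range ⇑i₁ ∪ Set.range ⇑i₂ = Set.univ) (p₁ : Y ⟶ X₁) (p₂ : Y ⟶ X₂)
    [IsClosedImmersion p₁] [IsClosedImmersion p₂] (hcomm : ∀ z : Y, i₁ (p₁ z) = i₂ (p₂ z))
    (hex : ∀ x₁ x₂, i₁ x₁ = i₂ x₂ → ∃ z, p₁ z = x₁ ∧ p₂ z = x₂) (k : ℤ)
    (α₁ : AlgebraicCycle X₁ ℤ) (α₂ : AlgebraicCycle X₂ ℤ)
    (h₁ : α₁ ∈ Cyc.Zk X₁ (fun x => δ (i₁ x)) k)
    (h : Cyc.RatEquiv δ k (AlgebraicCycle.map i₁ (fun x => δ (i₁ x)) δ α₁)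
      (AlgebraicCycle.map i₂ (fun x => δ (i₂ x)) δ α₂)) :
    ∃ β : AlgebraicCycle Y ℤ, β ∈ Cyc.Zk Y (fun z => δ (i₁ (p₁ z))) k ∧
      Cyc.RatEquiv (fun x => δ (i₁ x)) k α₁
        (AlgebraicCycle.map p₁ (fun z => δ (i₁ (p₁ z))) (fun x => δ (i₁ x)) β) ∧
      Cyc.RatEquiv (fun x => δ (i₂ x)) k α₂
        (AlgebraicCycle.map p₂ (fun z => δ (i₁ (p₁ z))) (fun x => δ (i₂ x)) β) := by
  classical
  obtain ⟨ι, ξ, f, hξk, hf0, hlf, hsum⟩ := h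
  -- closed immersion facts
  have hinj₁ : Function.Injective i₁ := i₁.isClosedEmbedding.injective
  have hinj₂ : Function.Injective i₂ := i₂.isClosedEmbedding.injective
  have hcl₁ : IsClosed (Set.range i₁) := i₁.isClosedEmbedding.isClosed_range
  have hcl₂ : IsClosed (Set.range i₂) := i₂.isClosedEmbedding.isClosed_range
  have hres₁ : ∀ z, Function.Surjective (i₁.residueFieldMap z).hom := fun z =>
    (residueFieldMap_bijective_of_surjective i₁ z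
      (i₁.stalkMap_surjective z)).2
  have hres₂ : ∀ z, Function.Surjective (i₂.residueFieldMap z).hom := fun z =>
    (residueFieldMap_bijective_of_surjective i₂ z
      (i₂.stalkMap_surjective z)).2
  haveI : IsLocallyNoetherian X₁ := LocallyOfFiniteType.isLocallyNoetherian i₁
  haveI : IsLocallyNoetherian X₂ := LocallyOfFiniteType.isLocallyNoetherian i₂
  -- pushforward values
  have hA₁ : ∀ x₁, (AlgebraicCycle.map i₁ (fun x => δ (i₁ x)) δ α₁) (i₁ x₁) = α₁ x₁ :=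
    map_apply_of_injective i₁ hinj₁ hres₁ _ δ (fun _ => rfl) α₁
  have hA₂ : ∀ x₂, (AlgebraicCycle.map i₂ (fun x => δ (i₂ x)) δ α₂) (i₂ x₂) = α₂ x₂ :=
    map_apply_of_injective i₂ hinj₂ hres₂ _ δ (fun _ => rfl) α₂
  have hA₁0 : ∀ x, x ∉ Set.range i₁ →
      (AlgebraicCycle.map i₁ (fun x => δ (i₁ x)) δ α₁) x = 0 :=
    map_apply_of_notMem_range i₁ _ δ α₁
  have hA₂0 : ∀ x, x ∉ Set.range i₂ →
      (AlgebraicCycle.map i₂ (fun x => δ (i₂ x)) δ α₂) x = 0 :=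
    map_apply_of_notMem_range i₂ _ δ α₂
  -- the two index sets
  have hξ₂ : ∀ j : {j : ι // ξ j ∉ Set.range i₁}, ξ j.1 ∈ Set.range i₂ := fun j => by
    have hm : ξ j.1 ∈ Set.range i₁ ∪ Set.range i₂ := hcov ▸ Set.mem_univ _
    rcases hm with hm | hm
    · exact absurd hm j.2
    · exact hm
  choose η₁ hη₁ using fun j : {j : ι // ξ j ∈ Set.range i₁} => j.2
  choose η₂ hη₂ using hξ₂
  let g₁ : ∀ j : {j : ι // ξ j ∈ Set.range i₁}, X₁.residueField (η₁ j) := fun j =>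
    (i₁.residueFieldMap (η₁ j)).hom ((hη₁ j).symm ▸ f j.1)
  let g₂ : ∀ j : {j : ι // ξ j ∉ Set.range i₁}, X₂.residueField (η₂ j) := fun j =>
    (i₂.residueFieldMap (η₂ j)).hom ((hη₂ j).symm ▸ f j.1)
  have hg₁0 : ∀ j, g₁ j ≠ 0 := fun j =>
    (map_ne_zero_iff _ (i₁.residueFieldMap (η₁ j)).hom.injective).2
      (cast_ne_zero _ _ (hf0 j.1))
  have hg₂0 : ∀ j, g₂ j ≠ 0 := fun j =>
    (map_ne_zero_iff _ (i₂.residueFieldMap (η₂ j)).hom.injective).2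
      (cast_ne_zero _ _ (hf0 j.1))
  have hdiv₁ : ∀ (j : {j : ι // ξ j ∈ Set.range i₁}) (x₁ : X₁),
      Cyc.divFun (fun x => δ (i₁ x)) (η₁ j) (g₁ j) x₁ = Cyc.divFun δ (ξ j.1) (f j.1) (i₁ x₁) := by
    intro j x₁
    rw [← divFun_preimmersion i₁ δ (η₁ j) _ x₁]
    exact congrFun (divFun_cast δ (hη₁ j).symm (f j.1)) (i₁ x₁)
  have hdiv₂ : ∀ (j : {j : ι // ξ j ∉ Set.range i₁}) (x₂ : X₂),
      Cyc.divFun (fun x => δ (i₂ x)) (η₂ j) (g₂ j) x₂ = Cyc.divFun δ (ξ j.1) (f j.1) (i₂ x₂) := by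
    intro j x₂
    rw [← divFun_preimmersion i₂ δ (η₂ j) _ x₂]
    exact congrFun (divFun_cast δ (hη₂ j).symm (f j.1)) (i₂ x₂)
  have hδη₁ : ∀ j, δ (i₁ (η₁ j)) = k + 1 := fun j => by rw [hη₁ j]; exact hξk j.1
  have hδη₂ : ∀ j, δ (i₂ (η₂ j)) = k + 1 := fun j => by rw [hη₂ j]; exact hξk j.1
  have hlf₁ : ∀ z : X₁, ∃ V : Set X₁, IsOpen V ∧ z ∈ V ∧
      {j | (closure {η₁ j} ∩ V).Nonempty}.Finite :=
    locallyFinite_comap i₁ ξ η₁ Subtype.val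
      Subtype.val_injective hη₁ hlf
  have hlf₂ : ∀ z : X₂, ∃ V : Set X₂, IsOpen V ∧ z ∈ V ∧
      {j | (closure {η₂ j} ∩ V).Nonempty}.Finite :=
    locallyFinite_comap i₂ ξ η₂ Subtype.val
      Subtype.val_injective hη₂ hlf
  -- the divisor sums
  let D₁ : X₁ → ℤ := fun x₁ => ∑ᶠ j, Cyc.divFun (fun x => δ (i₁ x)) (η₁ j) (g₁ j) x₁
  let D₂ : X₂ → ℤ := fun x₂ => ∑ᶠ j, Cyc.divFun (fun x => δ (i₂ x)) (η₂ j) (g₂ j) x₂
  have hD₁lf : LocallyFiniteSupport D₁ :=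
    locallyFiniteSupport_finsum_divFun'' _ η₁ g₁ hg₁0 hlf₁
  let D₁c : AlgebraicCycle X₁ ℤ :=
    { toFun := D₁
      supportWithinDomain' := Set.subset_univ _
      supportLocallyFiniteWithinDomain' := fun z _ => hD₁lf z }
  have hD₁c : ∀ x, D₁c x = D₁ x := fun _ => rfl
  -- sums on `X`
  let E₁ : X → ℤ := fun x => ∑ᶠ j : {j : ι // ξ j ∈ Set.range i₁}, Cyc.divFun δ (ξ j.1) (f j.1) x
  let E₂ : X → ℤ := fun x => ∑ᶠ j : {j : ι // ξ j ∉ Set.range i₁}, Cyc.divFun δ (ξ j.1) (f j.1) x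
  have hE : ∀ x, (AlgebraicCycle.map i₁ (fun x => δ (i₁ x)) δ α₁) x -
      (AlgebraicCycle.map i₂ (fun x => δ (i₂ x)) δ α₂) x = E₁ x + E₂ x := by
    intro x
    have h1 := hsum x
    rw [Function.locallyFinsuppWithin.coe_sub, Pi.sub_apply] at h1
    rw [h1]
    exact finsum_eq_add_subtype (fun j => ξ j ∈ Set.range i₁)
      (fun j => Cyc.divFun δ (ξ j) (f j) x)
      (finite_support_divFun_family δ ξ f hlf x)
  have hE₁ : ∀ x₁, E₁ (i₁ x₁) = D₁ x₁ := fun x₁ =>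
    finsum_congr (fun j => (hdiv₁ j x₁).symm)
  have hE₂ : ∀ x₂, E₂ (i₂ x₂) = D₂ x₂ := fun x₂ =>
    finsum_congr (fun j => (hdiv₂ j x₂).symm)
  have hE₁0 : ∀ x, x ∉ Set.range i₁ → E₁ x = 0 := by
    intro x hx
    have h0 : ∀ j : {j : ι // ξ j ∈ Set.range i₁}, Cyc.divFun δ (ξ j.1) (f j.1) x = 0 := by
      intro j
      by_contra hne
      exact hx ((specializes_of_divFun_ne_zero δ _ _ x
        hne).mem_closed hcl₁ j.2)
    show ∑ᶠ j : {j : ι // ξ j ∈ Set.range i₁}, Cyc.divFun δ (ξ j.1) (f j.1) x = 0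
    simp only [h0]
    exact finsum_zero
  have hE₂0 : ∀ x, x ∉ Set.range i₂ → E₂ x = 0 := by
    intro x hx
    have h0 : ∀ j : {j : ι // ξ j ∉ Set.range i₁}, Cyc.divFun δ (ξ j.1) (f j.1) x = 0 := by
      intro j
      by_contra hne
      exact hx ((specializes_of_divFun_ne_zero δ _ _ x
        hne).mem_closed hcl₂ ⟨η₂ j, hη₂ j⟩)
    show ∑ᶠ j : {j : ι // ξ j ∉ Set.range i₁}, Cyc.divFun δ (ξ j.1) (f j.1) x = 0
    simp only [h0]
    exact finsum_zero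
  -- the three facts
  have fact1 : ∀ x₁, i₁ x₁ ∉ Set.range i₂ → α₁ x₁ - D₁ x₁ = 0 := by
    intro x₁ hx
    have := hE (i₁ x₁)
    rw [hA₁, hA₂0 _ hx, hE₁, hE₂0 _ hx] at this
    linarith
  have fact1' : ∀ x₂, i₂ x₂ ∉ Set.range i₁ → α₂ x₂ + D₂ x₂ = 0 := by
    intro x₂ hx
    have := hE (i₂ x₂)
    rw [hA₂, hA₁0 _ hx, hE₂, hE₁0 _ hx] at this
    linarith
  have fact2 : ∀ x₁ x₂, i₁ x₁ = i₂ x₂ → α₁ x₁ - D₁ x₁ = α₂ x₂ + D₂ x₂ := by
    intro x₁ x₂ hx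
    have := hE (i₁ x₁)
    rw [hA₁, hE₁] at this
    rw [hx, hA₂, hE₂] at this
    linarith
  -- the cycle on the intersection
  have hinjp₁ : Function.Injective p₁ :=
    p₁.isClosedEmbedding.injective
  have hinjp₂ : Function.Injective p₂ :=
    p₂.isClosedEmbedding.injective
  have hresp₁ : ∀ z, Function.Surjective (p₁.residueFieldMap z).hom := fun z =>
    (residueFieldMap_bijective_of_surjective _ z
      (p₁.stalkMap_surjective z)).2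
  have hresp₂ : ∀ z, Function.Surjective (p₂.residueFieldMap z).hom := fun z =>
    (residueFieldMap_bijective_of_surjective _ z
      (p₂.stalkMap_surjective z)).2
  let β : AlgebraicCycle Y ℤ :=
    comapCycle p₁ hinjp₁ (α₁ - D₁c)
  have hβ : ∀ z, β z = α₁ (p₁ z) - D₁ (p₁ z) := fun z => by
    show (α₁ - D₁c) (p₁ z) = _
    rw [Function.locallyFinsuppWithin.coe_sub, Pi.sub_apply, hD₁c]
  have hcond : ∀ z : Y, i₁ (p₁ z) = i₂ (p₂ z) :=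
    hcomm
  have hp₁ : ∀ x₁, (AlgebraicCycle.map p₁
      (fun z => δ (i₁ (p₁ z))) (fun x => δ (i₁ x)) β) x₁ = α₁ x₁ - D₁ x₁ := by
    intro x₁
    by_cases hx : x₁ ∈ Set.range p₁
    · obtain ⟨z, rfl⟩ := hx
      rw [map_apply_of_injective p₁ hinjp₁ hresp₁
        (fun z => δ (i₁ (p₁ z))) (fun x => δ (i₁ x)) (fun _ => rfl) β z, hβ]
    · rw [map_apply_of_notMem_range _ _ _ β x₁ hx]
      refine (fact1 x₁ ?_).symm
      rintro ⟨x₂, hx₂⟩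
      obtain ⟨z, hz, -⟩ := hex x₁ x₂ hx₂.symm
      exact hx ⟨z, hz⟩
  have hp₂ : ∀ x₂, (AlgebraicCycle.map p₂
      (fun z => δ (i₁ (p₁ z))) (fun x => δ (i₂ x)) β) x₂ = α₂ x₂ + D₂ x₂ := by
    intro x₂
    by_cases hx : x₂ ∈ Set.range p₂
    · obtain ⟨z, rfl⟩ := hx
      rw [map_apply_of_injective p₂ hinjp₂ hresp₂
        (fun z => δ (i₁ (p₁ z))) (fun x => δ (i₂ x))
        (fun z => congrArg δ (hcond z)) β z, hβ]
      exact fact2 _ _ (hcond z)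
    · rw [map_apply_of_notMem_range _ _ _ β x₂ hx]
      refine (fact1' x₂ ?_).symm
      rintro ⟨x₁, hx₁⟩
      obtain ⟨z, -, hz⟩ := hex x₁ x₂ hx₁
      exact hx ⟨z, hz⟩
  refine ⟨β, ?_, ?_, ?_⟩
  · intro z hz
    rw [hβ]
    have h1' : α₁ (p₁ z) = 0 := h₁ _ hz
    have h2' : D₁ (p₁ z) = 0 := by
      have h0 : ∀ j, Cyc.divFun (fun x => δ (i₁ x)) (η₁ j) (g₁ j) (p₁ z) = 0 :=
        fun j => divFun_eq_zero_of_ne _ _ _ _ (by
          show δ (i₁ (p₁ z)) + 1 ≠ δ (i₁ (η₁ j))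
          rw [hδη₁ j]
          intro h
          apply hz
          show δ (i₁ (p₁ z)) = k
          omega)
      show ∑ᶠ j, Cyc.divFun (fun x => δ (i₁ x)) (η₁ j) (g₁ j) (p₁ z) = 0
      simp only [h0]
      exact finsum_zero
    rw [h1', h2']
    simp
  · refine ⟨{j : ι // ξ j ∈ Set.range i₁}, η₁, g₁, hδη₁, hg₁0, hlf₁, ?_⟩
    intro x₁
    rw [Function.locallyFinsuppWithin.coe_sub, Pi.sub_apply, hp₁]
    show α₁ x₁ - (α₁ x₁ - D₁ x₁) = D₁ x₁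
    ring
  · refine ⟨{j : ι // ξ j ∉ Set.range i₁}, η₂, fun j => (g₂ j)⁻¹, hδη₂,
      fun j => inv_ne_zero (hg₂0 j), hlf₂, ?_⟩
    intro x₂
    rw [Function.locallyFinsuppWithin.coe_sub, Pi.sub_apply, hp₂]
    have : ∀ j, Cyc.divFun (fun x => δ (i₂ x)) (η₂ j) (g₂ j)⁻¹ x₂ =
        - Cyc.divFun (fun x => δ (i₂ x)) (η₂ j) (g₂ j) x₂ := fun j =>
      divFun_inv _ _ _ _
    simp only [this]
    rw [finsum_neg_distrib]
    show α₂ x₂ - (α₂ x₂ + D₂ x₂) = - D₂ x₂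
    ring

/-- rational equivalence to zero is stable under negation -/
theorem ratEquivZero_neg (δ : X → ℤ) (k : ℤ) (α : AlgebraicCycle X ℤ)
    (h : Cyc.RatEquivZero δ k α) : Cyc.RatEquivZero δ k (-α) := by
  obtain ⟨ι, ξ, f, h1, h2, h3, h4⟩ := h
  refine ⟨ι, ξ, fun i => (f i)⁻¹, h1, fun i => inv_ne_zero (h2 i), h3, fun x => ?_⟩
  rw [Function.locallyFinsuppWithin.coe_neg, Pi.neg_apply, h4 x]
  simp only [divFun_inv]
  rw [finsum_neg_distrib]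

end Groth.Agent.Lib.Helper18.CycDiv
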