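import Mathlib
import Groth.Prelude.Def_Cyc
import Groth.Agent.Lib.Helper18.Cyc.MVTools

/-!
# Sums of cycles rationally equivalent to zero
-/

set_option autoImplicit false
set_option linter.style.haveILetI false
universe u
open AlgebraicGeometry CategoryTheory

namespace Groth.Agent.Lib.Helper18.CycDiv

theorem finsum_sum_type {ι ι' : Type*} (F : ι ⊕ ι' → ℤ)
    (h1 : (Function.support (fun i => F (Sum.inl i))).Finite)
    (h2 : (Function.support (fun i => F (Sum.inr i))).Finite) :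
    ∑ᶠ i, F i = ∑ᶠ i, F (Sum.inl i) + ∑ᶠ i, F (Sum.inr i) := by
  classical
  rw [finsum_eq_sum_of_support_subset (fun i => F (Sum.inl i)) (s := h1.toFinset) (by simp),
    finsum_eq_sum_of_support_subset (fun i => F (Sum.inr i)) (s := h2.toFinset) (by simp),
    finsum_eq_sum_of_support_subset F (s := h1.toFinset.disjSum h2.toFinset) ?_,
    Finset.sum_disjSum]
  intro i hi
  rw [Function.mem_support] at hi
  rw [Finset.mem_coe]
  cases i with
  | inl i => exact Finset.inl_mem_disjSum.2 ((Set.Finite.mem_toFinset h1).2 hi)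
  | inr i => exact Finset.inr_mem_disjSum.2 ((Set.Finite.mem_toFinset h2).2 hi)

variable {X : Scheme.{u}}

theorem ratEquivZero_add (δ : X → ℤ) (k : ℤ) (α β : AlgebraicCycle X ℤ)
    (hα : Cyc.RatEquivZero δ k α) (hβ : Cyc.RatEquivZero δ k β) :
    Cyc.RatEquivZero δ k (α + β) := by
  obtain ⟨ι, ξ, f, hd, hf, hlf, hsum⟩ := hα
  obtain ⟨ι', ξ', f', hd', hf', hlf', hsum'⟩ := hβ
  refine ⟨ι ⊕ ι', Sum.elim ξ ξ',
    fun i => Sum.rec (motive := fun i => X.residueField (Sum.elim ξ ξ' i)) f f' i, ?_, ?_, ?_, ?_⟩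
  · rintro (i | i)
    · exact hd i
    · exact hd' i
  · rintro (i | i)
    · exact hf i
    · exact hf' i
  · intro x
    obtain ⟨U, hU, hxU, hfin⟩ := hlf x
    obtain ⟨U', hU', hxU', hfin'⟩ := hlf' x
    refine ⟨U ∩ U', hU.inter hU', ⟨hxU, hxU'⟩, ?_⟩
    refine ((hfin.image Sum.inl).union (hfin'.image Sum.inr)).subset ?_
    rintro (i | i) ⟨y, hy1, hy2⟩
    · exact Or.inl ⟨i, ⟨y, hy1, hy2.1⟩, rfl⟩
    · exact Or.inr ⟨i, ⟨y, hy1, hy2.2⟩, rfl⟩
  · intro x
    rw [finsum_sum_type _ (finite_support_divFun_family δ ξ f hlf x)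
      (finite_support_divFun_family δ ξ' f' hlf' x)]
    show α x + β x = _
    rw [hsum x, hsum' x]
    rfl

theorem ratEquivZero_of_eq (δ : X → ℤ) (k : ℤ) (α β : AlgebraicCycle X ℤ)
    (h : ∀ x, α x = β x) (hα : Cyc.RatEquivZero δ k α) : Cyc.RatEquivZero δ k β := by
  obtain ⟨ι, ξ, f, hd, hf, hlf, hsum⟩ := hα
  exact ⟨ι, ξ, f, hd, hf, hlf, fun x => by rw [← h x, hsum x]⟩

end Groth.Agent.Lib.Helper18.CycDiv
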