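import Mathlib
import Groth.Prelude.Def_C1
import Groth.Prelude.Def_Pic
import Groth.Agent.Lib.Helper18.Cyc.C1Core
import Groth.Agent.Lib.Helper18.Cyc.PullDivSum
import Groth.Agent.Lib.Helper24.Cat.StalkDim

/-!
# The order of a nonzerodivisor as a sum over the maximal points
-/

set_option autoImplicit false
set_option linter.style.haveILetI false
open CategoryTheory AlgebraicGeometry IsLocalRing

namespace Groth.Agent.Lib.Helper18.C1Core

universe u

open Groth.Agent.Lib.Helper18.InvStalk Groth.Agent.Lib.Helper18.CycDiv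
open Groth.Agent.Lib.Helper13.StalkSpecLoc Groth.Agent.Lib.Helper18.CycPull

variable {X : Scheme.{u}}

/-- The maximal points (generic points of irreducible components). -/
abbrev MaxIdx (X : Scheme.{u}) : Type u := {ξ : X // ∀ z : X, z ⤳ ξ → z = ξ}

/-- The prime of `O_{X,x}` attached to a maximal point. -/
noncomputable def toPrimeMax (x : X) (ξ : MaxIdx X) : PrimeSpectrum (X.presheaf.stalk x) := by
  classical
  exact if h : ξ.1 ⤳ x then ⟨primeOf h, inferInstance⟩ else closedPoint _

theorem toPrimeMax_eq (x : X) (ξ : MaxIdx X) (h : ξ.1 ⤳ x) :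
    toPrimeMax x ξ = ⟨primeOf h, inferInstance⟩ := by
  unfold toPrimeMax
  rw [dif_pos h]

theorem bijOn_toPrimeMax (x : X) :
    Set.BijOn (toPrimeMax x) {ξ | ξ.1 ⤳ x}
      {q | q.asIdeal ∈ minimalPrimes (X.presheaf.stalk x)} := by
  refine ⟨?_, ?_, ?_⟩
  · intro ξ hξ
    have hξ' : ξ.1 ⤳ x := hξ
    show (toPrimeMax x ξ).asIdeal ∈ minimalPrimes _
    rw [toPrimeMax_eq x ξ hξ']
    show primeOf hξ' ∈ _
    rw [← ker_specMap hξ']
    exact Groth.Agent.Lib.Helper24.LocQuotDim.ker_specMap_mem_minimalPrimes X x ξ.1 hξ' ξ.2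
  · intro ξ hξ ξ' hξ' he
    have h1 : ξ.1 ⤳ x := hξ
    have h2 : ξ'.1 ⤳ x := hξ'
    rw [toPrimeMax_eq x ξ h1, toPrimeMax_eq x ξ' h2] at he
    apply Subtype.ext
    rw [← fromSpecStalk_primeOf h1, ← fromSpecStalk_primeOf h2, he]
  · intro q hq
    have hq' : q.asIdeal ∈ minimalPrimes (X.presheaf.stalk x) := hq
    haveI := q.2
    obtain ⟨ζ, h, hζ⟩ := exists_primeOf_eq x q.asIdeal
    have hmax : ∀ x' : X, x' ⤳ ζ → x' = ζ := by
      intro ζ' hζ'
      have h' : ζ' ⤳ x := hζ'.trans h
      have hle := primeOf_mono h h' hζ'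
      have heq : primeOf h' = primeOf h := by
        apply le_antisymm hle
        rw [hζ]
        exact hq'.2 ⟨inferInstance, bot_le⟩ (hζ ▸ hle)
      rw [← fromSpecStalk_primeOf h', ← fromSpecStalk_primeOf h]
      congr 1
      exact PrimeSpectrum.ext heq
    refine ⟨⟨ζ, hmax⟩, h, ?_⟩
    rw [toPrimeMax_eq x ⟨ζ, hmax⟩ h]
    exact PrimeSpectrum.ext hζ

/-- If the dimension function jumps by at most one above `x`, the local ring at `x` has
dimension at most one. -/
theorem ringKrullDim_stalk_le_one (δ : X → ℤ) (hδ : Cyc.IsDimFun X δ) (x : X)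
    (hub : ∀ y : X, y ⤳ x → δ y ≤ δ x + 1) : ringKrullDim (X.presheaf.stalk x) ≤ 1 := by
  let d : PrimeSpectrum (X.presheaf.stalk x) → ℤ := fun p => - δ (X.fromSpecStalk x p)
  have hmono' : ∀ a b : PrimeSpectrum (X.presheaf.stalk x), a < b → d a < d b := by
    intro a b hab
    have := Groth.Agent.Lib.Helper24.StalkDim.hmono δ hδ x a b hab
    show - δ _ < - δ _
    omega
  have hmono'' : ∀ a b : PrimeSpectrum (X.presheaf.stalk x), a ≤ b → d a ≤ d b := by
    intro a b hab
    rcases eq_or_lt_of_le hab with h | h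
    · rw [h]
    · exact (hmono' a b h).le
  have hle : ∀ p : PrimeSpectrum (X.presheaf.stalk x), p ≤ closedPoint (X.presheaf.stalk x) :=
    fun p => (PrimeSpectrum.le_iff_specializes _ _).2 (specializes_closedPoint p)
  show Order.krullDim _ ≤ _
  unfold Order.krullDim
  apply iSup_le
  intro t
  have h1 := Groth.Agent.Lib.Helper26.CatOrder.length_le_of_mono d hmono' t.length t rfl
  have h3 := hmono'' t.last _ (hle t.last)
  have hb : X.fromSpecStalk x (closedPoint (X.presheaf.stalk x)) = x :=
    Scheme.fromSpecStalk_closedPoint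
  have h4 : d (closedPoint (X.presheaf.stalk x)) = - δ x := by
    show - δ _ = _
    rw [hb]
  have h5 : X.fromSpecStalk x t.head ⤳ x := by
    have : X.fromSpecStalk x t.head ∈ Set.range (X.fromSpecStalk x) := Set.mem_range_self _
    rw [Scheme.range_fromSpecStalk] at this
    exact this
  have h6 := hub _ h5
  have h7 : d t.head = - δ (X.fromSpecStalk x t.head) := rfl
  have : t.length ≤ 1 := by omega
  exact_mod_cast this

/-- A nonunit nonzerodivisor in a one-dimensional Noetherian local ring: no embedded primes. -/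
theorem no_embedded_of_nzd {B : Type u} [CommRing B] [IsNoetherianRing B] [IsLocalRing B]
    (hB : ringKrullDim B ≤ 1) (f : B) (hf : f ∈ nonZeroDivisors B)
    (hfm : f ∈ maximalIdeal B) :
    ∀ p ∈ associatedPrimes B B, p ∈ minimalPrimes B := by
  intro p hp
  have hpp : p.IsPrime := hp.isPrime
  by_contra hmin
  -- `p` is not minimal, so it contains strictly a minimal prime, hence is maximal
  obtain ⟨q, hq, hqp⟩ := Ideal.exists_minimalPrimes_le (show (⊥ : Ideal B) ≤ p from bot_le)
  have hqlt : q < p := lt_of_le_of_ne hqp (fun h => hmin (h ▸ hq))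
  have hpm : p = maximalIdeal B := by
    by_contra hne
    have hlt : p < maximalIdeal B := lt_of_le_of_ne (IsLocalRing.le_maximalIdeal hpp.ne_top) hne
    haveI := hq.1.1
    have h3 : (2 : WithBot ℕ∞) ≤ ringKrullDim B := by
      let s : LTSeries (PrimeSpectrum B) :=
        { length := 2
          toFun := ![⟨q, hq.1.1⟩, ⟨p, hpp⟩, ⟨maximalIdeal B, inferInstance⟩]
          step := by
            intro i
            fin_cases i
            · exact hqlt
            · exact hlt }
      exact Order.LTSeries.length_le_krullDim s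
    have h4 := h3.trans hB
    exact absurd h4 (by decide)
  -- `p = ann b` contains `f`
  obtain ⟨-, b, hb⟩ := isAssociatedPrime_iff.1 hp
  have hfb : f ∈ p := hpm ▸ hfm
  have hb0 : b ≠ 0 := by
    rintro rfl
    apply hpp.ne_top
    rw [hb, eq_top_iff]
    intro r _
    rw [Submodule.mem_colon_singleton]
    simp
  rw [hb, Submodule.mem_colon_singleton, Submodule.mem_bot] at hfb
  exact hb0 ((mem_nonZeroDivisors_iff.1 hf).2 b (by rw [mul_comm]; exact hfb))

theorem eq_one_of_le_one_of_not_le_zero {a : WithBot ℕ∞} (h1 : a ≤ 1) (h0 : ¬ a ≤ 0) : a = 1 := by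
  induction a using WithBot.recBotCoe with
  | bot => exact absurd bot_le h0
  | coe a =>
    induction a using ENat.recTopCoe with
    | top =>
      exfalso
      have h1' : (⊤ : ℕ∞) ≤ 1 := by exact_mod_cast h1
      exact absurd (top_le_iff.1 h1') (by simp)
    | coe n =>
      have h1' : n ≤ 1 := by exact_mod_cast h1
      have h0' : ¬ n ≤ 0 := fun h => h0 (by exact_mod_cast h)
      have : n = 1 := by omega
      rw [this]
      rfl

open Classical in
/-- The order of a nonzerodivisor at a point above which the dimension function jumps by at most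
one, as a sum over the maximal points. -/
theorem ord_eq_finsum_maxIdx [IsLocallyNoetherian X] (δ : X → ℤ) (hδ : Cyc.IsDimFun X δ) (x : X)
    (hub : ∀ y : X, y ⤳ x → δ y ≤ δ x + 1) (f : X.presheaf.stalk x)
    (hf : f ∈ nonZeroDivisors (X.presheaf.stalk x)) :
    ((Ring.ord (X.presheaf.stalk x) f).toNat : ℤ) =
      ∑ᶠ ξ : MaxIdx X,
        ((Module.length (X.presheaf.stalk ξ.1) (X.presheaf.stalk ξ.1)).toNat : ℤ) *
        (if h : ξ.1 ⤳ x ∧ δ x + 1 = δ ξ.1 then
          Cyc.ordAt x ξ.1 h.1 (Cyc.specMap x ξ.1 h.1 f) else 0) := by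
  classical
  by_cases hu : IsUnit f
  · have h1 : Ring.ord (X.presheaf.stalk x) f = 0 := by
      unfold Ring.ord
      rw [Module.length_eq_zero_iff, Submodule.Quotient.subsingleton_iff]
      exact Ideal.span_singleton_eq_top.2 hu
    rw [h1]
    symm
    simp only [ENat.toNat_zero, Nat.cast_zero]
    apply finsum_eq_zero_of_forall_eq_zero
    intro ξ
    split_ifs with h
    · rw [ordAt_eq_zero_of_isUnit h.1 _ hu.unit 1 (by simp), mul_zero]
    · rw [mul_zero]
  · have hfm : f ∈ maximalIdeal (X.presheaf.stalk x) := (mem_maximalIdeal _).2 hu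
    have hle := ringKrullDim_stalk_le_one δ hδ x hub
    have hB : ringKrullDim (X.presheaf.stalk x) = 1 := by
      refine eq_one_of_le_one_of_not_le_zero hle (fun h0 => hu ?_)
      haveI : Ring.KrullDimLE 0 (X.presheaf.stalk x) := (Ring.krullDimLE_iff).2 h0
      haveI : IsArtinianRing (X.presheaf.stalk x) := isArtinianRing_iff_krullDimLE_zero.2 inferInstance
      exact IsArtinianRing.isUnit_of_mem_nonZeroDivisors hf
    have hemb := no_embedded_of_nzd hle f hf hfm
    rw [ord_eq_finsum_cq_Uq hB hemb f hf]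
    have hsupp : Function.support (fun ξ : MaxIdx X =>
        ((Module.length (X.presheaf.stalk ξ.1) (X.presheaf.stalk ξ.1)).toNat : ℤ) *
        (if h : ξ.1 ⤳ x ∧ δ x + 1 = δ ξ.1 then
          Cyc.ordAt x ξ.1 h.1 (Cyc.specMap x ξ.1 h.1 f) else 0)) ⊆ {ξ | ξ.1 ⤳ x} := by
      intro ξ hξ
      by_contra hn
      apply hξ
      show _ * (if h : ξ.1 ⤳ x ∧ δ x + 1 = δ ξ.1 then _ else 0) = 0
      rw [dif_neg (fun h => hn h.1), mul_zero]
    have hR := finsum_mem_inter_support_eq' _ Set.univ {ξ : MaxIdx X | ξ.1 ⤳ x}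
      (fun ξ hξ => ⟨fun _ => hsupp hξ, fun _ => trivial⟩)
    rw [finsum_mem_univ] at hR
    rw [hR]
    symm
    refine finsum_mem_eq_of_bijOn (toPrimeMax x) (bijOn_toPrimeMax x) ?_
    intro ξ hξ
    have hξ' : ξ.1 ⤳ x := hξ
    have hmin : primeOf hξ' ∈ minimalPrimes (X.presheaf.stalk x) := by
      have := (bijOn_toPrimeMax x).mapsTo hξ
      rw [toPrimeMax_eq x ξ hξ'] at this
      exact this
    have hfn : f ∉ primeOf hξ' := fun hmem =>
      Set.disjoint_left.1 (Ideal.disjoint_nonZeroDivisors_of_mem_minimalPrimes hmin) hmem hf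
    have hne : ξ.1 ≠ x := by
      intro he
      apply hfn
      have hinj : Function.Injective (X.fromSpecStalk x) :=
        (X.fromSpecStalk x).isEmbedding.injective
      have h1 : (X.fromSpecStalk x)
          (⟨primeOf hξ', inferInstance⟩ : PrimeSpectrum (X.presheaf.stalk x)) =
          (X.fromSpecStalk x) (closedPoint (X.presheaf.stalk x)) := by
        rw [fromSpecStalk_primeOf hξ', Scheme.fromSpecStalk_closedPoint]
        exact he
      have h2 := congrArg PrimeSpectrum.asIdeal (hinj h1)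
      have h3 : primeOf hξ' = maximalIdeal (X.presheaf.stalk x) := h2
      rw [h3]
      exact hfm
    have hδξ : δ x + 1 = δ ξ.1 := by
      have h1 := (hδ ξ.1 x hξ' hne).1
      have h2 := hub ξ.1 hξ'
      omega
    have hd := krullDimLE_one_locQuot δ hδ hξ' hδξ
    have hc : Cyc.specMap x ξ.1 hξ' f ≠ 0 := by
      intro h0
      apply hfn
      rw [← ker_specMap hξ']
      exact RingHom.mem_ker.2 h0
    rw [dif_pos ⟨hξ', hδξ⟩, ordAt_specMap hξ' hd f hc, toPrimeMax_eq x ξ hξ', cq_primeOf hξ',
      Uq_primeOf hξ' hd f hc]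

end Groth.Agent.Lib.Helper18.C1Core
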