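import Mathlib
import Groth.Prelude.Def_C1
import Groth.Prelude.Def_Pic
import Groth.Agent.Lib.Helper18.Cyc.PullGerm
import Groth.Agent.Lib.Helper18.Cyc.C1Fund
import Groth.Agent.Lib.Helper18.Cyc.ClosedPush
import Groth.Agent.Lib.Helper18.Cyc.DivFamily

/-!
# `c_1(L) ∩ -` and closed immersions
-/

set_option autoImplicit false
set_option linter.style.haveILetI false
open CategoryTheory AlgebraicGeometry IsLocalRing

namespace Groth.Agent.Lib.Helper18.C1Core

universe u

open Groth.Agent.Lib.Helper18.InvStalk Groth.Agent.Lib.Helper18.CycDiv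
open Groth.Agent.Lib.Helper28.PullbackInv

variable {X Z : Scheme.{u}}

/-- Pushforward along a closed immersion preserves rational equivalence to zero. -/
theorem ratEquivZero_push_closedImmersion (i : Z ⟶ X) [IsClosedImmersion i] (δ : X → ℤ) (k : ℤ)
    (ζ : AlgebraicCycle Z ℤ) (h : Cyc.RatEquivZero (fun z => δ (i z)) k ζ)
    (γ : AlgebraicCycle X ℤ) (hγ : ∀ z, γ (i z) = ζ z)
    (hγ0 : ∀ x, x ∉ Set.range i → γ x = 0) : Cyc.RatEquivZero δ k γ := by
  classical
  obtain ⟨ι', η, g, hηk, hg0, hlf, hsum⟩ := h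
  have hind := i.isClosedEmbedding.isEmbedding.isInducing
  have hcl : IsClosed (Set.range i) := i.isClosedEmbedding.isClosed_range
  have hbij : ∀ z, Function.Bijective (i.residueFieldMap z).hom := fun z =>
    residueFieldMap_bijective_of_surjective i z (i.stalkMap_surjective z)
  choose g' hg' using fun j => (hbij (η j)).2 (g j)
  have hrange : ∀ j x, i (η j) ⤳ x → x ∈ Set.range i := fun j x hx =>
    hx.mem_closed hcl ⟨η j, rfl⟩
  refine ⟨ι', fun j => i (η j), g', hηk, ?_, ?_, ?_⟩
  · intro j h0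
    apply hg0 j
    rw [← hg' j, h0, map_zero]
  · intro x
    by_cases hx : x ∈ Set.range i
    · obtain ⟨z, rfl⟩ := hx
      obtain ⟨V, hVo, hzV, hfin⟩ := hlf z
      obtain ⟨U, hUo, hUV⟩ := hind.isOpen_iff.1 hVo
      refine ⟨U, hUo, ?_, hfin.subset ?_⟩
      · have : z ∈ i ⁻¹' U := hUV ▸ hzV
        exact this
      · rintro j ⟨w, hw1, hw2⟩
        have hsp : i (η j) ⤳ w := specializes_iff_mem_closure.2 hw1
        obtain ⟨z', rfl⟩ := hrange j w hsp
        refine ⟨z', specializes_iff_mem_closure.1 (hind.specializes_iff.1 hsp), ?_⟩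
        rw [← hUV]
        exact hw2
    · refine ⟨(Set.range i)ᶜ, hcl.isOpen_compl, hx, ?_⟩
      convert Set.finite_empty
      ext j
      simp only [Set.mem_setOf_eq, Set.mem_empty_iff_false, iff_false, Set.not_nonempty_iff_eq_empty]
      ext w
      simp only [Set.mem_inter_iff, Set.mem_compl_iff, Set.mem_empty_iff_false, iff_false, not_and,
        not_not]
      intro hw
      exact hrange j w (specializes_iff_mem_closure.2 hw)
  · intro x
    by_cases hx : x ∈ Set.range i
    · obtain ⟨z, rfl⟩ := hx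
      rw [hγ z, hsum z]
      apply finsum_congr
      intro j
      rw [divFun_preimmersion i δ (η j) (g' j) z, hg' j]
    · rw [hγ0 x hx]
      symm
      apply finsum_eq_zero_of_forall_eq_zero
      intro j
      unfold Cyc.divFun
      rw [dif_neg]
      intro hc
      exact hx (hrange j x hc.1)

/-- the divisor of a rational section is compatible with closed immersions -/
theorem secDivFun_closedImmersion (i : Z ⟶ X) [IsClosedImmersion i] [IsLocallyNoetherian X]
    [IsLocallyNoetherian Z] (δ : X → ℤ) (hδ : Cyc.IsDimFun X δ) (L : X.Modules)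
    (hL : PicF.IsInvertible L) (y z : Z) (w : Cyc.secFibre L (i y)) (hw : w ≠ 0) :
    Cyc.secDivFun δ L (i y) w (i z) =
      Cyc.secDivFun (fun z => δ (i z)) ((Scheme.Modules.pullback i).obj L) y
        (pullSec i L y w) z := by
  classical
  have hM : PicF.IsInvertible ((Scheme.Modules.pullback i).obj L) := isInvertible_pullback i hL
  have hδZ := isDimFun_comp_of_isClosedImmersion i δ hδ
  have hind : (i y ⤳ i z) ↔ (y ⤳ z) :=
    i.isClosedEmbedding.isEmbedding.isInducing.specializes_iff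
  unfold Cyc.secDivFun
  by_cases hc : y ⤳ z ∧ δ (i z) + 1 = δ (i y)
  · have hc' : i y ⤳ i z ∧ δ (i z) + 1 = δ (i y) := ⟨hind.2 hc.1, hc.2⟩
    rw [dif_pos hc', dif_pos hc]
    obtain ⟨t, ht⟩ := exists_freeGen L hL (i z)
    have hg := freeGen_stalkSpecializes L hL hc'.1 ht.1
    obtain ⟨ψ, rfl⟩ := exists_smul_mk L hg w
    have hψ := residue_ne_zero_of_smul_mk_ne_zero L ψ hw
    have hd' := krullDimLE_one_locQuot δ hδ hc'.1 hc'.2
    have hd := krullDimLE_one_locQuot (fun z => δ (i z)) hδZ hc.1 hc.2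
    have hcomp : Z.residue y ((i.stalkMap y).hom ψ) =
        (i.residueFieldMap y).hom (X.residue (i y) ψ) := by
      have := congrArg (fun φ => (ConcreteCategory.hom φ) ψ) (Scheme.residue_residueFieldMap i y)
      exact this.symm
    have hne : Z.residue y ((i.stalkMap y).hom ψ) ≠ 0 := by
      rw [hcomp]
      exact (map_ne_zero_iff _ (i.residueFieldMap y).hom.injective).2 hψ
    rw [secOrdAt_smul_mk_of_freeGen L hL hc'.1 hd' ht ψ hψ, pullSec_smul_mk i y hg ψ,
      ← pg_stalkSpecializes i L hc.1 hc'.1 t,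
      secOrdAt_smul_mk_of_freeGen _ hM hc.1 hd (freeGen_pg i hL z ht) _ hne, hcomp]
    exact ordAt_map_eq i hc.1 hc'.1 (i.stalkMap_surjective z) (i.stalkMap_surjective y) _
  · have hc' : ¬ (i y ⤳ i z ∧ δ (i z) + 1 = δ (i y)) := fun h => hc ⟨hind.1 h.1, h.2⟩
    rw [dif_neg hc, dif_neg hc']

/-- `c_1(L) ∩ i_* β = i_* (c_1(i^* L) ∩ β)` for a closed immersion `i`, coefficientwise, with the
pulled back rational sections. -/
theorem c1CapFun_closedImmersion (i : Z ⟶ X) [IsClosedImmersion i] [IsLocallyNoetherian X]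
    [IsLocallyNoetherian Z] (δ : X → ℤ) (hδ : Cyc.IsDimFun X δ) (L : X.Modules)
    (hL : PicF.IsInvertible L) (β : Z → ℤ) (β' : X → ℤ) (hβ : ∀ z, β' (i z) = β z)
    (hβ0 : ∀ x, x ∉ Set.range i → β' x = 0) (v : (ξ : X) → Cyc.secFibre L ξ)
    (hv : ∀ ξ, v ξ ≠ 0) :
    (∀ z, Cyc.c1CapFun δ L β' v (i z) =
      Cyc.c1CapFun (fun z => δ (i z)) ((Scheme.Modules.pullback i).obj L) β
        (fun y => pullSec i L y (v (i y))) z) ∧
    (∀ x, x ∉ Set.range i → Cyc.c1CapFun δ L β' v x = 0) := by
  classical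
  have hinj : Function.Injective i := i.isClosedEmbedding.injective
  have hcl : IsClosed (Set.range i) := i.isClosedEmbedding.isClosed_range
  constructor
  · intro z
    show ∑ᶠ ξ : X, β' ξ * Cyc.secDivFun δ L ξ (v ξ) (i z) =
      ∑ᶠ y : Z, β y * Cyc.secDivFun (fun z => δ (i z)) ((Scheme.Modules.pullback i).obj L) y
        (pullSec i L y (v (i y))) z
    have hsupp : ∀ ξ ∈ Function.support (fun ξ : X => β' ξ * Cyc.secDivFun δ L ξ (v ξ) (i z)),
        ξ ∈ (Set.univ : Set X) ↔ ξ ∈ Set.range i := by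
      intro ξ hξ
      refine ⟨fun _ => ?_, fun _ => trivial⟩
      by_contra hn
      apply hξ
      show β' ξ * _ = 0
      rw [hβ0 ξ hn, zero_mul]
    have hR := finsum_mem_inter_support_eq' _ _ _ hsupp
    rw [finsum_mem_univ] at hR
    rw [hR, finsum_mem_range hinj]
    apply finsum_congr
    intro y
    rw [hβ y, secDivFun_closedImmersion i δ hδ L hL y z (v (i y)) (hv (i y))]
  · intro x hx
    show ∑ᶠ ξ : X, β' ξ * Cyc.secDivFun δ L ξ (v ξ) x = 0
    apply finsum_eq_zero_of_forall_eq_zero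
    intro ξ
    by_cases hξ : ξ ∈ Set.range i
    · have : Cyc.secDivFun δ L ξ (v ξ) x = 0 := by
        unfold Cyc.secDivFun
        rw [dif_neg]
        intro hc
        exact hx (hc.1.mem_closed hcl hξ)
      rw [this, mul_zero]
    · rw [hβ0 ξ hξ, zero_mul]

/-- `[Z(s)]_k = c_1(L) ∩ [Y]_{k+1}` (library form of the fundamental computation) -/
theorem zeroSectionFun_eq_c1CapFun (Y : Scheme.{u}) [IsLocallyNoetherian Y] (δ : Y → ℤ)
    (hδ : Cyc.IsDimFun Y δ) (L : Y.Modules) (hL : PicF.IsInvertible L) (k : ℤ)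
    (hdim : ∀ y : Y, δ y ≤ k + 1) (s : L.presheaf.obj (Opposite.op ⊤))
    (hreg : ∀ y : Y, δ y = k →
      Function.Injective (fun a : Y.presheaf.stalk y => a • (L.presheaf.germ ⊤ y trivial) s)) :
    Cyc.zeroSectionFun δ k L s = Cyc.c1CapFun δ L (Cyc.subschemeFun δ (k + 1) (𝟙 Y))
      (fun ξ => Submodule.Quotient.mk ((L.presheaf.germ ⊤ ξ trivial) s)) := by
  classical
  funext x
  have hmaxpt : ∀ ξ : Y, δ ξ = k + 1 → ∀ z : Y, z ⤳ ξ → z = ξ := by
    intro ξ hξ z hz
    by_contra hne
    have h1 := (hδ z ξ hz hne).1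
    have h2 := hdim z
    omega
  show Cyc.zeroSectionFun δ k L s x = ∑ᶠ ξ : Y, Cyc.subschemeFun δ (k + 1) (𝟙 Y) ξ *
    Cyc.secDivFun δ L ξ (Submodule.Quotient.mk ((L.presheaf.germ ⊤ ξ trivial) s)) x
  by_cases hx : δ x = k
  · have ht := exists_span_eq_top L hL x
    have hfree := freeGen_of_span_eq_top L hL (Classical.choose_spec ht)
    have hf : ∃ f : Y.presheaf.stalk x,
        (L.presheaf.germ ⊤ x trivial) s = f • Classical.choose ht := hfree.exists_smul _
    have hL1 : Cyc.zeroSectionFun δ k L s x =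
        ((Ring.ord (Y.presheaf.stalk x) (Classical.choose hf)).toNat : ℤ) := by
      unfold Cyc.zeroSectionFun
      rw [if_pos hx, dif_pos ht, dif_pos hf]
      rfl
    have hnzd : Classical.choose hf ∈ nonZeroDivisors (Y.presheaf.stalk x) := by
      have hinj := hreg x hx
      have key : ∀ a : Y.presheaf.stalk x, a * Classical.choose hf = 0 → a = 0 := by
        intro a ha
        apply hinj
        show a • (L.presheaf.germ ⊤ x trivial) s =
          (0 : Y.presheaf.stalk x) • (L.presheaf.germ ⊤ x trivial) s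
        rw [zero_smul]
        conv_lhs => rw [Classical.choose_spec hf]
        rw [← mul_smul, ha, zero_smul]
      refine mem_nonZeroDivisors_iff.2 ⟨fun a ha => key a (by rw [mul_comm]; exact ha), key⟩
    have hub : ∀ y : Y, y ⤳ x → δ y ≤ δ x + 1 := fun y _ => by rw [hx]; exact hdim y
    rw [hL1, ord_eq_finsum_maxIdx δ hδ x hub _ hnzd]
    rw [finsum_eq_finsum_subtype (fun ξ : Y => Cyc.subschemeFun δ (k + 1) (𝟙 Y) ξ *
        Cyc.secDivFun δ L ξ (Submodule.Quotient.mk ((L.presheaf.germ ⊤ ξ trivial) s)) x)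
      (fun ξ : Y => ∀ z : Y, z ⤳ ξ → z = ξ) (by
        intro ξ hξ
        apply hmaxpt
        by_contra hne
        apply hξ
        show Cyc.subschemeFun δ (k + 1) (𝟙 Y) ξ * _ = 0
        unfold Cyc.subschemeFun
        rw [if_neg hne, zero_mul])]
    apply finsum_congr
    intro ξ
    show _ = Cyc.subschemeFun δ (k + 1) (𝟙 Y) ξ.1 *
        Cyc.secDivFun δ L ξ.1 (Submodule.Quotient.mk ((L.presheaf.germ ⊤ ξ.1 trivial) s)) x
    unfold Cyc.secDivFun
    by_cases h : ξ.1 ⤳ x ∧ δ x + 1 = δ ξ.1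
    · rw [dif_pos h, dif_pos h]
      have hξk : δ ξ.1 = k + 1 := by rw [← h.2, hx]
      have hsub : Cyc.subschemeFun δ (k + 1) (𝟙 Y) ξ.1 =
          ((Module.length (Y.presheaf.stalk ξ.1) (Y.presheaf.stalk ξ.1)).toNat : ℤ) := by
        unfold Cyc.subschemeFun
        rw [if_pos hξk]
        have hset : {z : Y | (𝟙 Y : Y ⟶ Y) z = ξ.1} = {ξ.1} := by
          ext z
          simp
        rw [hset, finsum_mem_singleton]
      rw [hsub]
      congr 1
      have h1 : (L.presheaf.germ ⊤ ξ.1 trivial) s =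
          L.presheaf.stalkSpecializes h.1 (Classical.choose hf • Classical.choose ht) := by
        rw [← Classical.choose_spec hf]
        exact (TopCat.Presheaf.germ_stalkSpecializes_apply L.presheaf (U := ⊤) (y := x)
          (x := ξ.1) trivial h.1 s).symm
      rw [h1, secOrdAt_mk_stalkSpecializes_smul L hL h.1 ht]
    · rw [dif_neg h, dif_neg h, mul_zero, mul_zero]
  · have hL0 : Cyc.zeroSectionFun δ k L s x = 0 := by
      unfold Cyc.zeroSectionFun
      rw [if_neg hx]
    rw [hL0]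
    symm
    apply finsum_eq_zero_of_forall_eq_zero
    intro ξ
    by_cases hξ : δ ξ = k + 1
    · have : Cyc.secDivFun δ L ξ
          (Submodule.Quotient.mk ((L.presheaf.germ ⊤ ξ trivial) s)) x = 0 := by
        unfold Cyc.secDivFun
        rw [dif_neg]
        rintro ⟨-, h2⟩
        apply hx
        omega
      rw [this, mul_zero]
    · have : Cyc.subschemeFun δ (k + 1) (𝟙 Y) ξ = 0 := by
        unfold Cyc.subschemeFun
        rw [if_neg hξ]
      rw [this, zero_mul]

/-- the fundamental cycle of a locally Noetherian scheme in its top dimension has locally finite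
support -/
theorem locallyFiniteSupport_subschemeFun_id (Y : Scheme.{u}) [IsLocallyNoetherian Y] (δ : Y → ℤ)
    (hδ : Cyc.IsDimFun Y δ) (k : ℤ) (hdim : ∀ y : Y, δ y ≤ k + 1) :
    LocallyFiniteSupport (Cyc.subschemeFun δ (k + 1) (𝟙 Y)) := by
  classical
  intro y
  obtain ⟨_, ⟨W, hW, rfl⟩, hyW, -⟩ := Y.isBasis_affineOpens.exists_subset_of_mem_open
    (Set.mem_univ y) isOpen_univ
  have hW' : IsAffineOpen W := hW
  refine ⟨W, W.isOpen.mem_nhds hyW, ?_⟩
  haveI : IsNoetherianRing Γ(Y, W) := IsLocallyNoetherian.component_noetherian ⟨W, hW'⟩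
  haveI : TopologicalSpace.NoetherianSpace ↥W := noetherianSpace_of_isAffineOpen W hW'
  haveI : QuasiSober ↥W := W.isOpenEmbedding'.quasiSober
  have hfin := finite_maximal_points_of_isClosed (N := ↥W) (T := Set.univ) isClosed_univ
  refine ((hfin.image Subtype.val)).subset ?_
  rintro z ⟨hzW, hz⟩
  have hzk : δ z = k + 1 := by
    by_contra hne
    apply hz
    unfold Cyc.subschemeFun
    rw [if_neg hne]
  refine ⟨⟨z, hzW⟩, ⟨trivial, ?_⟩, rfl⟩
  intro z' _ hz'
  have hsp : z'.1 ⤳ z := hz'.map continuous_subtype_val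
  apply Subtype.ext
  by_contra hne
  have h1 := (hδ z'.1 z hsp hne).1
  have h2 := hdim z'.1
  omega

/-- restriction of a cycle along an injective continuous map has locally finite support -/
theorem locallyFiniteSupport_cycle_comp_of_injective (i : Z ⟶ X) (hinj : Function.Injective i)
    (γ : AlgebraicCycle X ℤ) : LocallyFiniteSupport (fun z => γ (i z)) := by
  intro z
  obtain ⟨t, ht, hfin⟩ := γ.supportLocallyFiniteWithinDomain (i z) (Set.mem_univ _)
  refine ⟨i ⁻¹' t, i.continuous.continuousAt ht, ?_⟩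
  refine (hfin.preimage hinj.injOn).subset ?_
  rintro w ⟨hw1, hw2⟩
  exact ⟨hw1, hw2⟩

end Groth.Agent.Lib.Helper18.C1Core
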