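import Mathlib
import Groth.Prelude.Def_Cyc
import Groth.Agent.Lib.Helper18.Cyc.MVTools
import Groth.Agent.Lib.Helper18.Cyc.C1Closed

/-!
# Presentations of functions as locally finite sums of principal divisors, with control on the
supports
-/

set_option autoImplicit false
set_option linter.style.haveILetI false
universe u
open AlgebraicGeometry CategoryTheory

namespace Groth.Agent.Lib.Helper18.CycDiv

theorem finsum_sigma' {ι : Type*} {J : ι → Type*} (F : (Σ i, J i) → ℤ)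
    (hF : (Function.support F).Finite) :
    ∑ᶠ p, F p = ∑ᶠ i, ∑ᶠ j, F ⟨i, j⟩ := by
  classical
  have h1 : ∀ i, (Function.support fun j => F ⟨i, j⟩).Finite := fun i =>
    hF.preimage (sigma_mk_injective.injOn)
  have hsub : Function.support F ⊆
      ↑((hF.toFinset.image Sigma.fst).sigma (fun i => (h1 i).toFinset)) := by
    rintro ⟨i, j⟩ hp
    rw [Finset.mem_coe, Finset.mem_sigma]
    refine ⟨Finset.mem_image.2 ⟨⟨i, j⟩, (Set.Finite.mem_toFinset hF).2 hp, rfl⟩, ?_⟩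
    exact (Set.Finite.mem_toFinset (h1 i)).2 hp
  have hsub2 : (Function.support fun i => ∑ᶠ j, F ⟨i, j⟩) ⊆
      ↑(hF.toFinset.image Sigma.fst) := by
    intro i hi
    rw [Function.mem_support] at hi
    obtain ⟨j, hj⟩ : ∃ j, F ⟨i, j⟩ ≠ 0 := by
      by_contra hcon
      push_neg at hcon
      exact hi (finsum_eq_zero_of_forall_eq_zero hcon)
    rw [Finset.mem_coe]
    exact Finset.mem_image.2 ⟨⟨i, j⟩, (Set.Finite.mem_toFinset hF).2 hj, rfl⟩
  rw [finsum_eq_sum_of_support_subset F hsub, Finset.sum_sigma,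
    finsum_eq_sum_of_support_subset _ hsub2]
  apply Finset.sum_congr rfl
  intro i _
  rw [finsum_eq_sum_of_support_subset (fun j => F ⟨i, j⟩) (s := (h1 i).toFinset) (by simp)]

variable {X : Scheme.{u}}

/-- a presentation of `F` as a locally finite sum of principal divisors on subvarieties with
generic points in `S` -/
def RatPres (δ : X → ℤ) (k : ℤ) (F : X → ℤ) (S : Set X) : Prop :=
  ∃ (ι : Type u) (ξ : ι → X) (f : (i : ι) → X.residueField (ξ i)),
    (∀ i, δ (ξ i) = k + 1) ∧ (∀ i, f i ≠ 0) ∧ (∀ i, ξ i ∈ S) ∧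
    (∀ x : X, ∃ U : Set X, IsOpen U ∧ x ∈ U ∧ {i | (closure {ξ i} ∩ U).Nonempty}.Finite) ∧
    ∀ x : X, F x = ∑ᶠ i, Cyc.divFun δ (ξ i) (f i) x

theorem RatPres.ratEquivZero {δ : X → ℤ} {k : ℤ} {S : Set X} (γ : AlgebraicCycle X ℤ)
    (h : RatPres δ k ⇑γ S) : Cyc.RatEquivZero δ k γ := by
  obtain ⟨ι, ξ, f, h1, h2, -, h3, h4⟩ := h
  exact ⟨ι, ξ, f, h1, h2, h3, h4⟩

theorem ratPres_of_ratEquivZero {δ : X → ℤ} {k : ℤ} (γ : AlgebraicCycle X ℤ)
    (h : Cyc.RatEquivZero δ k γ) : RatPres δ k ⇑γ Set.univ := by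
  obtain ⟨ι, ξ, f, h1, h2, h3, h4⟩ := h
  exact ⟨ι, ξ, f, h1, h2, fun _ => trivial, h3, h4⟩

theorem RatPres.congr {δ : X → ℤ} {k : ℤ} {S : Set X} {F F' : X → ℤ}
    (h : RatPres δ k F S) (hF : ∀ x, F x = F' x) : RatPres δ k F' S := by
  obtain ⟨ι, ξ, f, h1, h2, hS, h3, h4⟩ := h
  exact ⟨ι, ξ, f, h1, h2, hS, h3, fun x => by rw [← hF x, h4 x]⟩

theorem RatPres.mono {δ : X → ℤ} {k : ℤ} {S S' : Set X} {F : X → ℤ}
    (h : RatPres δ k F S) (hS' : S ⊆ S') : RatPres δ k F S' := by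
  obtain ⟨ι, ξ, f, h1, h2, hS, h3, h4⟩ := h
  exact ⟨ι, ξ, f, h1, h2, fun i => hS' (hS i), h3, h4⟩

theorem RatPres.locallyFiniteSupport [IsLocallyNoetherian X] {δ : X → ℤ} {k : ℤ} {S : Set X}
    {F : X → ℤ} (h : RatPres δ k F S) : LocallyFiniteSupport F := by
  obtain ⟨ι, ξ, f, h1, h2, hS, h3, h4⟩ := h
  have := locallyFiniteSupport_finsum_divFun'' δ ξ f h2 h3
  have hF : F = fun x => ∑ᶠ i, Cyc.divFun δ (ξ i) (f i) x := funext h4
  rw [hF]
  exact this

open Groth.Agent.Lib.Helper18.C1Core in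
/-- Pushforward along a closed immersion of a presentation. -/
theorem ratPres_push_closedImmersion {Z : Scheme.{u}} (i : Z ⟶ X) [IsClosedImmersion i]
    (δ : X → ℤ) (k : ℤ) (G : Z → ℤ) (h : RatPres (fun z => δ (i z)) k G Set.univ)
    (F : X → ℤ) (hF : ∀ z, F (i z) = G z)
    (hF0 : ∀ x, x ∉ Set.range i → F x = 0) : RatPres δ k F (Set.range i) := by
  classical
  obtain ⟨ι', η, g, hηk, hg0, -, hlf, hsum⟩ := h
  have hind := i.isClosedEmbedding.isEmbedding.isInducing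
  have hcl : IsClosed (Set.range i) := i.isClosedEmbedding.isClosed_range
  have hbij : ∀ z, Function.Bijective (i.residueFieldMap z).hom := fun z =>
    residueFieldMap_bijective_of_surjective i z (i.stalkMap_surjective z)
  choose g' hg' using fun j => (hbij (η j)).2 (g j)
  have hrange : ∀ j x, i (η j) ⤳ x → x ∈ Set.range i := fun j x hx =>
    hx.mem_closed hcl ⟨η j, rfl⟩
  refine ⟨ι', fun j => i (η j), g', hηk, ?_, fun j => ⟨η j, rfl⟩, ?_, ?_⟩
  · intro j h0
    apply hg0 j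
    rw [← hg' j, h0, map_zero]
  · intro x
    by_cases hx : x ∈ Set.range i
    · obtain ⟨z, rfl⟩ := hx
      obtain ⟨V, hVo, hzV, hfin⟩ := hlf z
      obtain ⟨U, hUo, hUV⟩ := hind.isOpen_iff.1 hVo
      refine ⟨U, hUo, ?_, hfin.subset ?_⟩
      · have : z ∈ i ⁻¹' U := hUV ▸ hzV
        exact this
      · rintro j ⟨w, hw1, hw2⟩
        have hsp : i (η j) ⤳ w := specializes_iff_mem_closure.2 hw1
        obtain ⟨z', rfl⟩ := hrange j w hsp
        refine ⟨z', specializes_iff_mem_closure.1 (hind.specializes_iff.1 hsp), ?_⟩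
        rw [← hUV]
        exact hw2
    · refine ⟨(Set.range i)ᶜ, hcl.isOpen_compl, hx, ?_⟩
      convert Set.finite_empty
      ext j
      simp only [Set.mem_setOf_eq, Set.mem_empty_iff_false, iff_false, Set.not_nonempty_iff_eq_empty]
      ext w
      simp only [Set.mem_inter_iff, Set.mem_compl_iff, Set.mem_empty_iff_false, iff_false, not_and,
        not_not]
      intro hw
      exact hrange j w (specializes_iff_mem_closure.2 hw)
  · intro x
    by_cases hx : x ∈ Set.range i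
    · obtain ⟨z, rfl⟩ := hx
      rw [hF z, hsum z]
      apply finsum_congr
      intro j
      rw [divFun_preimmersion i δ (η j) (g' j) z, hg' j]
    · rw [hF0 x hx]
      symm
      apply finsum_eq_zero_of_forall_eq_zero
      intro j
      unfold Cyc.divFun
      rw [dif_neg]
      intro hc
      exact hx (hrange j x hc.1)

/-- locally finite sums of presentations -/
theorem ratPres_finsum {δ : X → ℤ} {k : ℤ} {ι : Type u} (S : ι → Set X)
    (hS : ∀ i, IsClosed (S i))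
    (hlf : ∀ x : X, ∃ U : Set X, IsOpen U ∧ x ∈ U ∧ {i | (S i ∩ U).Nonempty}.Finite)
    (F : ι → X → ℤ) (h : ∀ i, RatPres δ k (F i) (S i)) :
    RatPres δ k (fun x => ∑ᶠ i, F i x) (⋃ i, S i) := by
  classical
  choose J η g hηk hg0 hηS hlfJ hsum using h
  have hcl : ∀ i j, closure ({η i j} : Set X) ⊆ S i := fun i j =>
    (hS i).closure_subset_iff.2 (Set.singleton_subset_iff.2 (hηS i j))
  have hLF : ∀ x : X, ∃ U : Set X, IsOpen U ∧ x ∈ U ∧
      {p : Σ i, J i | (closure {η p.1 p.2} ∩ U).Nonempty}.Finite := by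
    intro x
    obtain ⟨U₀, hU₀, hxU₀, hfin₀⟩ := hlf x
    choose V hVo hxV hVfin using fun i => hlfJ i x
    refine ⟨U₀ ∩ ⋂ i ∈ hfin₀.toFinset, V i, ?_, ⟨hxU₀, ?_⟩, ?_⟩
    · exact hU₀.inter (isOpen_biInter_finset fun i _ => hVo i)
    · exact Set.mem_iInter₂.2 fun i _ => hxV i
    · have hfinU : (⋃ i ∈ hfin₀.toFinset, (Sigma.mk i) '' {j | (closure {η i j} ∩ V i).Nonempty}
          ).Finite :=
        Set.Finite.biUnion (Finset.finite_toSet _) fun i _ => (hVfin i).image _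
      refine hfinU.subset ?_
      rintro ⟨i, j⟩ ⟨y, hy1, hy2, hy3⟩
      have hi : i ∈ hfin₀.toFinset := by
        rw [Set.Finite.mem_toFinset]
        exact ⟨y, hcl i j hy1, hy2⟩
      refine Set.mem_iUnion₂.2 ⟨i, hi, ⟨j, ⟨y, hy1, ?_⟩, rfl⟩⟩
      exact Set.mem_iInter₂.1 hy3 i hi
  refine ⟨Σ i, J i, fun p => η p.1 p.2, fun p => g p.1 p.2, fun p => hηk p.1 p.2,
    fun p => hg0 p.1 p.2, fun p => Set.mem_iUnion.2 ⟨p.1, hηS p.1 p.2⟩, hLF, ?_⟩
  intro x
  have hfin := finite_support_divFun_family δ (fun p : Σ i, J i => η p.1 p.2)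
    (fun p => g p.1 p.2) hLF x
  rw [finsum_sigma' _ hfin]
  apply finsum_congr
  intro i
  exact hsum i x

end Groth.Agent.Lib.Helper18.CycDiv
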