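import Mathlib
import Groth.Prelude.Def_Cyc
import Groth.Agent.Lib.Helper18.Cyc.RatPres
import Groth.Agent.Lib.Helper18.Cyc.RatAdd
import Groth.Agent.Lib.Helper18.Cyc.C1Unit

/-!
# More operations on presentations: pullback to a closed subscheme, sums, negatives
-/

set_option autoImplicit false
set_option linter.style.haveILetI false
universe u
open AlgebraicGeometry CategoryTheory

namespace Groth.Agent.Lib.Helper18.CycDiv

open Groth.Agent.Lib.Helper18.C1Core

variable {X : Scheme.{u}}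

/-- a presentation supported in the image of a closed immersion restricts -/
theorem ratPres_pull_closedImmersion {Z : Scheme.{u}} (i : Z ⟶ X) [IsClosedImmersion i]
    (δ : X → ℤ) (k : ℤ) (F : X → ℤ) (S : Set X) (hS : S ⊆ Set.range i)
    (h : RatPres δ k F S) : RatPres (fun z => δ (i z)) k (fun z => F (i z)) Set.univ := by
  classical
  obtain ⟨ι, ξ, f, h1, h2, hS', h3, h4⟩ := h
  choose d hd using fun j => hS (hS' j)
  refine ⟨ι, d, fun j => (i.residueFieldMap (d j)).hom ((hd j).symm ▸ f j), ?_, ?_,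
    fun _ => trivial, ?_, ?_⟩
  · intro j
    show δ (i (d j)) = k + 1
    rw [hd j]
    exact h1 j
  · intro j
    exact (map_ne_zero_iff _ (i.residueFieldMap (d j)).hom.injective).2
      (cast_ne_zero (hd j).symm (f j) (h2 j))
  · intro z
    obtain ⟨U, hUo, hzU, hfin⟩ := h3 (i z)
    refine ⟨i ⁻¹' U, hUo.preimage i.continuous, hzU, hfin.subset ?_⟩
    rintro j ⟨y, hy1, hy2⟩
    refine ⟨i y, ?_, hy2⟩
    have hsp : d j ⤳ y := specializes_iff_mem_closure.2 hy1
    have := hsp.map i.continuous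
    rw [hd j] at this
    exact this.mem_closure
  · intro z
    show F (i z) = _
    rw [h4 (i z)]
    apply finsum_congr
    intro j
    rw [← divFun_preimmersion i δ (d j) ((hd j).symm ▸ f j) z, divFun_cast δ (hd j).symm (f j)]

/-- sums of presentations -/
theorem RatPres.add {δ : X → ℤ} {k : ℤ} {S S' : Set X} {F F' : X → ℤ}
    (h : RatPres δ k F S) (h' : RatPres δ k F' S') :
    RatPres δ k (fun x => F x + F' x) (S ∪ S') := by
  obtain ⟨ι, ξ, f, hd, hf, hS, hlf, hsum⟩ := h
  obtain ⟨ι', ξ', f', hd', hf', hS', hlf', hsum'⟩ := h'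
  refine ⟨ι ⊕ ι', Sum.elim ξ ξ',
    fun i => Sum.rec (motive := fun i => X.residueField (Sum.elim ξ ξ' i)) f f' i,
    ?_, ?_, ?_, ?_, ?_⟩
  · rintro (i | i)
    · exact hd i
    · exact hd' i
  · rintro (i | i)
    · exact hf i
    · exact hf' i
  · rintro (i | i)
    · exact Or.inl (hS i)
    · exact Or.inr (hS' i)
  · intro x
    obtain ⟨U, hU, hxU, hfin⟩ := hlf x
    obtain ⟨U', hU', hxU', hfin'⟩ := hlf' x
    refine ⟨U ∩ U', hU.inter hU', ⟨hxU, hxU'⟩, ?_⟩
    refine ((hfin.image Sum.inl).union (hfin'.image Sum.inr)).subset ?_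
    rintro (i | i) ⟨y, hy1, hy2⟩
    · exact Or.inl ⟨i, ⟨y, hy1, hy2.1⟩, rfl⟩
    · exact Or.inr ⟨i, ⟨y, hy1, hy2.2⟩, rfl⟩
  · intro x
    rw [finsum_sum_type _ (finite_support_divFun_family δ ξ f hlf x)
      (finite_support_divFun_family δ ξ' f' hlf' x)]
    show F x + F' x = _
    rw [hsum x, hsum' x]
    rfl

/-- integer multiples of presentations -/
theorem RatPres.zsmul' {δ : X → ℤ} {k : ℤ} {S : Set X} {F : X → ℤ} (h : RatPres δ k F S)
    (n : ℤ) : RatPres δ k (fun x => n * F x) S := by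
  obtain ⟨ι, ξ, f, h1, h2, hS, h3, h4⟩ := h
  refine ⟨ι, ξ, fun i => f i ^ n, h1, fun i => zpow_ne_zero n (h2 i), hS, h3, fun x => ?_⟩
  show n * F x = ∑ᶠ i, Cyc.divFun δ (ξ i) (f i ^ n) x
  rw [h4 x, mul_finsum]
  apply finsum_congr
  intro i
  rw [divFun_zpow]

/-- negatives of presentations -/
theorem RatPres.neg {δ : X → ℤ} {k : ℤ} {S : Set X} {F : X → ℤ} (h : RatPres δ k F S) :
    RatPres δ k (fun x => - F x) S :=
  (h.zsmul' (-1)).congr fun x => by ring

/-- differences of presentations -/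
theorem RatPres.sub {δ : X → ℤ} {k : ℤ} {S S' : Set X} {F F' : X → ℤ}
    (h : RatPres δ k F S) (h' : RatPres δ k F' S') :
    RatPres δ k (fun x => F x - F' x) (S ∪ S') :=
  (h.add h'.neg).congr fun x => by ring

end Groth.Agent.Lib.Helper18.CycDiv
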