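import Mathlib
import Groth.Prelude.Def_Cyc
import Groth.Agent.Lib.Helper18.Cyc.DivFamily
import Groth.Agent.Lib.Helper13.StalkSpecLoc
import Groth.Agent.Lib.Helper21.CatKit
import Groth.Agent.Lib.Helper18.Cyc.DivFinite2

set_option autoImplicit false
universe u
open AlgebraicGeometry CategoryTheory IsLocalRing Order

namespace Groth.Agent.Lib.Helper18.CycDiv

open Groth.Agent.Lib.Helper7 Groth.Agent.Lib.Helper13.StalkSpecLoc Groth.Agent.Lib.Helper21

variable {X : Scheme.{u}}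

/-- The points of an affine open at which a nonzero rational function on the closure of `ξ` is
not a quotient of local units, and where the closure of `ξ` has dimension one, are finite. -/
theorem finite_inter_nonunit [IsLocallyNoetherian X] (ξ : X)
    (f : X.residueField ξ) (hf : f ≠ 0) (W : X.Opens) (hW : IsAffineOpen W) :
    {x : X | x ∈ W ∧ ∃ h : ξ ⤳ x, Ring.KrullDimLE 1 (Cyc.LocQuot x ξ h) ∧
      ¬ ∃ ua ub : (X.presheaf.stalk x)ˣ,
        f * Cyc.specMap x ξ h ub = Cyc.specMap x ξ h ua}.Finite := by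
  by_cases hξW : ξ ∈ W
  swap
  · convert Set.finite_empty
    ext x
    simp only [Set.mem_setOf_eq, Set.mem_empty_iff_false, iff_false, not_and]
    rintro hxW ⟨h, -⟩
    exact hξW (h.mem_open W.isOpen hxW)
  haveI : IsNoetherianRing Γ(X, W) := IsLocallyNoetherian.component_noetherian ⟨W, hW⟩
  -- write `f` as a quotient of sections
  obtain ⟨a, b, hb, hfab⟩ : ∃ a b : Γ(X, W), X.evaluation W ξ hξW b ≠ 0 ∧
      f * X.evaluation W ξ hξW b = X.evaluation W ξ hξW a := by
    obtain ⟨s, rfl⟩ := IsLocalRing.residue_surjective f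
    letI := X.presheaf.algebra_section_stalk ⟨ξ, hξW⟩
    haveI := hW.isLocalization_stalk ⟨ξ, hξW⟩
    obtain ⟨⟨a, b⟩, hab⟩ := IsLocalization.surj (hW.primeIdealOf ⟨ξ, hξW⟩).asIdeal.primeCompl s
    refine ⟨a, b, ?_, ?_⟩
    · rw [Scheme.evaluation_ne_zero_iff_mem_basicOpen]
      by_contra hcon
      exact b.2 ((AffPts.mem_primeIdealOf_iff hW ⟨ξ, hξW⟩ b.1).2 hcon)
    · have := congrArg (IsLocalRing.residue (X.presheaf.stalk ξ)) hab
      rw [map_mul] at this
      exact this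
  have ha : X.evaluation W ξ hξW a ≠ 0 := by
    rw [← hfab]
    exact mul_ne_zero hf hb
  set P := (hW.primeIdealOf ⟨ξ, hξW⟩).asIdeal with hP
  have haP : a ∉ P := fun h => by
    rw [Scheme.evaluation_ne_zero_iff_mem_basicOpen] at ha
    exact (AffPts.mem_primeIdealOf_iff hW ⟨ξ, hξW⟩ a).1 h ha
  have hbP : b ∉ P := fun h => by
    rw [Scheme.evaluation_ne_zero_iff_mem_basicOpen] at hb
    exact (AffPts.mem_primeIdealOf_iff hW ⟨ξ, hξW⟩ b).1 h hb
  -- the finite set of candidate primes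
  set M : Set (Ideal Γ(X, W)) := (P ⊔ Ideal.span {a}).minimalPrimes ∪
    (P ⊔ Ideal.span {b}).minimalPrimes with hM
  have hMfin : M.Finite :=
    (Ideal.finite_minimalPrimes_of_isNoetherianRing _ _).union
      (Ideal.finite_minimalPrimes_of_isNoetherianRing _ _)
  have hMfin' : {q : PrimeSpectrum Γ(X, W) | q.asIdeal ∈ M}.Finite :=
    hMfin.preimage (fun q _ q' _ h => PrimeSpectrum.ext h)
  have hSfin : {x : ↥W | (hW.primeIdealOf x) ∈ {q : PrimeSpectrum Γ(X, W) | q.asIdeal ∈ M}}.Finite :=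
    hMfin'.preimage (fun x _ x' _ h => AffPts.primeIdealOf_injective hW h)
  refine (hSfin.image Subtype.val).subset ?_
  rintro x ⟨hxW, hsp, hK, hx'⟩
  refine ⟨⟨x, hxW⟩, ?_, rfl⟩
  show (hW.primeIdealOf ⟨x, hxW⟩).asIdeal ∈ M
  set Q := (hW.primeIdealOf ⟨x, hxW⟩).asIdeal with hQ
  have hPQ : P ≤ Q := (AffPts.primeIdealOf_le_iff hW ⟨ξ, hξW⟩ ⟨x, hxW⟩).2 hsp
  -- one of `a`, `b` lies in `Q`
  have hab : a ∈ Q ∨ b ∈ Q := by
    by_contra hcon
    push_neg at hcon
    have hua : IsUnit (X.presheaf.germ W x hxW a) := by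
      rw [← Scheme.mem_basicOpen]
      by_contra h
      exact hcon.1 ((AffPts.mem_primeIdealOf_iff hW ⟨x, hxW⟩ a).2 h)
    have hub : IsUnit (X.presheaf.germ W x hxW b) := by
      rw [← Scheme.mem_basicOpen]
      by_contra h
      exact hcon.2 ((AffPts.mem_primeIdealOf_iff hW ⟨x, hxW⟩ b).2 h)
    apply hx'
    refine ⟨hua.unit, hub.unit, ?_⟩
    rw [IsUnit.unit_spec, IsUnit.unit_spec, specMap_germ hsp W hxW, specMap_germ hsp W hxW]
    exact hfab
  -- minimality
  have key : ∀ c : Γ(X, W), c ∉ P → c ∈ Q → Q ∈ (P ⊔ Ideal.span {c}).minimalPrimes := by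
    intro c hcP hcQ
    have hle : P ⊔ Ideal.span {c} ≤ Q :=
      sup_le hPQ ((Ideal.span_singleton_le_iff_mem _).2 hcQ)
    refine ⟨⟨(hW.primeIdealOf ⟨x, hxW⟩).isPrime, hle⟩, ?_⟩
    rintro P' ⟨hP'prime, hP'le⟩ hP'Q
    obtain ⟨z, hz⟩ := AffPts.primeIdealOf_surjective hW ⟨P', hP'prime⟩
    have hzP' : (hW.primeIdealOf z).asIdeal = P' := congrArg PrimeSpectrum.asIdeal hz
    have hξz : ξ ⤳ (z : X) := by
      rw [← AffPts.primeIdealOf_le_iff hW ⟨ξ, hξW⟩ z]
      show P ≤ (hW.primeIdealOf z).asIdeal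
      rw [hzP']
      exact le_trans le_sup_left hP'le
    have hzx : (z : X) ⤳ x := by
      rw [← AffPts.primeIdealOf_le_iff hW z ⟨x, hxW⟩]
      show (hW.primeIdealOf z).asIdeal ≤ Q
      rw [hzP']
      exact hP'Q
    have hξne : ξ ≠ (z : X) := by
      intro h
      apply hcP
      have : c ∈ P' := hP'le (Ideal.mem_sup_right (Ideal.mem_span_singleton_self c))
      rw [← hzP'] at this
      have h2 : z = ⟨ξ, hξW⟩ := Subtype.ext h.symm
      rw [h2] at this
      exact this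
    have hzx' : (z : X) = x := eq_of_between hsp hK z hξz hzx hξne
    have h2 : z = ⟨x, hxW⟩ := Subtype.ext hzx'
    rw [← hzP', h2]
  rcases hab with h | h
  · exact Or.inl (key a haP h)
  · exact Or.inr (key b hbP h)



end Groth.Agent.Lib.Helper18.CycDiv
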