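import Mathlib
import Groth.Prelude.Def_C1
import Groth.Prelude.Def_Pic
import Groth.Agent.Lib.Helper18.Cyc.C1Sec
import Groth.Agent.Lib.Helper18.Cyc.LocQuotFrac
import Groth.Agent.Lib.Helper18.Cyc.DivFinite3
import Groth.Agent.Lib.Helper18.Cyc.OrdTransfer

/-!
# The function field of an integral scheme as the fraction field of its local rings
-/

set_option autoImplicit false
set_option linter.style.haveILetI false
set_option linter.unusedSectionVars false
universe u
open AlgebraicGeometry CategoryTheory IsLocalRing

namespace Groth.Agent.Lib.Helper18.KeyGeo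

open Groth.Agent.Lib.Helper18.CycDiv

variable {X : Scheme.{u}} [IsIntegral X]

/-- `O_{X,x} → κ(η)`, `η` the generic point. -/
noncomputable def toK (x : X) : X.presheaf.stalk x →+* X.residueField (genericPoint X) :=
  Cyc.specMap x (genericPoint X) (genericPoint_specializes x)

theorem toK_injective (x : X) : Function.Injective (toK x) := by
  rw [injective_iff_map_eq_zero]
  intro a ha
  have hk := ker_specMap_eq_bot (genericPoint_specializes x) rfl
  have hmem : a ∈ RingHom.ker (Cyc.specMap x (genericPoint X) (genericPoint_specializes x)) := ha
  rw [hk] at hmem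
  exact (Submodule.mem_bot _).1 hmem

theorem toK_comp {ξ x : X} (h : ξ ⤳ x) (a : X.presheaf.stalk x) :
    toK ξ (X.presheaf.stalkSpecializes h a) = toK x a := by
  unfold toK Cyc.specMap
  simp only [CommRingCat.hom_comp, RingHom.coe_comp, Function.comp_apply]
  congr 1
  exact TopCat.Presheaf.stalkSpecializes_comp_apply X.presheaf (genericPoint_specializes ξ) h a

theorem toK_ne_zero {x : X} {a : X.presheaf.stalk x} (ha : a ≠ 0) : toK x a ≠ 0 := fun h0 =>
  ha (toK_injective x (by rw [h0, map_zero]))

/-- The algebra structure on `κ(η)` over a local ring of `X`. -/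
noncomputable def algK (x : X) :
    Algebra (X.presheaf.stalk x) (X.residueField (genericPoint X)) := (toK x).toAlgebra

theorem isFractionRing_toK (x : X) :
    @IsFractionRing (X.presheaf.stalk x) _ (X.residueField (genericPoint X)) _ (algK x) := by
  letI := algK x
  haveI : FaithfulSMul (X.presheaf.stalk x) (X.residueField (genericPoint X)) :=
    (faithfulSMul_iff_algebraMap_injective _ _).2 (toK_injective x)
  apply IsFractionRing.of_field
  intro z
  obtain ⟨a, b, -, hz⟩ := exists_specMap_div (genericPoint_specializes x) z
  exact ⟨a, b, hz⟩

/-- The order over the local ring is the order along the specialization from the generic point. -/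
theorem ordFrac_toK (x : X) (g : X.residueField (genericPoint X)) :
    letI := algK x
    CycAlg.ordFrac (X.presheaf.stalk x) (X.residueField (genericPoint X)) g =
      Cyc.ordAt x (genericPoint X) (genericPoint_specializes x) g := by
  letI := algK x
  have hk := ker_specMap_eq_bot (genericPoint_specializes x) rfl
  have hbij : Function.Bijective (Ideal.Quotient.mk
      (RingHom.ker (Cyc.specMap x (genericPoint X) (genericPoint_specializes x)))) := by
    refine ⟨?_, Ideal.Quotient.mk_surjective⟩
    rw [injective_iff_map_eq_zero]
    intro a ha
    rw [Ideal.Quotient.eq_zero_iff_mem, hk] at ha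
    exact (Submodule.mem_bot _).1 ha
  let e : X.presheaf.stalk x ≃+*
      Cyc.LocQuot x (genericPoint X) (genericPoint_specializes x) :=
    RingEquiv.ofBijective _ hbij
  unfold Cyc.ordAt
  exact ordFrac_eq_of_ringEquiv e (RingEquiv.refl _) (fun r => rfl) g

end Groth.Agent.Lib.Helper18.KeyGeo
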