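import Mathlib
import Groth.Prelude.Def_C1
import Groth.Prelude.Def_Pic
import Groth.Agent.Lib.Helper18.Cyc.KeyGen

/-!
# Chosen generators of an invertible module, transition units and coefficients of a rational section
-/

set_option autoImplicit false
set_option linter.style.haveILetI false
set_option linter.unusedSectionVars false
universe u
open AlgebraicGeometry CategoryTheory IsLocalRing

namespace Groth.Agent.Lib.Helper18.KeyGeo

open Groth.Agent.Lib.Helper18.CycDiv Groth.Agent.Lib.Helper18.C1Core
  Groth.Agent.Lib.Helper18.InvStalk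

section General

variable {X : Scheme.{u}} (L : X.Modules) (hL : PicF.IsInvertible L)

/-- The chosen generator of the stalk (the one used by `Cyc.secOrdAt`). -/
noncomputable def gen (x : X) : L.presheaf.stalk x :=
  Classical.choose (exists_span_eq_top L hL x)

theorem gen_span (x : X) : Submodule.span (X.presheaf.stalk x) {gen L hL x} = ⊤ :=
  Classical.choose_spec (exists_span_eq_top L hL x)

theorem gen_free (x : X) : FreeGen (X.presheaf.stalk x) (gen L hL x) :=
  freeGen_of_span_eq_top L hL (gen_span L hL x)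

theorem exists_trans {ξ x : X} (h : ξ ⤳ x) : ∃ w : (X.presheaf.stalk ξ)ˣ,
    L.presheaf.stalkSpecializes h (gen L hL x) = (w : X.presheaf.stalk ξ) • gen L hL ξ := by
  obtain ⟨u, hu, -⟩ := (gen_free L hL ξ).of_span_eq_top
    (freeGen_stalkSpecializes L hL h (gen_span L hL x)).1
  exact ⟨u, hu⟩

/-- The transition unit between the chosen generators along a specialization. -/
noncomputable def trans {ξ x : X} (h : ξ ⤳ x) : (X.presheaf.stalk ξ)ˣ :=
  Classical.choose (exists_trans L hL h)

theorem trans_spec {ξ x : X} (h : ξ ⤳ x) :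
    L.presheaf.stalkSpecializes h (gen L hL x) =
      ((trans L hL h : (X.presheaf.stalk ξ)ˣ) : X.presheaf.stalk ξ) • gen L hL ξ :=
  Classical.choose_spec (exists_trans L hL h)

/-- The class of the chosen generator in the fibre. -/
noncomputable def genSec (ξ : X) : Cyc.secFibre L ξ := Submodule.Quotient.mk (gen L hL ξ)

theorem genSec_ne_zero (ξ : X) : genSec L hL ξ ≠ 0 := by
  intro h0
  unfold genSec at h0
  rw [Submodule.Quotient.mk_eq_zero, ← (gen_free L hL ξ).1,
    Submodule.mem_smul_span_singleton] at h0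
  obtain ⟨y, hy, hyg⟩ := h0
  have h1 : y • gen L hL ξ = (1 : X.presheaf.stalk ξ) • gen L hL ξ := by rw [hyg, one_smul]
  have hy1 : y = 1 := (gen_free L hL ξ).smul_inj h1
  rw [hy1] at hy
  exact (Ideal.ne_top_iff_one _).1 (maximalIdeal.isMaximal _).ne_top hy

/-- The order of the class of the chosen generator at `ξ` along `ξ ⤳ ζ`. -/
theorem secOrdAt_genSec [IsLocallyNoetherian X] {ξ ζ : X} (h : ξ ⤳ ζ)
    (hd : Ring.KrullDimLE 1 (Cyc.LocQuot ζ ξ h)) :
    Cyc.secOrdAt L ξ ζ h (genSec L hL ξ) =
      - Cyc.ordAt ζ ξ h (X.residue ξ ((trans L hL h : (X.presheaf.stalk ξ)ˣ) :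
        X.presheaf.stalk ξ)) := by
  set w := trans L hL h with hw
  have h1 : genSec L hL ξ = ((w⁻¹ : (X.presheaf.stalk ξ)ˣ) : X.presheaf.stalk ξ) •
      (Submodule.Quotient.mk ((L.presheaf.stalkSpecializes h)
        (Classical.choose (exists_span_eq_top L hL ζ))) : Cyc.secFibre L ξ) := by
    have h2 := trans_spec L hL h
    unfold gen at h2
    rw [h2, ← hw, Submodule.Quotient.mk_smul, ← mul_smul, Units.inv_mul, one_smul]
    rfl
  rw [h1, secOrdAt_smul_mk L hL h (exists_span_eq_top L hL ζ)]
  have hne : X.residue ξ ((w : X.presheaf.stalk ξ)) ≠ 0 :=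
    (w.isUnit.map (X.residue ξ).hom).ne_zero
  have hne' : X.residue ξ (((w⁻¹ : (X.presheaf.stalk ξ)ˣ) : X.presheaf.stalk ξ)) ≠ 0 :=
    ((w⁻¹).isUnit.map (X.residue ξ).hom).ne_zero
  have hmul := ordAt_mul h hd hne hne'
  have h3 : X.residue ξ ((w : X.presheaf.stalk ξ)) *
      X.residue ξ (((w⁻¹ : (X.presheaf.stalk ξ)ˣ) : X.presheaf.stalk ξ)) = 1 := by
    rw [← map_mul, Units.mul_inv, map_one]
  rw [h3] at hmul
  have h4 : Cyc.ordAt ζ ξ h (1 : X.residueField ξ) = 0 :=
    ordAt_eq_zero_of_isUnit h 1 1 1 (by simp)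
  rw [h4] at hmul
  linarith

end General

section Integral

variable {X : Scheme.{u}} [IsIntegral X] (L : X.Modules) (hL : PicF.IsInvertible L)
  (s : Cyc.secFibre L (genericPoint X))

theorem exists_coef (x : X) : ∃ φ : X.presheaf.stalk (genericPoint X),
    s = φ • (Submodule.Quotient.mk ((L.presheaf.stalkSpecializes (genericPoint_specializes x))
      (gen L hL x)) : Cyc.secFibre L (genericPoint X)) :=
  exists_smul_mk L (freeGen_stalkSpecializes L hL (genericPoint_specializes x) (gen_span L hL x)) s

/-- The coefficient of `s` on the chosen generator at `x`, in `κ(η)`. -/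
noncomputable def coefK (x : X) : X.residueField (genericPoint X) :=
  X.residue (genericPoint X) (Classical.choose (exists_coef L hL s x))

theorem coefK_eq_of {x : X} {φ : X.presheaf.stalk (genericPoint X)}
    (h : s = φ • (Submodule.Quotient.mk
      ((L.presheaf.stalkSpecializes (genericPoint_specializes x))
      (gen L hL x)) : Cyc.secFibre L (genericPoint X))) :
    coefK L hL s x = X.residue (genericPoint X) φ := by
  unfold coefK
  apply residue_eq_of_smul_mk_eq L
    (freeGen_stalkSpecializes L hL (genericPoint_specializes x) (gen_span L hL x))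
  rw [← Classical.choose_spec (exists_coef L hL s x), ← h]

theorem coefK_ne_zero (hs : s ≠ 0) (x : X) : coefK L hL s x ≠ 0 := by
  unfold coefK
  apply residue_ne_zero_of_smul_mk_ne_zero L
  rw [← Classical.choose_spec (exists_coef L hL s x)]
  exact hs

theorem coefK_trans {ξ x : X} (h : ξ ⤳ x) :
    coefK L hL s ξ = coefK L hL s x *
      toK ξ ((trans L hL h : (X.presheaf.stalk ξ)ˣ) : X.presheaf.stalk ξ) := by
  obtain ⟨φ, hφ⟩ := exists_coef L hL s x
  rw [coefK_eq_of L hL s hφ]
  have h1 : (L.presheaf.stalkSpecializes (genericPoint_specializes x)) (gen L hL x) =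
      (X.presheaf.stalkSpecializes (genericPoint_specializes ξ)
        ((trans L hL h : (X.presheaf.stalk ξ)ˣ) : X.presheaf.stalk ξ)) •
      (L.presheaf.stalkSpecializes (genericPoint_specializes ξ)) (gen L hL ξ) := by
    rw [← stalkSpecializes_smul, ← trans_spec L hL h]
    exact (TopCat.Presheaf.stalkSpecializes_comp_apply L.presheaf
      (genericPoint_specializes ξ) h (gen L hL x)).symm
  have h2 : s = (φ * X.presheaf.stalkSpecializes (genericPoint_specializes ξ)
      ((trans L hL h : (X.presheaf.stalk ξ)ˣ) : X.presheaf.stalk ξ)) •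
      (Submodule.Quotient.mk ((L.presheaf.stalkSpecializes (genericPoint_specializes ξ))
        (gen L hL ξ)) : Cyc.secFibre L (genericPoint X)) := by
    rw [mul_smul, ← Submodule.Quotient.mk_smul, ← h1]
    exact hφ
  rw [coefK_eq_of L hL s h2, map_mul]
  rfl

/-- The divisor of a rational section on an integral scheme, in terms of coefficients. -/
theorem secDivFun_generic (δ : X → ℤ) (ξ : X) :
    Cyc.secDivFun δ L (genericPoint X) s ξ =
      if δ ξ + 1 = δ (genericPoint X) then
        Cyc.ordAt ξ (genericPoint X) (genericPoint_specializes ξ) (coefK L hL s ξ) else 0 := by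
  classical
  unfold Cyc.secDivFun
  by_cases hc : δ ξ + 1 = δ (genericPoint X)
  · rw [dif_pos ⟨genericPoint_specializes ξ, hc⟩, if_pos hc]
    obtain ⟨φ, hφ⟩ := exists_coef L hL s ξ
    rw [coefK_eq_of L hL s hφ]
    conv_lhs => rw [hφ]
    exact secOrdAt_smul_mk L hL (genericPoint_specializes ξ) (exists_span_eq_top L hL ξ) φ
  · rw [dif_neg (fun h => hc h.2), if_neg hc]

end Integral

end Groth.Agent.Lib.Helper18.KeyGeo
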