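import Mathlib
import Groth.Prelude.Def_C1
import Groth.Prelude.Def_Pic
import Groth.Agent.Lib.Helper18.Cyc.KeyGen
import Groth.Agent.Lib.Helper18.Tame.Frac
import Groth.Agent.Lib.Helper24.Cat.LocQuotDim

/-!
# The tame symbol at a codimension one point of an integral scheme
-/

set_option autoImplicit false
set_option linter.style.haveILetI false
set_option linter.unusedSectionVars false
universe u
open AlgebraicGeometry CategoryTheory IsLocalRing

namespace Groth.Agent.Lib.Helper18.KeyGeo

open Groth.Agent.Lib.Helper18.CycDiv Groth.Agent.Lib.Helper18.Tame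

variable {X : Scheme.{u}} [IsIntegral X]

/-- The dimension of a local ring of an integral scheme with a dimension function. -/
theorem ringKrullDim_stalk_eq (δ : X → ℤ) (hδ : Cyc.IsDimFun X δ) (x : X) :
    ringKrullDim (X.presheaf.stalk x) =
      ((δ (genericPoint X) - δ x).toNat : WithBot ℕ∞) := by
  rw [← Groth.Agent.Lib.Helper24.LocQuotDim.ringKrullDim_locQuot X δ hδ x (genericPoint X)
    (genericPoint_specializes x)]
  have hk := ker_specMap_eq_bot (genericPoint_specializes x) rfl
  have hbij : Function.Bijective (Ideal.Quotient.mk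
      (RingHom.ker (Cyc.specMap x (genericPoint X) (genericPoint_specializes x)))) := by
    refine ⟨?_, Ideal.Quotient.mk_surjective⟩
    rw [injective_iff_map_eq_zero]
    intro a ha
    rw [Ideal.Quotient.eq_zero_iff_mem, hk] at ha
    exact (Submodule.mem_bot _).1 ha
  exact ringKrullDim_eq_of_ringEquiv (RingEquiv.ofBijective _ hbij)

/-- The tame symbol of two rational functions at a point `ξ` (meaningful in codimension one). -/
noncomputable def tameAt (ξ : X) (g₁ g₂ : X.residueField (genericPoint X)) : X.residueField ξ :=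
  letI := algK ξ
  haveI := isFractionRing_toK ξ
  tameK (X.presheaf.stalk ξ) (X.residueField (genericPoint X)) g₁ g₂

variable [IsLocallyNoetherian X]

section Laws

variable {ξ : X} (hξ : ringKrullDim (X.presheaf.stalk ξ) ≤ 1)

include hξ

theorem tameAt_ne_zero {g₁ g₂ : X.residueField (genericPoint X)} (h₁ : g₁ ≠ 0) (h₂ : g₂ ≠ 0) :
    tameAt ξ g₁ g₂ ≠ 0 := by
  letI := algK ξ
  haveI := isFractionRing_toK ξ
  exact tameK_ne_zero hξ h₁ h₂

theorem tameAt_mul_left {a a' b : X.residueField (genericPoint X)} (ha : a ≠ 0) (ha' : a' ≠ 0)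
    (hb : b ≠ 0) : tameAt ξ (a * a') b = tameAt ξ a b * tameAt ξ a' b := by
  letI := algK ξ
  haveI := isFractionRing_toK ξ
  exact tameK_mul_left hξ ha ha' hb

theorem tameAt_mul_right {a b b' : X.residueField (genericPoint X)} (ha : a ≠ 0) (hb : b ≠ 0)
    (hb' : b' ≠ 0) : tameAt ξ a (b * b') = tameAt ξ a b * tameAt ξ a b' := by
  letI := algK ξ
  haveI := isFractionRing_toK ξ
  exact tameK_mul_right hξ ha hb hb'

theorem tameAt_unit_left (c : (X.presheaf.stalk ξ)ˣ) {b : X.residueField (genericPoint X)}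
    (hb : b ≠ 0) :
    tameAt ξ (toK ξ (c : X.presheaf.stalk ξ)) b =
      X.residue ξ (c : X.presheaf.stalk ξ) ^
        (Cyc.ordAt ξ (genericPoint X) (genericPoint_specializes ξ) b) := by
  letI := algK ξ
  haveI := isFractionRing_toK ξ
  rw [← ordFrac_toK ξ b]
  exact tameK_unit_left hξ c hb

theorem tameAt_unit_right (c : (X.presheaf.stalk ξ)ˣ) {a : X.residueField (genericPoint X)}
    (ha : a ≠ 0) :
    tameAt ξ a (toK ξ (c : X.presheaf.stalk ξ)) =
      (X.residue ξ (c : X.presheaf.stalk ξ) ^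
        (Cyc.ordAt ξ (genericPoint X) (genericPoint_specializes ξ) a))⁻¹ := by
  letI := algK ξ
  haveI := isFractionRing_toK ξ
  rw [← ordFrac_toK ξ a]
  exact tameK_unit_right hξ c ha

theorem tameAt_eq_symT {x₁ x₂ y₁ y₂ : X.presheaf.stalk ξ} (hx₁ : x₁ ≠ 0) (hx₂ : x₂ ≠ 0)
    (hy₁ : y₁ ≠ 0) (hy₂ : y₂ ≠ 0) :
    tameAt ξ (toK ξ x₁ / toK ξ x₂) (toK ξ y₁ / toK ξ y₂) =
      symT (X.presheaf.stalk ξ) x₁ x₂ y₁ y₂ := by
  letI := algK ξ
  haveI := isFractionRing_toK ξ
  exact tameK_eq hξ hx₁ hx₂ hy₁ hy₂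

end Laws

end Groth.Agent.Lib.Helper18.KeyGeo
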