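import Mathlib
import Groth.Prelude.Def_C1
import Groth.Prelude.Def_Pic
import Groth.Agent.Lib.Helper18.Cyc.KeyTame
import Groth.Agent.Lib.Helper18.Tame.Equiv
import Groth.Agent.Lib.Helper18.Key.AKF

/-!
# Transport of the key lemma to the local rings of an integral scheme
-/

set_option autoImplicit false
set_option maxHeartbeats 1000000
set_option linter.style.haveILetI false
set_option linter.unusedSectionVars false
universe u
open AlgebraicGeometry CategoryTheory IsLocalRing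

namespace Groth.Agent.Lib.Helper18.KeyGeo

open Groth.Agent.Lib.Helper18.CycDiv Groth.Agent.Lib.Helper18.Tame
  Groth.Agent.Lib.Helper13.StalkSpecLoc Groth.Agent.Lib.Helper18.Key

variable {X : Scheme.{u}} [IsIntegral X] [IsLocallyNoetherian X]

theorem stalkSpecializes_injective {ξ ζ : X} (h : ξ ⤳ ζ) :
    Function.Injective (X.presheaf.stalkSpecializes h) := by
  intro a b hab
  apply toK_injective ζ
  rw [← toK_comp h a, ← toK_comp h b, hab]

/-- The transport of the summand of the key lemma. -/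
theorem ordAt_tameAt_eq {ξ ζ : X} (h : ξ ⤳ ζ) (hξ : ringKrullDim (X.presheaf.stalk ξ) ≤ 1)
    {p₁ p₂ r₁ r₂ : X.presheaf.stalk ζ} (hp₁ : p₁ ≠ 0) (hp₂ : p₂ ≠ 0) (hr₁ : r₁ ≠ 0)
    (hr₂ : r₂ ≠ 0) :
    Cyc.ordAt ζ ξ h (tameAt ξ (toK ζ p₁ / toK ζ p₂) (toK ζ r₁ / toK ζ r₂)) =
      CycAlg.ordFrac (X.presheaf.stalk ζ ⧸ primeOf h) (primeOf h).ResidueField
        (symT (Localization.AtPrime (primeOf h)) (algebraMap _ _ p₁) (algebraMap _ _ p₂)
          (algebraMap _ _ r₁) (algebraMap _ _ r₂)) := by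
  classical
  letI algsp : Algebra (X.presheaf.stalk ζ) (X.presheaf.stalk ξ) :=
    (X.presheaf.stalkSpecializes h).hom.toAlgebra
  haveI hloc : IsLocalization.AtPrime (X.presheaf.stalk ξ) (primeOf h) :=
    isLocalization_stalkSpecializes h
  let j₀ : Localization.AtPrime (primeOf h) ≃ₐ[X.presheaf.stalk ζ] X.presheaf.stalk ξ :=
    IsLocalization.algEquiv (primeOf h).primeCompl _ _
  let j : Localization.AtPrime (primeOf h) ≃+* X.presheaf.stalk ξ := j₀.toRingEquiv
  have hj : ∀ a : X.presheaf.stalk ζ, j (algebraMap _ _ a) = X.presheaf.stalkSpecializes h a :=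
    fun a => j₀.commutes a
  have hdimq : ringKrullDim (Localization.AtPrime (primeOf h)) ≤ 1 :=
    (ringKrullDim_eq_of_ringEquiv j).le.trans hξ
  haveI : IsNoetherianRing (Localization.AtPrime (primeOf h)) :=
    IsLocalization.isNoetherianRing (primeOf h).primeCompl _ inferInstance
  have hsp0 : ∀ {a : X.presheaf.stalk ζ}, a ≠ 0 → X.presheaf.stalkSpecializes h a ≠ 0 :=
    fun ha h0 => ha (stalkSpecializes_injective h (by rw [h0, map_zero]))
  have hnz : ∀ {a : X.presheaf.stalk ζ}, a ≠ 0 →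
      algebraMap (X.presheaf.stalk ζ) (Localization.AtPrime (primeOf h)) a ∈
        nonZeroDivisors (Localization.AtPrime (primeOf h)) := fun ha =>
    map_mem_nonZeroDivisors' (mem_nonZeroDivisors_of_ne_zero ha) (primeOf h)
  -- step 1: the symbol on `O_ξ`
  rw [← toK_comp h p₁, ← toK_comp h p₂, ← toK_comp h r₁, ← toK_comp h r₂,
    tameAt_eq_symT hξ (hsp0 hp₁) (hsp0 hp₂) (hsp0 hr₁) (hsp0 hr₂)]
  -- step 2: transport of the symbol
  have hsym : symT (X.presheaf.stalk ξ) (X.presheaf.stalkSpecializes h p₁)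
      (X.presheaf.stalkSpecializes h p₂) (X.presheaf.stalkSpecializes h r₁)
      (X.presheaf.stalkSpecializes h r₂) =
      ResidueField.mapEquiv j (symT (Localization.AtPrime (primeOf h)) (algebraMap _ _ p₁)
        (algebraMap _ _ p₂) (algebraMap _ _ r₁) (algebraMap _ _ r₂)) := by
    unfold symT
    rw [map_div₀, map_mul, map_mul, ← tameSymbol_mapEquiv hdimq j (hnz hp₁) (hnz hr₁),
      ← tameSymbol_mapEquiv hdimq j (hnz hp₂) (hnz hr₂),
      ← tameSymbol_mapEquiv hdimq j (hnz hp₁) (hnz hr₂),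
      ← tameSymbol_mapEquiv hdimq j (hnz hp₂) (hnz hr₁), hj, hj, hj, hj]
  rw [hsym]
  -- step 3: transport of the order
  unfold Cyc.ordAt
  let e : (X.presheaf.stalk ζ ⧸ primeOf h) ≃+* Cyc.LocQuot ζ ξ h :=
    Ideal.quotEquivOfEq (ker_specMap h).symm
  symm
  let eK : (primeOf h).ResidueField ≃+* X.residueField ξ := ResidueField.mapEquiv j
  refine ordFrac_eq_of_ringEquiv (K' := X.residueField ξ) e eK ?_ _
  intro r
  obtain ⟨a, rfl⟩ := Ideal.Quotient.mk_surjective r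
  show ResidueField.mapEquiv j (algebraMap (X.presheaf.stalk ζ) (primeOf h).ResidueField a) =
    Cyc.specMap ζ ξ h a
  rw [IsScalarTower.algebraMap_apply (X.presheaf.stalk ζ) (Localization.AtPrime (primeOf h))
    (primeOf h).ResidueField, ResidueField.algebraMap_eq]
  show residue _ (j _) = _
  rw [hj]
  rfl

theorem toNat_cast_eq (n : ℤ) (m : ℕ) (hn : n = m) : ((n.toNat : ℕ) : WithBot ℕ∞) = (m : ℕ∞) := by
  subst hn
  simp

open Classical in
/-- **The key lemma on an integral scheme**: the orders of the tame symbols of two rational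
functions at the codimension one points through a codimension two point add up to zero. -/
theorem finsum_ordAt_tameAt_eq_zero (δ : X → ℤ) (hδ : Cyc.IsDimFun X δ) (ζ : X)
    (hζ : δ ζ + 2 = δ (genericPoint X)) {g₁ g₂ : X.residueField (genericPoint X)}
    (h₁ : g₁ ≠ 0) (h₂ : g₂ ≠ 0) :
    ∑ᶠ ξ : X, (if h : ξ ⤳ ζ ∧ δ ζ + 1 = δ ξ then
      Cyc.ordAt ζ ξ h.1 (tameAt ξ g₁ g₂) else 0) = 0 := by
  classical
  have hA : ringKrullDim (X.presheaf.stalk ζ) = 2 := by
    rw [ringKrullDim_stalk_eq δ hδ ζ, toNat_cast_eq _ 2 (by push_cast; linarith)]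
    rfl
  letI := algK ζ
  haveI := isFractionRing_toK ζ
  obtain ⟨p₁, p₂, hp₁, hp₂, rfl⟩ := exists_frac (B := X.presheaf.stalk ζ) h₁
  obtain ⟨r₁, r₂, hr₁, hr₂, rfl⟩ := exists_frac (B := X.presheaf.stalk ζ) h₂
  have hakf := akf hA hp₁ hp₂ hr₁ hr₂
  rw [← finsum_subtype_eq_finsum_cond] at hakf
  rw [C1Core.finsum_eq_finsum_subtype _ (fun ξ : X => ξ ⤳ ζ ∧ δ ζ + 1 = δ ξ) (by
    intro ξ hξ
    by_contra hc
    exact hξ (dif_neg hc))]
  -- dimension one at the points in question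
  have hdim1 : ∀ ξ : {ξ : X // ξ ⤳ ζ ∧ δ ζ + 1 = δ ξ},
      ringKrullDim (X.presheaf.stalk ξ.1) = 1 := by
    intro ξ
    rw [ringKrullDim_stalk_eq δ hδ ξ.1, toNat_cast_eq _ 1 (by push_cast; linarith [ξ.2.2])]
    rfl
  have hheight : ∀ ξ : {ξ : X // ξ ⤳ ζ ∧ δ ζ + 1 = δ ξ}, (primeOf ξ.2.1).height = 1 := by
    intro ξ
    have h1 := ringKrullDim_stalk_eq_height_primeOf ξ.2.1
    rw [hdim1 ξ] at h1
    exact (WithBot.coe_injective h1).symm
  let Φ : {ξ : X // ξ ⤳ ζ ∧ δ ζ + 1 = δ ξ} →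
      {q : PrimeSpectrum (X.presheaf.stalk ζ) // q.asIdeal.height = 1} :=
    fun ξ => ⟨⟨primeOf ξ.2.1, inferInstance⟩, hheight ξ⟩
  have hbij : Function.Bijective Φ := by
    refine ⟨?_, ?_⟩
    · intro ξ ξ' hΦ
      apply Subtype.ext
      have h1 : (⟨primeOf ξ.2.1, inferInstance⟩ : PrimeSpectrum (X.presheaf.stalk ζ)) =
          ⟨primeOf ξ'.2.1, inferInstance⟩ := congrArg Subtype.val hΦ
      rw [← fromSpecStalk_primeOf ξ.2.1, ← fromSpecStalk_primeOf ξ'.2.1, h1]
    · rintro ⟨q, hq⟩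
      haveI := q.isPrime
      obtain ⟨ξ, h, hξq⟩ := exists_primeOf_eq ζ q.asIdeal
      have h1 := ringKrullDim_stalk_eq_height_primeOf h
      rw [hξq, hq, ringKrullDim_stalk_eq δ hδ ξ] at h1
      have h2 : ((δ (genericPoint X) - δ ξ).toNat : ℕ∞) = 1 := by
        have : (((δ (genericPoint X) - δ ξ).toNat : ℕ∞) : WithBot ℕ∞) = ((1 : ℕ∞) : WithBot ℕ∞) :=
          h1
        exact WithBot.coe_injective this
      have h3 : (δ (genericPoint X) - δ ξ).toNat = 1 := by exact_mod_cast h2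
      have h4 : δ ζ + 1 = δ ξ := by omega
      refine ⟨⟨ξ, h, h4⟩, ?_⟩
      apply Subtype.ext
      exact PrimeSpectrum.ext hξq
  refine (finsum_eq_of_bijective Φ hbij ?_).trans hakf
  intro ξ
  show (if h : ξ.1 ⤳ ζ ∧ δ ζ + 1 = δ ξ.1 then _ else 0) = _
  rw [dif_pos ξ.2]
  exact ordAt_tameAt_eq ξ.2.1 (hdim1 ξ).le hp₁ hp₂ hr₁ hr₂

end Groth.Agent.Lib.Helper18.KeyGeo
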