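import Mathlib
import Groth.Prelude.Def_C1
import Groth.Prelude.Def_Pic
import Groth.Agent.Lib.Helper18.Cyc.KeyTransport
import Groth.Agent.Lib.Helper18.Cyc.KeyCoef
import Groth.Agent.Lib.Helper18.Cyc.RatAdd
import Groth.Agent.Lib.Helper18.Cyc.C1Finite
import Groth.Agent.Lib.Helper18.Cyc.PullRat

/-!
# Units, orders and local finiteness for the key formula
-/

set_option autoImplicit false
set_option maxHeartbeats 1000000
set_option linter.style.haveILetI false
set_option linter.unusedSectionVars false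
universe u
open AlgebraicGeometry CategoryTheory IsLocalRing

namespace Groth.Agent.Lib.Helper18.KeyGeo

open Groth.Agent.Lib.Helper18.CycDiv Groth.Agent.Lib.Helper18.C1Core
  Groth.Agent.Lib.Helper18.InvStalk Groth.Agent.Lib.Helper18.CycPull

variable {X : Scheme.{u}}

section Ord

theorem ordAt_inv {x ξ : X} (h : ξ ⤳ x) (f : X.residueField ξ) :
    Cyc.ordAt x ξ h f⁻¹ = - Cyc.ordAt x ξ h f := by
  unfold Cyc.ordAt CycAlg.ordFrac
  split_ifs with hcond
  · haveI := hcond.1; haveI := hcond.2.1; haveI := hcond.2.2.1; haveI := hcond.2.2.2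
    rw [map_inv₀]
    generalize Ring.ordFrac (Cyc.LocQuot x ξ h) f = w
    induction w using WithZero.recZeroCoe with
    | zero => simp
    | coe a => simp [← WithZero.coe_inv]
  · simp

theorem ordAt_zpow {x ξ : X} (h : ξ ⤳ x) (g : X.residueField ξ) (n : ℤ) :
    Cyc.ordAt x ξ h (g ^ n) = n * Cyc.ordAt x ξ h g := by
  cases n with
  | ofNat n => rw [Int.ofNat_eq_natCast, zpow_natCast, ordAt_pow]
  | negSucc n =>
    rw [zpow_negSucc, ordAt_inv, ordAt_pow, Int.negSucc_eq]
    push_cast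
    ring

theorem ordAt_one {x ξ : X} (h : ξ ⤳ x) : Cyc.ordAt x ξ h (1 : X.residueField ξ) = 0 :=
  ordAt_eq_zero_of_isUnit h 1 1 1 (by simp)

end Ord

variable [IsIntegral X] [IsLocallyNoetherian X]

/-- `g` is the image of a unit of the local ring at `ξ`. -/
def UnitAt (ξ : X) (g : X.residueField (genericPoint X)) : Prop :=
  ∃ c : (X.presheaf.stalk ξ)ˣ, toK ξ (c : X.presheaf.stalk ξ) = g

theorem ordAt_toK_unit {ξ : X} (c : (X.presheaf.stalk ξ)ˣ) :
    Cyc.ordAt ξ (genericPoint X) (genericPoint_specializes ξ)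
      (toK ξ (c : X.presheaf.stalk ξ)) = 0 :=
  ordAt_eq_zero_of_isUnit _ _ c 1 (by simp [toK])

theorem UnitAt.ordAt_eq_zero {ξ : X} {g : X.residueField (genericPoint X)} (h : UnitAt ξ g) :
    Cyc.ordAt ξ (genericPoint X) (genericPoint_specializes ξ) g = 0 := by
  obtain ⟨c, rfl⟩ := h
  exact ordAt_toK_unit c

theorem UnitAt.mul {ξ : X} {g g' : X.residueField (genericPoint X)} (h : UnitAt ξ g)
    (h' : UnitAt ξ g') : UnitAt ξ (g * g') := by
  obtain ⟨c, rfl⟩ := h
  obtain ⟨c', rfl⟩ := h'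
  exact ⟨c * c', by rw [Units.val_mul, map_mul]⟩

theorem tameAt_eq_one_of_unitAt {ξ : X} (hξ : ringKrullDim (X.presheaf.stalk ξ) ≤ 1)
    {g₁ g₂ : X.residueField (genericPoint X)} (h₁ : UnitAt ξ g₁) (h₂ : UnitAt ξ g₂) :
    tameAt ξ g₁ g₂ = 1 := by
  obtain ⟨c, rfl⟩ := h₁
  have hne : g₂ ≠ 0 := by
    obtain ⟨c', rfl⟩ := h₂
    exact toK_ne_zero c'.ne_zero
  rw [tameAt_unit_left hξ c hne, h₂.ordAt_eq_zero, zpow_zero]

section Local

variable (δ : X → ℤ) (hδ : Cyc.IsDimFun X δ) (L : X.Modules) (hL : PicF.IsInvertible L)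
  (s : Cyc.secFibre L (genericPoint X)) (hs : s ≠ 0)

include hs in
/-- Near any point the coefficients of `s` are a fixed rational function up to local units. -/
theorem exists_local_coef (x : X) : ∃ (V : X.Opens) (g : X.residueField (genericPoint X)),
    x ∈ V ∧ g ≠ 0 ∧ ∀ ξ ∈ V, ∃ c : (X.presheaf.stalk ξ)ˣ,
      coefK L hL s ξ = g * toK ξ (c : X.presheaf.stalk ξ) := by
  obtain ⟨V, hxV, e, he⟩ := exists_local_generator L hL x
  have hηV : genericPoint X ∈ V := (genericPoint_specializes x).mem_open V.isOpen hxV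
  obtain ⟨ψ, hψ⟩ := exists_smul_mk L
    (show FreeGen (X.presheaf.stalk (genericPoint X)) _ from he _ hηV) s
  refine ⟨V, X.residue _ ψ, hxV, residue_ne_zero_of_smul_mk_ne_zero L ψ (hψ ▸ hs), ?_⟩
  intro ξ hξV
  obtain ⟨c, hc, -⟩ := (gen_free L hL ξ).of_span_eq_top
    (show FreeGen (X.presheaf.stalk ξ) _ from he ξ hξV).1
  refine ⟨c, ?_⟩
  have h1 : L.presheaf.germ V (genericPoint X) hηV e =
      (X.presheaf.stalkSpecializes (genericPoint_specializes ξ) (c : X.presheaf.stalk ξ)) •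
        (L.presheaf.stalkSpecializes (genericPoint_specializes ξ)) (gen L hL ξ) := by
    rw [← stalkSpecializes_smul, ← hc]
    exact (TopCat.Presheaf.germ_stalkSpecializes_apply L.presheaf hξV
      (genericPoint_specializes ξ) e).symm
  have h2 : s = (ψ * X.presheaf.stalkSpecializes (genericPoint_specializes ξ)
      (c : X.presheaf.stalk ξ)) •
      (Submodule.Quotient.mk ((L.presheaf.stalkSpecializes (genericPoint_specializes ξ))
        (gen L hL ξ)) : Cyc.secFibre L (genericPoint X)) := by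
    rw [mul_smul, ← Submodule.Quotient.mk_smul, ← h1]
    exact hψ
  rw [coefK_eq_of L hL s h2, map_mul]
  rfl

include hδ hs in
/-- The codimension one points at which the coefficient of `s` is not a unit are locally
finite. -/
theorem exists_finite_nonunit (x : X) : ∃ U : X.Opens, x ∈ U ∧
    {ξ : X | ξ ∈ U ∧ δ ξ + 1 = δ (genericPoint X) ∧ ¬ UnitAt ξ (coefK L hL s ξ)}.Finite := by
  obtain ⟨V, g, hxV, hg, hV⟩ := exists_local_coef L hL s hs x
  obtain ⟨_, ⟨W, hW : IsAffineOpen W, rfl⟩, hxW, hWV⟩ :=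
    X.isBasis_affineOpens.exists_subset_of_mem_open hxV V.isOpen
  refine ⟨W, hxW, (finite_inter_nonunit (genericPoint X) g hg W hW).subset ?_⟩
  rintro ξ ⟨hξW, hξδ, hξu⟩
  refine ⟨hξW, genericPoint_specializes ξ,
    krullDimLE_one_locQuot δ hδ (genericPoint_specializes ξ) hξδ, ?_⟩
  rintro ⟨ua, ub, hab⟩
  apply hξu
  obtain ⟨c, hc⟩ := hV ξ (hWV hξW)
  refine ⟨ua * ub⁻¹ * c, ?_⟩
  rw [hc, Units.val_mul, Units.val_mul, map_mul, map_mul]
  congr 1
  have hb : toK ξ (ub : X.presheaf.stalk ξ) *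
      toK ξ ((ub⁻¹ : (X.presheaf.stalk ξ)ˣ) : X.presheaf.stalk ξ) = 1 := by
    rw [← map_mul, Units.mul_inv, map_one]
  have hab' : g * toK ξ (ub : X.presheaf.stalk ξ) = toK ξ (ua : X.presheaf.stalk ξ) := hab
  rw [← hab', mul_assoc, hb, mul_one]

end Local

end Groth.Agent.Lib.Helper18.KeyGeo
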