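import Mathlib
import Groth.Agent.Lib.Helper24.FibreDim.Main4944

/-!
# The integral closed subscheme `closure {ξ}`
-/

set_option autoImplicit false
open CategoryTheory AlgebraicGeometry TopologicalSpace

namespace Groth.Agent.Lib.Helper18.ClSub

universe u

variable {X : Scheme.{u}}

/-- the closed set `closure {ξ}` -/
def clSet (ξ : X) : Closeds X := ⟨closure {ξ}, isClosed_closure⟩

/-- the reduced induced closed subscheme on `closure {ξ}` -/
noncomputable def cl (ξ : X) : Scheme.{u} :=
  (Scheme.IdealSheafData.vanishingIdeal (clSet ξ)).subscheme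

/-- the closed immersion `closure {ξ} → X` -/
noncomputable def clι (ξ : X) : cl ξ ⟶ X :=
  (Scheme.IdealSheafData.vanishingIdeal (clSet ξ)).subschemeι

instance (ξ : X) : IsClosedImmersion (clι ξ) :=
  inferInstanceAs (IsClosedImmersion
    (Scheme.IdealSheafData.vanishingIdeal (clSet ξ)).subschemeι)

theorem range_clι (ξ : X) : Set.range (clι ξ) = closure ({ξ} : Set X) :=
  (Scheme.IdealSheafData.vanishingIdeal (clSet ξ)).range_subschemeι.trans
    (Scheme.IdealSheafData.coe_support_vanishingIdeal (clSet ξ))

theorem exists_clι_eq (ξ : X) : ∃ w : cl ξ, clι ξ w = ξ := by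
  have : ξ ∈ Set.range (clι ξ) := by
    rw [range_clι]
    exact subset_closure rfl
  exact this

/-- the point of `cl ξ` over `ξ` -/
noncomputable def gen (ξ : X) : cl ξ := Classical.choose (exists_clι_eq ξ)

@[simp] theorem clι_gen (ξ : X) : clι ξ (gen ξ) = ξ := Classical.choose_spec (exists_clι_eq ξ)

theorem gen_specializes (ξ : X) (z : cl ξ) : gen ξ ⤳ z := by
  rw [← (clι ξ).isClosedEmbedding.isInducing.specializes_iff, specializes_iff_mem_closure,
    clι_gen, ← range_clι]
  exact Set.mem_range_self z

instance (ξ : X) : IsReduced (cl ξ) :=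
  Groth.Agent.Lib.Helper24.FibreDim.isReduced_vanishingIdeal_subscheme (clSet ξ)

instance (ξ : X) : IrreducibleSpace (cl ξ) := by
  have h : closure ({gen ξ} : Set (cl ξ)) = Set.univ := by
    ext z
    simp only [Set.mem_univ, iff_true]
    exact specializes_iff_mem_closure.1 (gen_specializes ξ z)
  have hirr : IsIrreducible (Set.univ : Set (cl ξ)) := by
    rw [← h]
    exact isIrreducible_singleton.closure
  exact { toPreirreducibleSpace := ⟨hirr.isPreirreducible⟩, toNonempty := ⟨gen ξ⟩ }

instance (ξ : X) : IsIntegral (cl ξ) := isIntegral_of_irreducibleSpace_of_isReduced _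

theorem genericPoint_eq (ξ : X) : genericPoint (cl ξ) = gen ξ := by
  have h1 : gen ξ ⤳ genericPoint (cl ξ) := gen_specializes ξ _
  have h2 : genericPoint (cl ξ) ⤳ gen ξ := genericPoint_specializes _
  exact (h2.antisymm h1).eq

@[simp] theorem clι_genericPoint (ξ : X) : clι ξ (genericPoint (cl ξ)) = ξ := by
  rw [genericPoint_eq, clι_gen]

instance [IsLocallyNoetherian X] (ξ : X) : IsLocallyNoetherian (cl ξ) :=
  LocallyOfFiniteType.isLocallyNoetherian (clι ξ)

end Groth.Agent.Lib.Helper18.ClSub
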