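import Mathlib
import Groth.Prelude.Def_C1
import Groth.Prelude.Def_Pic
import Groth.Agent.Lib.Helper18.Cyc.KeyLocal

/-!
# The key formula: `c_1(N) ∩ div_L(s) - c_1(L) ∩ div_N(t)` is a sum of divisors of tame symbols
-/

set_option autoImplicit false
set_option maxHeartbeats 1000000
set_option linter.style.haveILetI false
set_option linter.unusedSectionVars false
universe u
open AlgebraicGeometry CategoryTheory IsLocalRing

namespace Groth.Agent.Lib.Helper18.KeyGeo

open Groth.Agent.Lib.Helper18.CycDiv Groth.Agent.Lib.Helper18.C1Core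
  Groth.Agent.Lib.Helper18.InvStalk Groth.Agent.Lib.Helper18.CycPull

variable {X : Scheme.{u}} [IsIntegral X] [IsLocallyNoetherian X]
variable (δ : X → ℤ) (hδ : Cyc.IsDimFun X δ) (L N : X.Modules) (hL : PicF.IsInvertible L)
  (hN : PicF.IsInvertible N) (s : Cyc.secFibre L (genericPoint X)) (hs : s ≠ 0)
  (t : Cyc.secFibre N (genericPoint X)) (ht : t ≠ 0)

include hδ in
theorem dim_le_one_of_codim_one {ξ : X} (hξ : δ ξ + 1 = δ (genericPoint X)) :
    ringKrullDim (X.presheaf.stalk ξ) ≤ 1 := by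
  rw [ringKrullDim_stalk_eq δ hδ ξ, toNat_cast_eq _ 1 (by push_cast; linarith)]
  rfl

include hδ hs ht in
/-- The comparison of the tame symbols computed with the generators at `ξ` and at `ζ`. -/
theorem core_identity {ξ ζ : X} (h : ξ ⤳ ζ) (hξζ : δ ζ + 1 = δ ξ)
    (hξ : δ ξ + 1 = δ (genericPoint X)) :
    Cyc.ordAt ζ ξ h (tameAt ξ (coefK L hL s ξ) (coefK N hN t ξ)) =
      Cyc.ordAt ζ ξ h (tameAt ξ (coefK L hL s ζ) (coefK N hN t ζ)) +
      (Cyc.ordAt ξ (genericPoint X) (genericPoint_specializes ξ) (coefK L hL s ξ) *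
          Cyc.secOrdAt N ξ ζ h (genSec N hN ξ) -
        Cyc.ordAt ξ (genericPoint X) (genericPoint_specializes ξ) (coefK N hN t ξ) *
          Cyc.secOrdAt L ξ ζ h (genSec L hL ξ)) := by
  have hdim := dim_le_one_of_codim_one δ hδ hξ
  have hd : Ring.KrullDimLE 1 (Cyc.LocQuot ζ ξ h) := krullDimLE_one_locQuot δ hδ h hξζ
  have hdη : Ring.KrullDimLE 1 (Cyc.LocQuot ξ (genericPoint X) (genericPoint_specializes ξ)) :=
    krullDimLE_one_locQuot δ hδ _ hξ
  set wL := trans L hL h with hwL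
  set wN := trans N hN h with hwN
  have ha0 := coefK_ne_zero L hL s hs ζ
  have hb0 := coefK_ne_zero N hN t ht ζ
  have hwL0 : toK ξ (wL : X.presheaf.stalk ξ) ≠ 0 := toK_ne_zero wL.ne_zero
  have hwN0 : toK ξ (wN : X.presheaf.stalk ξ) ≠ 0 := toK_ne_zero wN.ne_zero
  have hrL0 : X.residue ξ (wL : X.presheaf.stalk ξ) ≠ 0 :=
    (wL.isUnit.map (X.residue ξ).hom).ne_zero
  have hrN0 : X.residue ξ (wN : X.presheaf.stalk ξ) ≠ 0 :=
    (wN.isUnit.map (X.residue ξ).hom).ne_zero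
  rw [coefK_trans L hL s h, coefK_trans N hN t h, ← hwL, ← hwN]
  rw [ordAt_mul _ hdη ha0 hwL0, ordAt_mul _ hdη hb0 hwN0, ordAt_toK_unit, ordAt_toK_unit,
    add_zero, add_zero, secOrdAt_genSec N hN h hd, secOrdAt_genSec L hL h hd, ← hwL, ← hwN]
  rw [tameAt_mul_left hdim ha0 hwL0 (mul_ne_zero hb0 hwN0),
    tameAt_mul_right hdim ha0 hb0 hwN0, tameAt_unit_right hdim wN ha0,
    tameAt_unit_left hdim wL (mul_ne_zero hb0 hwN0), ordAt_mul _ hdη hb0 hwN0, ordAt_toK_unit,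
    add_zero]
  have hT0 := tameAt_ne_zero hdim ha0 hb0
  have h1 : (X.residue ξ (wN : X.presheaf.stalk ξ) ^
      Cyc.ordAt ξ (genericPoint X) (genericPoint_specializes ξ) (coefK L hL s ζ))⁻¹ ≠ 0 :=
    inv_ne_zero (zpow_ne_zero _ hrN0)
  have h2 : X.residue ξ (wL : X.presheaf.stalk ξ) ^
      Cyc.ordAt ξ (genericPoint X) (genericPoint_specializes ξ) (coefK N hN t ζ) ≠ 0 :=
    zpow_ne_zero _ hrL0
  rw [ordAt_mul h hd (mul_ne_zero hT0 h1) h2, ordAt_mul h hd hT0 h1, ordAt_inv, ordAt_zpow,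
    ordAt_zpow]
  ring

/-- The codimension one points at which `s` or `t` is not a generator. -/
def KIdx : Type u := {ξ : X // δ ξ + 1 = δ (genericPoint X) ∧
  ¬ (UnitAt ξ (coefK L hL s ξ) ∧ UnitAt ξ (coefK N hN t ξ))}

include hδ hs ht in
theorem locfin_KIdx (x : X) : ∃ U : Set X, IsOpen U ∧ x ∈ U ∧
    {i : KIdx δ L N hL hN s t | (closure {i.1} ∩ U).Nonempty}.Finite := by
  obtain ⟨U₁, hx₁, hfin₁⟩ := exists_finite_nonunit δ hδ L hL s hs x
  obtain ⟨U₂, hx₂, hfin₂⟩ := exists_finite_nonunit δ hδ N hN t ht x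
  refine ⟨(U₁ : Set X) ∩ U₂, U₁.isOpen.inter U₂.isOpen, ⟨hx₁, hx₂⟩, ?_⟩
  refine ((hfin₁.union hfin₂).preimage (Subtype.val_injective.injOn)).subset ?_
  rintro i ⟨y, hy1, hy2⟩
  have hsp : i.1 ⤳ y := specializes_iff_mem_closure.2 hy1
  have hi1 : i.1 ∈ U₁ := hsp.mem_open U₁.isOpen hy2.1
  have hi2 : i.1 ∈ U₂ := hsp.mem_open U₂.isOpen hy2.2
  by_cases hu : UnitAt i.1 (coefK L hL s i.1)
  · refine Or.inr ⟨hi2, i.2.1, fun hu2 => i.2.2 ⟨hu, hu2⟩⟩
  · exact Or.inl ⟨hi1, i.2.1, hu⟩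

theorem divFun_one (ξ x : X) : Cyc.divFun δ ξ (1 : X.residueField ξ) x = 0 := by
  classical
  unfold Cyc.divFun
  split_ifs with h
  · exact ordAt_one h.1
  · rfl

open Classical in
include hδ hs ht in
/-- **The key formula**, pointwise form. -/
theorem key_formula_sum (x : X) :
    Cyc.c1CapFun δ N (Cyc.secDivFun δ L (genericPoint X) s) (genSec N hN) x -
      Cyc.c1CapFun δ L (Cyc.secDivFun δ N (genericPoint X) t) (genSec L hL) x =
    ∑ᶠ i : KIdx δ L N hL hN s t,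
      Cyc.divFun δ i.1 (tameAt i.1 (coefK L hL s i.1) (coefK N hN t i.1)) x := by
  classical
  -- abbreviations
  set aL := coefK L hL s with haL
  set bN := coefK N hN t with hbN
  set α := Cyc.secDivFun δ L (genericPoint X) s with hα
  set β := Cyc.secDivFun δ N (genericPoint X) t with hβ
  have hαeq : ∀ ξ, α ξ = if δ ξ + 1 = δ (genericPoint X) then
      Cyc.ordAt ξ (genericPoint X) (genericPoint_specializes ξ) (aL ξ) else 0 :=
    fun ξ => secDivFun_generic L hL s δ ξ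
  have hβeq : ∀ ξ, β ξ = if δ ξ + 1 = δ (genericPoint X) then
      Cyc.ordAt ξ (genericPoint X) (genericPoint_specializes ξ) (bN ξ) else 0 :=
    fun ξ => secDivFun_generic N hN t δ ξ
  let p : X → Prop := fun ξ => δ ξ + 1 = δ (genericPoint X) ∧
    ¬ (UnitAt ξ (aL ξ) ∧ UnitAt ξ (bN ξ))
  have hαp : ∀ ξ, α ξ ≠ 0 → p ξ := by
    intro ξ hξ
    rw [hαeq] at hξ
    by_cases hc : δ ξ + 1 = δ (genericPoint X)
    · rw [if_pos hc] at hξ
      exact ⟨hc, fun hu => hξ hu.1.ordAt_eq_zero⟩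
    · rw [if_neg hc] at hξ
      exact absurd rfl hξ
  have hβp : ∀ ξ, β ξ ≠ 0 → p ξ := by
    intro ξ hξ
    rw [hβeq] at hξ
    by_cases hc : δ ξ + 1 = δ (genericPoint X)
    · rw [if_pos hc] at hξ
      exact ⟨hc, fun hu => hξ hu.2.ordAt_eq_zero⟩
    · rw [if_neg hc] at hξ
      exact absurd rfl hξ
  -- the sum over all points
  let T2 : X → ℤ := fun ξ => if δ ξ + 1 = δ (genericPoint X) then
    Cyc.divFun δ ξ (tameAt ξ (aL ξ) (bN ξ)) x else 0
  have hT2p : ∀ ξ, T2 ξ ≠ 0 → p ξ := by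
    intro ξ hξ
    by_cases hc : δ ξ + 1 = δ (genericPoint X)
    · refine ⟨hc, fun hu => hξ ?_⟩
      show (if δ ξ + 1 = δ (genericPoint X) then _ else 0) = 0
      rw [if_pos hc, tameAt_eq_one_of_unitAt (dim_le_one_of_codim_one δ hδ hc) hu.1 hu.2,
        divFun_one]
    · exact absurd (if_neg hc) hξ
  have hstepA : ∑ᶠ i : KIdx δ L N hL hN s t, Cyc.divFun δ i.1 (tameAt i.1 (aL i.1) (bN i.1)) x =
      ∑ᶠ ξ, T2 ξ := by
    rw [finsum_eq_finsum_subtype T2 p hT2p]
    apply finsum_congr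
    intro i
    show _ = (if δ i.1 + 1 = δ (genericPoint X) then _ else 0)
    rw [if_pos i.2.1]
  rw [hstepA]
  show ∑ᶠ ξ, α ξ * Cyc.secDivFun δ N ξ (genSec N hN ξ) x -
    ∑ᶠ ξ, β ξ * Cyc.secDivFun δ L ξ (genSec L hL ξ) x = _
  by_cases hx : δ x + 2 = δ (genericPoint X)
  swap
  · -- off the right dimension everything vanishes
    have hA0 : ∀ ξ, α ξ * Cyc.secDivFun δ N ξ (genSec N hN ξ) x = 0 := by
      intro ξ
      by_contra hne
      have h1 := (hαp ξ (left_ne_zero_of_mul hne)).1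
      have h2 : Cyc.secDivFun δ N ξ (genSec N hN ξ) x ≠ 0 := right_ne_zero_of_mul hne
      unfold Cyc.secDivFun at h2
      by_cases hc : ξ ⤳ x ∧ δ x + 1 = δ ξ
      · exact hx (by linarith [hc.2])
      · exact h2 (dif_neg hc)
    have hB0 : ∀ ξ, β ξ * Cyc.secDivFun δ L ξ (genSec L hL ξ) x = 0 := by
      intro ξ
      by_contra hne
      have h1 := (hβp ξ (left_ne_zero_of_mul hne)).1
      have h2 : Cyc.secDivFun δ L ξ (genSec L hL ξ) x ≠ 0 := right_ne_zero_of_mul hne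
      unfold Cyc.secDivFun at h2
      by_cases hc : ξ ⤳ x ∧ δ x + 1 = δ ξ
      · exact hx (by linarith [hc.2])
      · exact h2 (dif_neg hc)
    have hT0 : ∀ ξ, T2 ξ = 0 := by
      intro ξ
      show (if δ ξ + 1 = δ (genericPoint X) then _ else 0) = 0
      by_cases hc : δ ξ + 1 = δ (genericPoint X)
      · rw [if_pos hc]
        unfold Cyc.divFun
        by_cases hc2 : ξ ⤳ x ∧ δ x + 1 = δ ξ
        · exact absurd (by linarith [hc2.2]) hx
        · exact dif_neg hc2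
      · exact if_neg hc
    rw [finsum_congr hA0, finsum_congr hB0, finsum_congr hT0, finsum_zero, sub_zero]
  -- the codimension two points
  obtain ⟨U, hU, hxU, hfinU⟩ := locfin_KIdx δ hδ L N hL hN s hs t ht x
  have hSfin : {ξ : X | p ξ ∧ ξ ⤳ x}.Finite := by
    refine (hfinU.image Subtype.val).subset ?_
    rintro ξ ⟨hpξ, hξx⟩
    exact ⟨⟨ξ, hpξ⟩, ⟨x, hξx.mem_closure, hxU⟩, rfl⟩
  let A : X → ℤ := fun ξ => α ξ * Cyc.secDivFun δ N ξ (genSec N hN ξ) x
  let B : X → ℤ := fun ξ => β ξ * Cyc.secDivFun δ L ξ (genSec L hL ξ) x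
  let T3 : X → ℤ := fun ξ => if h : ξ ⤳ x ∧ δ x + 1 = δ ξ then
    Cyc.ordAt x ξ h.1 (tameAt ξ (aL x) (bN x)) else 0
  have hsd : ∀ (M : X.Modules) (ξ : X) (w : Cyc.secFibre M ξ),
      Cyc.secDivFun δ M ξ w x ≠ 0 → ξ ⤳ x := by
    intro M ξ w hne
    unfold Cyc.secDivFun at hne
    by_contra hn
    exact hne (dif_neg (fun h => hn h.1))
  have hAfin : (Function.support A).Finite := hSfin.subset (fun ξ hξ =>
    ⟨hαp ξ (left_ne_zero_of_mul hξ), hsd N ξ _ (right_ne_zero_of_mul hξ)⟩)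
  have hBfin : (Function.support B).Finite := hSfin.subset (fun ξ hξ =>
    ⟨hβp ξ (left_ne_zero_of_mul hξ), hsd L ξ _ (right_ne_zero_of_mul hξ)⟩)
  have hT2fin : (Function.support T2).Finite := hSfin.subset (fun ξ hξ => by
    refine ⟨hT2p ξ hξ, ?_⟩
    have hξ' : T2 ξ ≠ 0 := hξ
    by_cases hc : δ ξ + 1 = δ (genericPoint X)
    · have h1 : T2 ξ = Cyc.divFun δ ξ (tameAt ξ (aL ξ) (bN ξ)) x := if_pos hc
      rw [h1] at hξ'
      exact specializes_of_divFun_ne_zero δ ξ _ x hξ'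
    · exact absurd (if_neg hc) hξ')
  have hT : ∀ ξ, T2 ξ = T3 ξ + (A ξ - B ξ) := by
    intro ξ
    by_cases hc : ξ ⤳ x ∧ δ x + 1 = δ ξ
    · have hξ : δ ξ + 1 = δ (genericPoint X) := by linarith [hc.2]
      have e2 : T2 ξ = Cyc.ordAt x ξ hc.1 (tameAt ξ (aL ξ) (bN ξ)) := by
        show (if δ ξ + 1 = δ (genericPoint X) then _ else 0) = _
        rw [if_pos hξ]
        unfold Cyc.divFun
        rw [dif_pos hc]
      have e3 : T3 ξ = Cyc.ordAt x ξ hc.1 (tameAt ξ (aL x) (bN x)) := dif_pos hc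
      have eA : A ξ = Cyc.ordAt ξ (genericPoint X) (genericPoint_specializes ξ) (aL ξ) *
          Cyc.secOrdAt N ξ x hc.1 (genSec N hN ξ) := by
        show α ξ * Cyc.secDivFun δ N ξ (genSec N hN ξ) x = _
        rw [hαeq, if_pos hξ]
        unfold Cyc.secDivFun
        rw [dif_pos hc]
      have eB : B ξ = Cyc.ordAt ξ (genericPoint X) (genericPoint_specializes ξ) (bN ξ) *
          Cyc.secOrdAt L ξ x hc.1 (genSec L hL ξ) := by
        show β ξ * Cyc.secDivFun δ L ξ (genSec L hL ξ) x = _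
        rw [hβeq, if_pos hξ]
        unfold Cyc.secDivFun
        rw [dif_pos hc]
      rw [e2, e3, eA, eB]
      exact core_identity δ hδ L N hL hN s hs t ht hc.1 hc.2 hξ
    · have e2 : T2 ξ = 0 := by
        show (if δ ξ + 1 = δ (genericPoint X) then _ else 0) = 0
        by_cases hc' : δ ξ + 1 = δ (genericPoint X)
        · rw [if_pos hc']
          unfold Cyc.divFun
          exact dif_neg hc
        · exact if_neg hc'
      have e3 : T3 ξ = 0 := dif_neg hc
      have eA : A ξ = 0 := by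
        show α ξ * Cyc.secDivFun δ N ξ (genSec N hN ξ) x = 0
        unfold Cyc.secDivFun
        rw [dif_neg hc, mul_zero]
      have eB : B ξ = 0 := by
        show β ξ * Cyc.secDivFun δ L ξ (genSec L hL ξ) x = 0
        unfold Cyc.secDivFun
        rw [dif_neg hc, mul_zero]
      rw [e2, e3, eA, eB]
      ring
  have hT3fin : (Function.support T3).Finite := by
    refine ((hT2fin.union (hAfin.union hBfin))).subset ?_
    intro ξ hξ
    have hξ' : T3 ξ ≠ 0 := hξ
    by_contra hcon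
    simp only [Set.mem_union, Function.mem_support, not_or, not_not] at hcon
    apply hξ'
    have := hT ξ
    rw [hcon.1, hcon.2.1, hcon.2.2] at this
    linarith
  have h3 : ∑ᶠ ξ, T3 ξ = 0 :=
    finsum_ordAt_tameAt_eq_zero δ hδ x hx (coefK_ne_zero L hL s hs x)
      (coefK_ne_zero N hN t ht x)
  have hABfin : (Function.support fun ξ => A ξ - B ξ).Finite :=
    (hAfin.union hBfin).subset (Function.support_sub _ _)
  rw [finsum_congr hT, finsum_add_distrib hT3fin hABfin, h3, zero_add,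
    finsum_sub_distrib hAfin hBfin]


open Classical in
include hδ hs ht in
/-- **The key formula.** -/
theorem key_formula (γ : AlgebraicCycle X ℤ)
    (hγ : ∀ x, γ x =
      Cyc.c1CapFun δ N (Cyc.secDivFun δ L (genericPoint X) s) (genSec N hN) x -
      Cyc.c1CapFun δ L (Cyc.secDivFun δ N (genericPoint X) t) (genSec L hL) x)
    (n : ℤ) (hn : δ (genericPoint X) = n) : Cyc.RatEquivZero δ (n - 2) γ := by
  classical
  refine ⟨KIdx δ L N hL hN s t, fun i => i.1,
    fun i => tameAt i.1 (coefK L hL s i.1) (coefK N hN t i.1),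
    ?_, ?_, locfin_KIdx δ hδ L N hL hN s hs t ht, ?_⟩
  · intro i
    have h1 : δ i.1 + 1 = δ (genericPoint X) := i.2.1
    show δ i.1 = n - 2 + 1
    linarith
  · intro i
    exact tameAt_ne_zero (dim_le_one_of_codim_one δ hδ i.2.1) (coefK_ne_zero L hL s hs i.1)
      (coefK_ne_zero N hN t ht i.1)
  intro x
  rw [hγ]
  exact key_formula_sum δ hδ L N hL hN s hs t ht x

end Groth.Agent.Lib.Helper18.KeyGeo
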