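import Mathlib
import Groth.Prelude.Def_C1
import Groth.Prelude.Def_Pic
import Groth.Agent.Lib.Helper18.Cyc.KeyFormula

/-!
# Commutativity of `c_1 ∩ div` on an integral scheme
-/

set_option autoImplicit false
set_option maxHeartbeats 1000000
set_option linter.style.haveILetI false
universe u
open AlgebraicGeometry CategoryTheory IsLocalRing

namespace Groth.Agent.Lib.Helper18.KeyGeo

open Groth.Agent.Lib.Helper18.CycDiv Groth.Agent.Lib.Helper18.C1Core

variable {X : Scheme.{u}} [IsIntegral X] [IsLocallyNoetherian X]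

/-- The divisor of a rational section of an invertible module on an integral scheme has locally
finite support. -/
theorem locallyFiniteSupport_secDivFun_generic (δ : X → ℤ) (hδ : Cyc.IsDimFun X δ)
    (L : X.Modules) (hL : PicF.IsInvertible L) (s : Cyc.secFibre L (genericPoint X))
    (hs : s ≠ 0) : LocallyFiniteSupport (Cyc.secDivFun δ L (genericPoint X) s) := by
  classical
  intro z
  obtain ⟨U, hzU, hfin⟩ := exists_finite_nonunit δ hδ L hL s hs z
  refine ⟨U, U.isOpen.mem_nhds hzU, hfin.subset ?_⟩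
  rintro ξ ⟨hξU, hξ⟩
  rw [Function.mem_support, secDivFun_generic L hL s δ ξ] at hξ
  by_cases hc : δ ξ + 1 = δ (genericPoint X)
  · rw [if_pos hc] at hξ
    exact ⟨hξU, hc, fun hu => hξ hu.ordAt_eq_zero⟩
  · rw [if_neg hc] at hξ
    exact absurd rfl hξ

/-- Commutativity of `c_1 ∩ div` on an integral scheme. -/
theorem c1Cap_divSec_comm (δ : X → ℤ) (hδ : Cyc.IsDimFun X δ) (n : ℤ)
    (hn : δ (genericPoint X) = n) (L N : X.Modules) (hL : PicF.IsInvertible L)
    (hN : PicF.IsInvertible N) (s : Cyc.secFibre L (genericPoint X)) (hs : s ≠ 0)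
    (t : Cyc.secFibre N (genericPoint X)) (ht : t ≠ 0) (u : (ξ : X) → Cyc.secFibre N ξ)
    (hu : ∀ ξ, u ξ ≠ 0) (v : (ξ : X) → Cyc.secFibre L ξ) (hv : ∀ ξ, v ξ ≠ 0)
    (γ₁ γ₂ : AlgebraicCycle X ℤ)
    (h₁ : ⇑γ₁ = Cyc.c1CapFun δ N (Cyc.secDivFun δ L (genericPoint X) s) u)
    (h₂ : ⇑γ₂ = Cyc.c1CapFun δ L (Cyc.secDivFun δ N (genericPoint X) t) v) :
    Cyc.RatEquiv δ (n - 2) γ₁ γ₂ := by
  classical
  have hαLFS := locallyFiniteSupport_secDivFun_generic δ hδ L hL s hs
  have hβLFS := locallyFiniteSupport_secDivFun_generic δ hδ N hN t ht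
  have hαk : ∀ ξ, Cyc.secDivFun δ L (genericPoint X) s ξ ≠ 0 → δ ξ = n - 2 + 1 := by
    intro ξ hξ
    rw [secDivFun_generic L hL s δ ξ] at hξ
    by_cases hc : δ ξ + 1 = δ (genericPoint X)
    · linarith
    · rw [if_neg hc] at hξ
      exact absurd rfl hξ
  have hβk : ∀ ξ, Cyc.secDivFun δ N (genericPoint X) t ξ ≠ 0 → δ ξ = n - 2 + 1 := by
    intro ξ hξ
    rw [secDivFun_generic N hN t δ ξ] at hξ
    by_cases hc : δ ξ + 1 = δ (genericPoint X)
    · linarith
    · rw [if_neg hc] at hξ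
      exact absurd rfl hξ
  let G₁ : AlgebraicCycle X ℤ :=
    { toFun := Cyc.c1CapFun δ N (Cyc.secDivFun δ L (genericPoint X) s) (genSec N hN)
      supportWithinDomain' := Set.subset_univ _
      supportLocallyFiniteWithinDomain' := fun y _ =>
        locallyFiniteSupport_c1CapFun N hN δ hδ _ hαLFS _ (genSec_ne_zero N hN) y }
  let G₂ : AlgebraicCycle X ℤ :=
    { toFun := Cyc.c1CapFun δ L (Cyc.secDivFun δ N (genericPoint X) t) (genSec L hL)
      supportWithinDomain' := Set.subset_univ _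
      supportLocallyFiniteWithinDomain' := fun y _ =>
        locallyFiniteSupport_c1CapFun L hL δ hδ _ hβLFS _ (genSec_ne_zero L hL) y }
  have e1 : Cyc.RatEquivZero δ (n - 2) (γ₁ - G₁) :=
    ratEquivZero_c1CapFun_sub N hN δ hδ (n - 2) _ hαk hαLFS u (genSec N hN) hu
      (genSec_ne_zero N hN) (γ₁ - G₁) (fun x => by
        show γ₁ x - G₁ x = _
        rw [h₁]
        rfl)
  have e2 : Cyc.RatEquivZero δ (n - 2) (G₁ - G₂) :=
    key_formula δ hδ L N hL hN s hs t ht (G₁ - G₂) (fun x => rfl) n hn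
  have e3 : Cyc.RatEquivZero δ (n - 2) (G₂ - γ₂) :=
    ratEquivZero_c1CapFun_sub L hL δ hδ (n - 2) _ hβk hβLFS (genSec L hL) v
      (genSec_ne_zero L hL) hv (G₂ - γ₂) (fun x => by
        show G₂ x - γ₂ x = _
        rw [h₂]
        rfl)
  have e := ratEquivZero_add δ (n - 2) _ _ e1 (ratEquivZero_add δ (n - 2) _ _ e2 e3)
  refine ratEquivZero_of_eq δ (n - 2) _ _ ?_ e
  intro x
  show (γ₁ x - G₁ x) + ((G₁ x - G₂ x) + (G₂ x - γ₂ x)) = γ₁ x - γ₂ x
  ring

end Groth.Agent.Lib.Helper18.KeyGeo
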