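import Mathlib
import Groth.Prelude.Def_C1
import Groth.Prelude.Def_Pic
import Groth.Agent.Lib.Helper18.Cyc.KeyComm
import Groth.Agent.Lib.Helper18.Cyc.RatPres
import Groth.Agent.Lib.Helper18.Cyc.C1Unit
import Groth.Agent.Lib.Helper18.Cyc.ClSub

/-!
# `c_1(L) ∩ div(f) ∼ 0` for a rational function on an integral closed subscheme
-/

set_option autoImplicit false
set_option maxHeartbeats 1000000
set_option linter.style.haveILetI false
universe u
open AlgebraicGeometry CategoryTheory IsLocalRing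

namespace Groth.Agent.Lib.Helper18.KeyGeo

open Groth.Agent.Lib.Helper18.CycDiv Groth.Agent.Lib.Helper18.C1Core
open Groth.Agent.Lib.Helper18.CycUnitStalk Groth.Agent.Lib.Helper18.InvStalk
open Groth.Agent.Lib.Helper28.PullbackInv

variable {X Z : Scheme.{u}}

/-- the section `1` of the structure sheaf in the fibre at `ξ` -/
noncomputable def oneSec (X : Scheme.{u}) (ξ : X) : Cyc.secFibre (Coh.structureModule X) ξ :=
  Submodule.Quotient.mk (one X ξ)

theorem smul_oneSec_ne_zero (ξ : X) (φ : X.presheaf.stalk ξ) (hφ : X.residue ξ φ ≠ 0) :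
    φ • oneSec X ξ ≠ 0 := by
  intro h0
  have hu : IsUnit φ := by
    by_contra hnu
    apply hφ
    exact (IsLocalRing.residue_eq_zero_iff _).2 ((IsLocalRing.mem_maximalIdeal _).2 hnu)
  have h1 : oneSec X ξ = 0 := by
    have := congrArg (fun w => (hu.unit⁻¹ : (X.presheaf.stalk ξ)ˣ) • w) h0
    simpa [Units.smul_def, ← mul_smul] using this
  unfold oneSec at h1
  rw [Submodule.Quotient.mk_eq_zero, ← (freeGen_one ξ).1,
    Submodule.mem_smul_span_singleton] at h1
  obtain ⟨y, hy, hyg⟩ := h1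
  have h2 : y • one X ξ = (1 : X.presheaf.stalk ξ) • one X ξ := by rw [hyg, one_smul]
  have hy1 : y = 1 := (freeGen_one ξ).smul_inj h2
  rw [hy1] at hy
  exact (Ideal.ne_top_iff_one _).1 (IsLocalRing.maximalIdeal.isMaximal _).ne_top hy

theorem oneSec_ne_zero (ξ : X) : oneSec X ξ ≠ 0 := by
  have := smul_oneSec_ne_zero ξ 1 (by rw [map_one]; exact one_ne_zero)
  rwa [one_smul] at this

theorem divFun_one' (δ : X → ℤ) (ξ x : X) : Cyc.divFun δ ξ (1 : X.residueField ξ) x = 0 := by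
  classical
  unfold Cyc.divFun
  split_ifs with h
  · exact ordAt_one h.1
  · rfl

theorem secDivFun_oneSec [IsLocallyNoetherian X] (δ : X → ℤ) (hδ : Cyc.IsDimFun X δ) (ξ x : X) :
    Cyc.secDivFun δ (Coh.structureModule X) ξ (oneSec X ξ) x = 0 := by
  have h := secDivFun_structure δ hδ ξ 1 (by rw [map_one]; exact one_ne_zero) x
  rw [one_smul, map_one, divFun_one'] at h
  exact h

/-- `c_1(L) ∩ i_* div(f) ∼ 0` for a closed immersion `i : Z → X` from an integral scheme. -/
theorem ratPres_c1Cap_div_of_closedImmersion [IsIntegral Z] [IsLocallyNoetherian X]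
    [IsLocallyNoetherian Z] (i : Z ⟶ X) [IsClosedImmersion i] (δ : X → ℤ)
    (hδ : Cyc.IsDimFun X δ) (L : X.Modules) (hL : PicF.IsInvertible L)
    (s : (ξ : X) → Cyc.secFibre L ξ) (hs : ∀ ξ, s ξ ≠ 0)
    (f : X.residueField (i (genericPoint Z))) (hf : f ≠ 0)
    (k : ℤ) (hk : δ (i (genericPoint Z)) = k + 2) :
    RatPres δ k (Cyc.c1CapFun δ L (Cyc.divFun δ (i (genericPoint Z)) f) s) (Set.range i) := by
  classical
  set δZ : Z → ℤ := fun z => δ (i z) with hδZdef
  have hδZ : Cyc.IsDimFun Z δZ := isDimFun_comp_of_isClosedImmersion i δ hδ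
  set g : Z.residueField (genericPoint Z) := (i.residueFieldMap (genericPoint Z)).hom f with hgdef
  have hg : g ≠ 0 := (map_ne_zero_iff _ (i.residueFieldMap (genericPoint Z)).hom.injective).2 hf
  obtain ⟨φ, hφ⟩ : ∃ φ : Z.presheaf.stalk (genericPoint Z), Z.residue (genericPoint Z) φ = g :=
    IsLocalRing.residue_surjective g
  have hφ0 : Z.residue (genericPoint Z) φ ≠ 0 := hφ ▸ hg
  set M := (Scheme.Modules.pullback i).obj L with hMdef
  have hM : PicF.IsInvertible M := isInvertible_pullback i hL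
  have hO := isInvertible_structureModule Z
  set u : (y : Z) → Cyc.secFibre M y := fun y => pullSec i L y (s (i y)) with hudef
  have hu : ∀ y, u y ≠ 0 := fun y => pullSec_ne_zero i hL y _ (hs (i y))
  set s₁ : Cyc.secFibre (Coh.structureModule Z) (genericPoint Z) := φ • oneSec Z (genericPoint Z) with hs₁def
  have hs₁ : s₁ ≠ 0 := smul_oneSec_ne_zero (genericPoint Z) φ hφ0
  have hLFS₁ := locallyFiniteSupport_secDivFun_generic δZ hδZ (Coh.structureModule Z) hO s₁ hs₁
  have hLFS₂ := locallyFiniteSupport_secDivFun_generic δZ hδZ M hM (u (genericPoint Z)) (hu (genericPoint Z))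
  let γ₁ : AlgebraicCycle Z ℤ :=
    { toFun := Cyc.c1CapFun δZ M (Cyc.secDivFun δZ (Coh.structureModule Z) (genericPoint Z) s₁) u
      supportWithinDomain' := Set.subset_univ _
      supportLocallyFiniteWithinDomain' := fun y _ =>
        locallyFiniteSupport_c1CapFun M hM δZ hδZ _ hLFS₁ _ hu y }
  let γ₂ : AlgebraicCycle Z ℤ :=
    { toFun := Cyc.c1CapFun δZ (Coh.structureModule Z) (Cyc.secDivFun δZ M (genericPoint Z) (u (genericPoint Z))) (oneSec Z)
      supportWithinDomain' := Set.subset_univ _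
      supportLocallyFiniteWithinDomain' := fun y _ =>
        locallyFiniteSupport_c1CapFun _ hO δZ hδZ _ hLFS₂ _ oneSec_ne_zero y }
  have hcomm : Cyc.RatEquiv δZ (k + 2 - 2) γ₁ γ₂ :=
    c1Cap_divSec_comm δZ hδZ (k + 2) hk (Coh.structureModule Z) M hO hM s₁ hs₁ (u (genericPoint Z)) (hu (genericPoint Z))
      u hu (oneSec Z) oneSec_ne_zero γ₁ γ₂ rfl rfl
  have hk2 : k + 2 - 2 = k := by ring
  rw [hk2] at hcomm
  have hγ₂ : ∀ z, γ₂ z = 0 := by
    intro z
    show ∑ᶠ ξ : Z, _ * Cyc.secDivFun δZ (Coh.structureModule Z) ξ (oneSec Z ξ) z = 0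
    apply finsum_eq_zero_of_forall_eq_zero
    intro ξ
    rw [secDivFun_oneSec δZ hδZ ξ z, mul_zero]
  have h1 : Cyc.RatEquivZero δZ k γ₁ := by
    refine ratEquivZero_of_eq δZ k (γ₁ - γ₂) γ₁ (fun z => ?_) hcomm
    show γ₁ z - γ₂ z = γ₁ z
    rw [hγ₂ z, sub_zero]
  have h2 : RatPres δZ k ⇑γ₁ Set.univ := ratPres_of_ratEquivZero γ₁ h1
  have hβ : ∀ z, Cyc.divFun δ (i (genericPoint Z)) f (i z) = Cyc.divFun δZ (genericPoint Z) g z := fun z =>
    divFun_preimmersion i δ (genericPoint Z) f z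
  have hcl : IsClosed (Set.range i) := i.isClosedEmbedding.isClosed_range
  have hβ0 : ∀ x, x ∉ Set.range i → Cyc.divFun δ (i (genericPoint Z)) f x = 0 := by
    intro x hx
    unfold Cyc.divFun
    rw [dif_neg]
    intro hc
    exact hx (hc.1.mem_closed hcl ⟨(genericPoint Z), rfl⟩)
  obtain ⟨hc1, hc2⟩ := c1CapFun_closedImmersion i δ hδ L hL (Cyc.divFun δZ (genericPoint Z) g)
    (Cyc.divFun δ (i (genericPoint Z)) f) hβ hβ0 s hs
  refine ratPres_push_closedImmersion i δ k ⇑γ₁ h2 _ (fun z => ?_) hc2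
  rw [hc1 z]
  show Cyc.c1CapFun δZ M (Cyc.divFun δZ (genericPoint Z) g) u z =
    Cyc.c1CapFun δZ M (Cyc.secDivFun δZ (Coh.structureModule Z) (genericPoint Z) s₁) u z
  have hfun : Cyc.secDivFun δZ (Coh.structureModule Z) (genericPoint Z) s₁ = Cyc.divFun δZ (genericPoint Z) g := by
    funext x
    rw [hs₁def]
    unfold oneSec
    rw [secDivFun_structure δZ hδZ (genericPoint Z) φ hφ0 x, hφ]
  rw [hfun]

end Groth.Agent.Lib.Helper18.KeyGeo
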