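import Mathlib
import Groth.Prelude.Def_C1
import Groth.Prelude.Def_Pic
import Groth.Agent.Lib.Helper18.Cyc.C1RatSingle

/-!
# `c_1(L) ∩ -` preserves rational equivalence
-/

set_option autoImplicit false
set_option maxHeartbeats 1000000
set_option linter.style.haveILetI false
universe u
open AlgebraicGeometry CategoryTheory IsLocalRing

namespace Groth.Agent.Lib.Helper18.KeyGeo

open Groth.Agent.Lib.Helper18.CycDiv Groth.Agent.Lib.Helper18.C1Core
open Groth.Agent.Lib.Helper18.ClSub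

variable {X : Scheme.{u}}

theorem locallyFiniteSupport_divFun_single [IsLocallyNoetherian X] (δ : X → ℤ) (ξ : X)
    (f : X.residueField ξ) (hf : f ≠ 0) : LocallyFiniteSupport (Cyc.divFun δ ξ f) := by
  have h := locallyFiniteSupport_finsum_divFun'' δ (fun _ : PUnit.{1} => ξ) (fun _ => f)
    (fun _ => hf) (fun x => ⟨Set.univ, isOpen_univ, trivial, Set.toFinite _⟩)
  have h2 : (fun x => ∑ᶠ _i : PUnit.{1}, Cyc.divFun δ ξ f x) = Cyc.divFun δ ξ f := by
    funext x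
    rw [finsum_unique]
  rw [← h2]
  exact h

theorem specializes_of_secDivFun_ne_zero (δ : X → ℤ) (L : X.Modules) (ξ : X)
    (s : Cyc.secFibre L ξ) (x : X) (h : Cyc.secDivFun δ L ξ s x ≠ 0) : ξ ⤳ x := by
  unfold Cyc.secDivFun at h
  by_contra hc
  exact h (dif_neg fun hh => hc hh.1)

/-- `c_1(L) ∩ div(f) ∼ 0`, with control on the support -/
theorem ratPres_c1Cap_div [IsLocallyNoetherian X] (δ : X → ℤ) (hδ : Cyc.IsDimFun X δ)
    (L : X.Modules) (hL : PicF.IsInvertible L) (s : (ξ : X) → Cyc.secFibre L ξ)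
    (hs : ∀ ξ, s ξ ≠ 0) (k : ℤ) (ξ : X) (f : X.residueField ξ) (hf : f ≠ 0)
    (hk : δ ξ = k + 2) :
    RatPres δ k (Cyc.c1CapFun δ L (Cyc.divFun δ ξ f) s) (closure {ξ}) := by
  have key : ∀ (p : X) (hp : p = ξ) (f' : X.residueField p), f' ≠ 0 → δ p = k + 2 →
      Set.range (clι ξ) = closure {ξ} → (∀ g : X.residueField p, g ≠ 0 →
        RatPres δ k (Cyc.c1CapFun δ L (Cyc.divFun δ p g) s) (Set.range (clι ξ))) →
      RatPres δ k (Cyc.c1CapFun δ L (Cyc.divFun δ p f') s) (closure {p}) := by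
    intro p hp f' hf' _ hr hall
    subst hp
    rw [← hr]
    exact hall f' hf'
  have hp := clι_genericPoint ξ
  have hall : ∀ g : X.residueField (clι ξ (genericPoint (cl ξ))), g ≠ 0 →
      RatPres δ k (Cyc.c1CapFun δ L (Cyc.divFun δ (clι ξ (genericPoint (cl ξ))) g) s)
        (Set.range (clι ξ)) := fun g hg =>
    ratPres_c1Cap_div_of_closedImmersion (clι ξ) δ hδ L hL s hs g hg k (by rw [hp]; exact hk)
  revert hall
  generalize clι ξ (genericPoint (cl ξ)) = p at hp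
  intro hall
  subst hp
  rw [← range_clι]
  exact hall f hf

/-- `c_1(L) ∩ -` of a locally finite sum of principal divisors, termwise -/
theorem c1CapFun_finsum_divFun [IsLocallyNoetherian X] (δ : X → ℤ) (L : X.Modules)
    {ι : Type*} (ξ : ι → X) (f : (i : ι) → X.residueField (ξ i)) (hf : ∀ i, f i ≠ 0)
    (hlf : ∀ x : X, ∃ U : Set X, IsOpen U ∧ x ∈ U ∧ {i | (closure {ξ i} ∩ U).Nonempty}.Finite)
    (α : X → ℤ) (hsum : ∀ x : X, α x = ∑ᶠ i, Cyc.divFun δ (ξ i) (f i) x)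
    (s : (ξ : X) → Cyc.secFibre L ξ) (x : X) :
    Cyc.c1CapFun δ L α s x = ∑ᶠ i, Cyc.c1CapFun δ L (Cyc.divFun δ (ξ i) (f i)) s x := by
  classical
  symm
  show ∑ᶠ i, ∑ᶠ η : X, Cyc.divFun δ (ξ i) (f i) η * Cyc.secDivFun δ L η (s η) x =
    ∑ᶠ η : X, α η * Cyc.secDivFun δ L η (s η) x
  -- the two-variable function has finite support
  set G : ι × X → ℤ := fun p =>
    Cyc.divFun δ (ξ p.1) (f p.1) p.2 * Cyc.secDivFun δ L p.2 (s p.2) x with hG
  have hGfin : (Function.support G).Finite := by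
    obtain ⟨U, hUo, hxU, hfin⟩ := hlf x
    have hfin2 : ∀ i, {η : X | Cyc.divFun δ (ξ i) (f i) η ≠ 0 ∧ η ⤳ x}.Finite := by
      intro i
      obtain ⟨t, ht, htfin⟩ := locallyFiniteSupport_divFun_single δ (ξ i) (f i) (hf i) x
      refine htfin.subset ?_
      rintro η ⟨h1, h2⟩
      obtain ⟨V, hVt, hVo, hxV⟩ := mem_nhds_iff.1 ht
      exact ⟨hVt (h2.mem_open hVo hxV), h1⟩
    have hfinU : (⋃ i ∈ hfin.toFinset,
        (Prod.mk i) '' {η : X | Cyc.divFun δ (ξ i) (f i) η ≠ 0 ∧ η ⤳ x}).Finite :=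
      Set.Finite.biUnion (Finset.finite_toSet _) fun i _ => (hfin2 i).image _
    refine hfinU.subset ?_
    rintro ⟨i, η⟩ hp
    rw [Function.mem_support] at hp
    have h1 : Cyc.divFun δ (ξ i) (f i) η ≠ 0 := left_ne_zero_of_mul hp
    have h2 : Cyc.secDivFun δ L η (s η) x ≠ 0 := right_ne_zero_of_mul hp
    have hηx : η ⤳ x := specializes_of_secDivFun_ne_zero δ L η (s η) x h2
    have hξη : ξ i ⤳ η := specializes_of_divFun_ne_zero δ (ξ i) (f i) η h1
    have hi : i ∈ hfin.toFinset := by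
      rw [Set.Finite.mem_toFinset]
      exact ⟨η, hξη.mem_closure, hηx.mem_open hUo hxU⟩
    exact Set.mem_iUnion₂.2 ⟨i, hi, ⟨η, ⟨h1, hηx⟩, rfl⟩⟩
  have hL1 : ∑ᶠ i, ∑ᶠ η : X, Cyc.divFun δ (ξ i) (f i) η * Cyc.secDivFun δ L η (s η) x =
      ∑ᶠ p, G p := (finsum_curry G hGfin).symm
  have hGfin' : (Function.support (G ∘ Prod.swap)).Finite := by
    refine (hGfin.image Prod.swap).subset ?_
    rintro ⟨η, i⟩ hp
    exact ⟨(i, η), hp, rfl⟩
  have hL2 : ∑ᶠ p, G p = ∑ᶠ η : X, ∑ᶠ i, G (i, η) := by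
    rw [← finsum_comp_equiv (Equiv.prodComm X ι) (f := G)]
    exact finsum_curry (G ∘ Prod.swap) hGfin'
  rw [hL1, hL2]
  apply finsum_congr
  intro η
  show ∑ᶠ i, Cyc.divFun δ (ξ i) (f i) η * Cyc.secDivFun δ L η (s η) x = _
  rw [← finsum_mul, hsum η]

/-- `c_1(L) ∩ -` preserves rational equivalence to zero -/
theorem c1Cap_ratEquivZero [IsLocallyNoetherian X] (δ : X → ℤ) (hδ : Cyc.IsDimFun X δ)
    (L : X.Modules) (hL : PicF.IsInvertible L) (k : ℤ) (α : AlgebraicCycle X ℤ)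
    (h0 : Cyc.RatEquivZero δ (k + 1) α) (s : (ξ : X) → Cyc.secFibre L ξ) (hs : ∀ ξ, s ξ ≠ 0)
    (γ : AlgebraicCycle X ℤ) (hγ : ⇑γ = Cyc.c1CapFun δ L ⇑α s) : Cyc.RatEquivZero δ k γ := by
  classical
  obtain ⟨ι, ξ, f, hd, hf, hlf, hsum⟩ := h0
  have hlf' : ∀ x : X, ∃ U : Set X, IsOpen U ∧ x ∈ U ∧
      {i | ((fun i => closure ({ξ i} : Set X)) i ∩ U).Nonempty}.Finite := hlf
  have hpres := ratPres_finsum (δ := δ) (k := k) (fun i => closure ({ξ i} : Set X))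
    (fun i => isClosed_closure) hlf'
    (fun i => Cyc.c1CapFun δ L (Cyc.divFun δ (ξ i) (f i)) s)
    (fun i => ratPres_c1Cap_div δ hδ L hL s hs k (ξ i) (f i) (hf i) (by rw [hd i]; ring))
  refine RatPres.ratEquivZero γ (hpres.congr fun x => ?_)
  rw [hγ]
  exact (c1CapFun_finsum_divFun δ L ξ f hf hlf ⇑α hsum s x).symm

end Groth.Agent.Lib.Helper18.KeyGeo
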