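import Mathlib
import Groth.Prelude.Def_C1
import Groth.Prelude.Def_Pic
import Groth.Agent.Lib.Helper18.Cyc.C1Rat

/-!
# Commutativity of `c_1(L) ∩ -` and `c_1(N) ∩ -`
-/

set_option autoImplicit false
set_option maxHeartbeats 1000000
set_option linter.style.haveILetI false
universe u
open AlgebraicGeometry CategoryTheory IsLocalRing

namespace Groth.Agent.Lib.Helper18.KeyGeo

open Groth.Agent.Lib.Helper18.CycDiv Groth.Agent.Lib.Helper18.C1Core
open Groth.Agent.Lib.Helper18.ClSub Groth.Agent.Lib.Helper28.PullbackInv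

variable {X Z : Scheme.{u}}

/-- the zero function is presented by the empty family -/
theorem ratPres_zero (δ : X → ℤ) (k : ℤ) (S : Set X) : RatPres δ k (fun _ => 0) S := by
  refine ⟨PEmpty, fun e => e.elim, fun e => e.elim, fun e => e.elim, fun e => e.elim,
    fun e => e.elim, fun x => ⟨Set.univ, isOpen_univ, trivial, Set.toFinite _⟩, fun x => ?_⟩
  rw [finsum_of_isEmpty]

/-- integer multiples of presentations -/
theorem RatPres.zsmul {δ : X → ℤ} {k : ℤ} {S : Set X} {F : X → ℤ} (h : RatPres δ k F S)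
    (n : ℤ) : RatPres δ k (fun x => n * F x) S := by
  obtain ⟨ι, ξ, f, h1, h2, hS, h3, h4⟩ := h
  refine ⟨ι, ξ, fun i => f i ^ n, h1, fun i => zpow_ne_zero n (h2 i), hS, h3, fun x => ?_⟩
  show n * F x = ∑ᶠ i, Cyc.divFun δ (ξ i) (f i ^ n) x
  rw [h4 x, mul_finsum]
  apply finsum_congr
  intro i
  rw [divFun_zpow]

/-- the divisor of a single rational section has locally finite support -/
theorem locallyFiniteSupport_secDivFun [IsLocallyNoetherian X] (N : X.Modules)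
    (hN : PicF.IsInvertible N) (δ : X → ℤ) (hδ : Cyc.IsDimFun X δ) (ξ : X)
    (t : Cyc.secFibre N ξ) (ht : t ≠ 0) : LocallyFiniteSupport (Cyc.secDivFun δ N ξ t) := by
  classical
  have hβ : LocallyFiniteSupport (Pi.single ξ (1 : ℤ) : X → ℤ) := by
    intro z
    refine ⟨Set.univ, Filter.univ_mem, (Set.finite_singleton ξ).subset ?_⟩
    rintro y ⟨-, hy⟩
    rw [Function.mem_support] at hy
    by_contra hne
    exact hy (Pi.single_eq_of_ne hne _)
  have hs : ∀ y, Function.update (genSec N hN) ξ t y ≠ 0 := by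
    intro y
    by_cases hy : y = ξ
    · subst hy
      rw [Function.update_self]
      exact ht
    · rw [Function.update_of_ne hy]
      exact genSec_ne_zero N hN y
  have h := locallyFiniteSupport_c1CapFun N hN δ hδ _ hβ _ hs
  have h2 : Cyc.c1CapFun δ N (Pi.single ξ (1 : ℤ)) (Function.update (genSec N hN) ξ t) =
      Cyc.secDivFun δ N ξ t := by
    funext x
    show ∑ᶠ y : X, (Pi.single ξ (1 : ℤ) : X → ℤ) y *
      Cyc.secDivFun δ N y (Function.update (genSec N hN) ξ t y) x = _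
    rw [finsum_eq_single _ ξ]
    · rw [Pi.single_eq_same, one_mul, Function.update_self]
    · intro y hy
      rw [Pi.single_eq_of_ne hy, zero_mul]
  rw [← h2]
  exact h

/-- expanding `c_1(L) ∩ (c_1(N) ∩ α)` linearly in `α` -/
theorem c1CapFun_c1CapFun_expand [IsLocallyNoetherian X] (δ : X → ℤ) (hδ : Cyc.IsDimFun X δ)
    (L N : X.Modules) (hN : PicF.IsInvertible N)
    (α : X → ℤ) (hα : LocallyFiniteSupport α) (sN : (ξ : X) → Cyc.secFibre N ξ)
    (hsN : ∀ ξ, sN ξ ≠ 0) (sL : (ξ : X) → Cyc.secFibre L ξ) (x : X) :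
    (Function.support fun ξ : X =>
      α ξ * Cyc.c1CapFun δ L (Cyc.secDivFun δ N ξ (sN ξ)) sL x).Finite ∧
    Cyc.c1CapFun δ L (Cyc.c1CapFun δ N α sN) sL x =
      ∑ᶠ ξ : X, α ξ * Cyc.c1CapFun δ L (Cyc.secDivFun δ N ξ (sN ξ)) sL x := by
  classical
  set G : X × X → ℤ := fun p =>
    α p.1 * Cyc.secDivFun δ N p.1 (sN p.1) p.2 * Cyc.secDivFun δ L p.2 (sL p.2) x with hG
  obtain ⟨t, ht, htfin⟩ := hα x
  obtain ⟨V, hVt, hVo, hxV⟩ := mem_nhds_iff.1 ht
  have hfin2 : ∀ ξ, {η : X | Cyc.secDivFun δ N ξ (sN ξ) η ≠ 0 ∧ η ⤳ x}.Finite := by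
    intro ξ
    obtain ⟨t', ht', htfin'⟩ := locallyFiniteSupport_secDivFun N hN δ hδ ξ (sN ξ) (hsN ξ) x
    refine htfin'.subset ?_
    rintro η ⟨h1, h2⟩
    obtain ⟨V', hVt', hVo', hxV'⟩ := mem_nhds_iff.1 ht'
    exact ⟨hVt' (h2.mem_open hVo' hxV'), h1⟩
  have hGfin : (Function.support G).Finite := by
    have hfinU : (⋃ ξ ∈ htfin.toFinset,
        (Prod.mk ξ) '' {η : X | Cyc.secDivFun δ N ξ (sN ξ) η ≠ 0 ∧ η ⤳ x}).Finite :=
      Set.Finite.biUnion (Finset.finite_toSet _) fun ξ _ => (hfin2 ξ).image _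
    refine hfinU.subset ?_
    rintro ⟨ξ, η⟩ hp
    rw [Function.mem_support] at hp
    have h12 : α ξ * Cyc.secDivFun δ N ξ (sN ξ) η ≠ 0 := left_ne_zero_of_mul hp
    have h1 : α ξ ≠ 0 := left_ne_zero_of_mul h12
    have h2 : Cyc.secDivFun δ N ξ (sN ξ) η ≠ 0 := right_ne_zero_of_mul h12
    have h3 : Cyc.secDivFun δ L η (sL η) x ≠ 0 := right_ne_zero_of_mul hp
    have hηx : η ⤳ x := specializes_of_secDivFun_ne_zero δ L η (sL η) x h3
    have hξη : ξ ⤳ η := specializes_of_secDivFun_ne_zero δ N ξ (sN ξ) η h2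
    have hξ : ξ ∈ htfin.toFinset := by
      rw [Set.Finite.mem_toFinset]
      exact ⟨hVt ((hξη.trans hηx).mem_open hVo hxV), h1⟩
    exact Set.mem_iUnion₂.2 ⟨ξ, hξ, ⟨η, ⟨h2, hηx⟩, rfl⟩⟩
  have hGfin' : (Function.support (G ∘ Prod.swap)).Finite := by
    refine (hGfin.image Prod.swap).subset ?_
    rintro ⟨η, ξ⟩ hp
    exact ⟨(ξ, η), hp, rfl⟩
  have hR : ∀ ξ : X, α ξ * Cyc.c1CapFun δ L (Cyc.secDivFun δ N ξ (sN ξ)) sL x =
      ∑ᶠ η : X, G (ξ, η) := by
    intro ξ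
    show α ξ * ∑ᶠ η : X, Cyc.secDivFun δ N ξ (sN ξ) η * Cyc.secDivFun δ L η (sL η) x = _
    rw [mul_finsum]
    apply finsum_congr
    intro η
    exact (mul_assoc _ _ _).symm
  constructor
  · refine (hGfin.image Prod.fst).subset ?_
    intro ξ hξ
    rw [Function.mem_support, hR ξ] at hξ
    obtain ⟨η, hη⟩ : ∃ η, G (ξ, η) ≠ 0 := by
      by_contra hcon
      push_neg at hcon
      exact hξ (finsum_eq_zero_of_forall_eq_zero hcon)
    exact ⟨(ξ, η), hη, rfl⟩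
  · have hL1 : ∑ᶠ ξ : X, ∑ᶠ η : X, G (ξ, η) = ∑ᶠ p, G p := (finsum_curry G hGfin).symm
    have hL2 : ∑ᶠ p, G p = ∑ᶠ η : X, ∑ᶠ ξ : X, G (ξ, η) := by
      rw [← finsum_comp_equiv (Equiv.prodComm X X) (f := G)]
      exact finsum_curry (G ∘ Prod.swap) hGfin'
    rw [finsum_congr hR, hL1, hL2]
    show ∑ᶠ η : X, (∑ᶠ ξ : X, α ξ * Cyc.secDivFun δ N ξ (sN ξ) η) *
      Cyc.secDivFun δ L η (sL η) x = _
    apply finsum_congr
    intro η
    rw [finsum_mul]

theorem secDivFun_eq_zero_of_not_mem_range (i : Z ⟶ X) [IsClosedImmersion i] (δ : X → ℤ)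
    (N : X.Modules) (z : Z) (t : Cyc.secFibre N (i z)) (x : X) (hx : x ∉ Set.range i) :
    Cyc.secDivFun δ N (i z) t x = 0 := by
  have hcl : IsClosed (Set.range i) := i.isClosedEmbedding.isClosed_range
  unfold Cyc.secDivFun
  rw [dif_neg]
  intro hc
  exact hx (hc.1.mem_closed hcl ⟨z, rfl⟩)

/-- commutativity for the fundamental cycle of an integral closed subscheme -/
theorem ratPres_c1Cap_comm_of_closedImmersion [IsIntegral Z] [IsLocallyNoetherian X]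
    [IsLocallyNoetherian Z] (i : Z ⟶ X) [IsClosedImmersion i] (δ : X → ℤ)
    (hδ : Cyc.IsDimFun X δ) (L N : X.Modules) (hL : PicF.IsInvertible L)
    (hN : PicF.IsInvertible N)
    (sL : (ξ : X) → Cyc.secFibre L ξ) (hsL : ∀ ξ, sL ξ ≠ 0)
    (sN : (ξ : X) → Cyc.secFibre N ξ) (hsN : ∀ ξ, sN ξ ≠ 0)
    (t : Cyc.secFibre N (i (genericPoint Z))) (ht : t ≠ 0)
    (s : Cyc.secFibre L (i (genericPoint Z))) (hs : s ≠ 0)
    (k : ℤ) (hk : δ (i (genericPoint Z)) = k + 2) :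
    RatPres δ k (fun x => Cyc.c1CapFun δ L (Cyc.secDivFun δ N (i (genericPoint Z)) t) sL x -
      Cyc.c1CapFun δ N (Cyc.secDivFun δ L (i (genericPoint Z)) s) sN x) (Set.range i) := by
  classical
  set δZ : Z → ℤ := fun z => δ (i z) with hδZdef
  have hδZ : Cyc.IsDimFun Z δZ := isDimFun_comp_of_isClosedImmersion i δ hδ
  set ML := (Scheme.Modules.pullback i).obj L with hMLdef
  set MN := (Scheme.Modules.pullback i).obj N with hMNdef
  have hML : PicF.IsInvertible ML := isInvertible_pullback i hL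
  have hMN : PicF.IsInvertible MN := isInvertible_pullback i hN
  set uL : (y : Z) → Cyc.secFibre ML y := fun y => pullSec i L y (sL (i y)) with huLdef
  have huL : ∀ y, uL y ≠ 0 := fun y => pullSec_ne_zero i hL y _ (hsL (i y))
  set uN : (y : Z) → Cyc.secFibre MN y := fun y => pullSec i N y (sN (i y)) with huNdef
  have huN : ∀ y, uN y ≠ 0 := fun y => pullSec_ne_zero i hN y _ (hsN (i y))
  set tZ : Cyc.secFibre MN (genericPoint Z) := pullSec i N (genericPoint Z) t with htZdef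
  have htZ : tZ ≠ 0 := pullSec_ne_zero i hN _ _ ht
  set sZ : Cyc.secFibre ML (genericPoint Z) := pullSec i L (genericPoint Z) s with hsZdef
  have hsZ : sZ ≠ 0 := pullSec_ne_zero i hL _ _ hs
  have hLFS₁ := locallyFiniteSupport_secDivFun_generic δZ hδZ MN hMN tZ htZ
  have hLFS₂ := locallyFiniteSupport_secDivFun_generic δZ hδZ ML hML sZ hsZ
  let γ₁ : AlgebraicCycle Z ℤ :=
    { toFun := Cyc.c1CapFun δZ ML (Cyc.secDivFun δZ MN (genericPoint Z) tZ) uL
      supportWithinDomain' := Set.subset_univ _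
      supportLocallyFiniteWithinDomain' := fun y _ =>
        locallyFiniteSupport_c1CapFun ML hML δZ hδZ _ hLFS₁ _ huL y }
  let γ₂ : AlgebraicCycle Z ℤ :=
    { toFun := Cyc.c1CapFun δZ MN (Cyc.secDivFun δZ ML (genericPoint Z) sZ) uN
      supportWithinDomain' := Set.subset_univ _
      supportLocallyFiniteWithinDomain' := fun y _ =>
        locallyFiniteSupport_c1CapFun MN hMN δZ hδZ _ hLFS₂ _ huN y }
  have hcomm : Cyc.RatEquiv δZ (k + 2 - 2) γ₁ γ₂ :=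
    c1Cap_divSec_comm δZ hδZ (k + 2) hk MN ML hMN hML tZ htZ sZ hsZ
      uL huL uN huN γ₁ γ₂ rfl rfl
  have hk2 : k + 2 - 2 = k := by ring
  rw [hk2] at hcomm
  have h2 : RatPres δZ k ⇑(γ₁ - γ₂) Set.univ := ratPres_of_ratEquivZero (γ₁ - γ₂) hcomm
  obtain ⟨hc1, hc2⟩ := c1CapFun_closedImmersion i δ hδ L hL
    (Cyc.secDivFun δZ MN (genericPoint Z) tZ) (Cyc.secDivFun δ N (i (genericPoint Z)) t)
    (fun z => secDivFun_closedImmersion i δ hδ N hN (genericPoint Z) z t ht)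
    (fun x hx => secDivFun_eq_zero_of_not_mem_range i δ N _ t x hx) sL hsL
  obtain ⟨hd1, hd2⟩ := c1CapFun_closedImmersion i δ hδ N hN
    (Cyc.secDivFun δZ ML (genericPoint Z) sZ) (Cyc.secDivFun δ L (i (genericPoint Z)) s)
    (fun z => secDivFun_closedImmersion i δ hδ L hL (genericPoint Z) z s hs)
    (fun x hx => secDivFun_eq_zero_of_not_mem_range i δ L _ s x hx) sN hsN
  refine ratPres_push_closedImmersion i δ k ⇑(γ₁ - γ₂) h2 _ (fun z => ?_) (fun x hx => ?_)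
  · show _ - _ = γ₁ z - γ₂ z
    rw [hc1 z, hd1 z]
    rfl
  · show _ - _ = (0 : ℤ)
    rw [hc2 x hx, hd2 x hx, sub_zero]

/-- commutativity for the fundamental cycle of the closure of a point -/
theorem ratPres_c1Cap_comm_single [IsLocallyNoetherian X] (δ : X → ℤ)
    (hδ : Cyc.IsDimFun X δ) (L N : X.Modules) (hL : PicF.IsInvertible L)
    (hN : PicF.IsInvertible N)
    (sL : (ξ : X) → Cyc.secFibre L ξ) (hsL : ∀ ξ, sL ξ ≠ 0)
    (sN : (ξ : X) → Cyc.secFibre N ξ) (hsN : ∀ ξ, sN ξ ≠ 0) (k : ℤ) (ξ : X)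
    (t : Cyc.secFibre N ξ) (ht : t ≠ 0) (s : Cyc.secFibre L ξ) (hs : s ≠ 0)
    (hk : δ ξ = k + 2) :
    RatPres δ k (fun x => Cyc.c1CapFun δ L (Cyc.secDivFun δ N ξ t) sL x -
      Cyc.c1CapFun δ N (Cyc.secDivFun δ L ξ s) sN x) (closure {ξ}) := by
  have hp := clι_genericPoint ξ
  have hall : ∀ (t' : Cyc.secFibre N (clι ξ (genericPoint (cl ξ)))) (_ : t' ≠ 0)
      (s' : Cyc.secFibre L (clι ξ (genericPoint (cl ξ)))) (_ : s' ≠ 0),
      RatPres δ k (fun x =>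
        Cyc.c1CapFun δ L (Cyc.secDivFun δ N (clι ξ (genericPoint (cl ξ))) t') sL x -
        Cyc.c1CapFun δ N (Cyc.secDivFun δ L (clι ξ (genericPoint (cl ξ))) s') sN x)
        (Set.range (clι ξ)) := fun t' ht' s' hs' =>
    ratPres_c1Cap_comm_of_closedImmersion (clι ξ) δ hδ L N hL hN sL hsL sN hsN t' ht' s' hs' k
      (by rw [hp]; exact hk)
  revert hall
  generalize clι ξ (genericPoint (cl ξ)) = p at hp
  intro hall
  subst hp
  rw [← range_clι]
  exact hall t ht s hs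

/-- `c_1(L) ∩ (c_1(N) ∩ α) ∼ c_1(N) ∩ (c_1(L) ∩ α)` -/
theorem c1Cap_c1Cap_comm [IsLocallyNoetherian X] (δ : X → ℤ) (hδ : Cyc.IsDimFun X δ)
    (L N : X.Modules) (hL : PicF.IsInvertible L) (hN : PicF.IsInvertible N) (k : ℤ)
    (α : AlgebraicCycle X ℤ) (hα : α ∈ Cyc.Zk X δ (k + 2))
    (sL sL' : (ξ : X) → Cyc.secFibre L ξ) (sN sN' : (ξ : X) → Cyc.secFibre N ξ)
    (hsL : ∀ ξ, sL ξ ≠ 0) (hsL' : ∀ ξ, sL' ξ ≠ 0) (hsN : ∀ ξ, sN ξ ≠ 0)
    (hsN' : ∀ ξ, sN' ξ ≠ 0) (γ₁ γ₂ : AlgebraicCycle X ℤ)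
    (h₁ : ⇑γ₁ = Cyc.c1CapFun δ L (Cyc.c1CapFun δ N ⇑α sN) sL)
    (h₂ : ⇑γ₂ = Cyc.c1CapFun δ N (Cyc.c1CapFun δ L ⇑α sL') sN') :
    Cyc.RatEquiv δ k γ₁ γ₂ := by
  classical
  have hαLFS : LocallyFiniteSupport ⇑α := fun x =>
    α.supportLocallyFiniteWithinDomain x (Set.mem_univ _)
  set S : X → Set X := fun ξ => if α ξ ≠ 0 then closure {ξ} else ∅ with hSdef
  set F : X → X → ℤ := fun ξ x =>
    α ξ * (Cyc.c1CapFun δ L (Cyc.secDivFun δ N ξ (sN ξ)) sL x -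
      Cyc.c1CapFun δ N (Cyc.secDivFun δ L ξ (sL' ξ)) sN' x) with hFdef
  have hSclosed : ∀ ξ, IsClosed (S ξ) := by
    intro ξ
    show IsClosed (if α ξ ≠ 0 then closure {ξ} else ∅)
    split_ifs
    · exact isClosed_closure
    · exact isClosed_empty
  have hSlf : ∀ x : X, ∃ U : Set X, IsOpen U ∧ x ∈ U ∧ {ξ | (S ξ ∩ U).Nonempty}.Finite := by
    intro x
    obtain ⟨t, ht, htfin⟩ := hαLFS x
    obtain ⟨V, hVt, hVo, hxV⟩ := mem_nhds_iff.1 ht
    refine ⟨V, hVo, hxV, htfin.subset ?_⟩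
    rintro ξ ⟨y, hy1, hy2⟩
    have hαξ : α ξ ≠ 0 := by
      by_contra h0
      have : S ξ = ∅ := if_neg (not_not.2 h0)
      rw [this] at hy1
      exact hy1
    have hS : S ξ = closure {ξ} := if_pos hαξ
    rw [hS] at hy1
    have hsp : ξ ⤳ y := specializes_iff_mem_closure.2 hy1
    exact ⟨hVt (hsp.mem_open hVo hy2), hαξ⟩
  have hpres : ∀ ξ, RatPres δ k (F ξ) (S ξ) := by
    intro ξ
    by_cases hαξ : α ξ = 0
    · have hF0 : F ξ = fun _ => 0 := by
        funext x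
        show α ξ * _ = 0
        rw [hαξ, zero_mul]
      rw [hF0]
      exact ratPres_zero δ k _
    · have hS : S ξ = closure {ξ} := if_pos hαξ
      rw [hS]
      have hk : δ ξ = k + 2 := by
        by_contra hne
        exact hαξ (hα ξ hne)
      exact RatPres.zsmul (ratPres_c1Cap_comm_single δ hδ L N hL hN sL hsL sN' hsN' k ξ (sN ξ)
        (hsN ξ) (sL' ξ) (hsL' ξ) hk) (α ξ)
  have hsum := ratPres_finsum (δ := δ) (k := k) S hSclosed hSlf F hpres
  refine RatPres.ratEquivZero (γ₁ - γ₂) (hsum.congr fun x => ?_)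
  show ∑ᶠ ξ, F ξ x = γ₁ x - γ₂ x
  rw [h₁, h₂]
  obtain ⟨hf1, he1⟩ := c1CapFun_c1CapFun_expand δ hδ L N hN ⇑α hαLFS sN hsN sL x
  obtain ⟨hf2, he2⟩ := c1CapFun_c1CapFun_expand δ hδ N L hL ⇑α hαLFS sL' hsL' sN' x
  rw [he1, he2, ← finsum_sub_distrib hf1 hf2]
  apply finsum_congr
  intro ξ
  show α ξ * (_ - _) = _
  rw [mul_sub]

end Groth.Agent.Lib.Helper18.KeyGeo
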