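import Mathlib
import Groth.Prelude.Def_C1
import Groth.Prelude.Def_Pic
import Groth.Agent.Lib.Helper18.Cyc.KeyComm
import Groth.Agent.Lib.Helper18.Cyc.RatPres2
import Groth.Agent.Lib.Helper18.Push.GysinPush

/-!
# The key formula with supports: the Gysin form

On an integral scheme, for a global section `σ` of `L` which is generically nonzero and a rational
section `t` of `N`, the difference `c_1(N) ∩ div_L(σ) - c_1(L) ∩ div_N(t)`, the second computed
with the sections `gysinChoice L σ w`, is a sum of principal divisors on subvarieties contained in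
the zero set of `σ`.
-/

set_option autoImplicit false
set_option maxHeartbeats 1000000
set_option linter.style.haveILetI false
set_option linter.unusedSectionVars false
universe u
open AlgebraicGeometry CategoryTheory IsLocalRing

namespace Groth.Agent.Lib.Helper18.KeyGeo

open Groth.Agent.Lib.Helper18.CycDiv Groth.Agent.Lib.Helper18.C1Core
  Groth.Agent.Lib.Helper18.InvStalk Groth.Agent.Lib.Helper18.Push

section General

variable {X : Scheme.{u}}

/-- the zero set of a global section -/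
def vanish (L : X.Modules) (σ : L.presheaf.obj (Opposite.op ⊤)) : Set X :=
  {x : X | (Submodule.Quotient.mk ((L.presheaf.germ ⊤ x trivial) σ) : Cyc.secFibre L x) = 0}

/-- multiplicativity of principal divisors -/
theorem divFun_mul [IsLocallyNoetherian X] (δ : X → ℤ) (hδ : Cyc.IsDimFun X δ) (ξ : X)
    {a b : X.residueField ξ} (ha : a ≠ 0) (hb : b ≠ 0) (x : X) :
    Cyc.divFun δ ξ (a * b) x = Cyc.divFun δ ξ a x + Cyc.divFun δ ξ b x := by
  classical
  unfold Cyc.divFun
  by_cases hc : ξ ⤳ x ∧ δ x + 1 = δ ξ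
  · rw [dif_pos hc, dif_pos hc, dif_pos hc]
    exact ordAt_mul hc.1 (krullDimLE_one_locQuot δ hδ hc.1 hc.2) ha hb
  · rw [dif_neg hc, dif_neg hc, dif_neg hc, add_zero]

/-- off the zero set, the germ of a global section is a unit multiple of the chosen generator -/
theorem exists_unit_of_not_mem_vanish (L : X.Modules) (hL : PicF.IsInvertible L)
    (σ : L.presheaf.obj (Opposite.op ⊤)) (ξ : X) (hξ : ξ ∉ vanish L σ) :
    ∃ c : (X.presheaf.stalk ξ)ˣ,
      (L.presheaf.germ ⊤ ξ trivial) σ = (c : X.presheaf.stalk ξ) • gen L hL ξ := by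
  obtain ⟨a, ha⟩ := (gen_free L hL ξ).exists_smul ((L.presheaf.germ ⊤ ξ trivial) σ)
  have hu : IsUnit a := by
    by_contra hnu
    apply hξ
    show (Submodule.Quotient.mk ((L.presheaf.germ ⊤ ξ trivial) σ) : Cyc.secFibre L ξ) = 0
    rw [ha]
    exact mk_smul_eq_zero_of_mem L a ((mem_maximalIdeal _).2 hnu) _
  exact ⟨hu.unit, ha⟩

/-- **Independence of the sections**, with supports. -/
theorem ratPres_c1CapFun_sub [IsLocallyNoetherian X] (L : X.Modules) (hL : PicF.IsInvertible L)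
    (δ : X → ℤ) (hδ : Cyc.IsDimFun X δ)
    (k : ℤ) (β : X → ℤ) (hβk : ∀ ξ, β ξ ≠ 0 → δ ξ = k + 1) (hβ : LocallyFiniteSupport β)
    (s s' : (ξ : X) → Cyc.secFibre L ξ) (hs : ∀ ξ, s ξ ≠ 0) (hs' : ∀ ξ, s' ξ ≠ 0) :
    RatPres δ k (fun x => Cyc.c1CapFun δ L β s x - Cyc.c1CapFun δ L β s' x)
      (Function.support β) := by
  classical
  choose ψ hψ0 hψs using fun ξ : X => exists_smul_eq L hL ξ (s ξ) (s' ξ) (hs ξ) (hs' ξ)
  refine ⟨{ξ : X // β ξ ≠ 0}, fun i => i.1, fun i => (X.residue i.1 (ψ i.1)) ^ (β i.1),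
    ?_, ?_, fun i => i.2, ?_, ?_⟩
  · intro i
    exact hβk i.1 i.2
  · intro i
    exact zpow_ne_zero _ (hψ0 i.1)
  · intro y
    obtain ⟨t, ht, hfin⟩ := hβ y
    refine ⟨interior t, isOpen_interior, mem_interior_iff_mem_nhds.2 ht, ?_⟩
    refine Set.Finite.subset (hfin.preimage (Subtype.val_injective.injOn) :
      {i : {ξ : X // β ξ ≠ 0} | (i : X) ∈ t ∩ Function.support β}.Finite) ?_
    rintro i ⟨w, hw1, hw2⟩
    have hi : (i : X) ∈ interior t :=
      (specializes_iff_mem_closure.2 hw1).mem_open isOpen_interior hw2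
    exact ⟨interior_subset hi, i.2⟩
  · intro x
    exact c1CapFun_sub_eq_finsum L hL δ hδ β hβ s s' hs' ψ hψ0 hψs x

end General

variable {X : Scheme.{u}} [IsIntegral X] [IsLocallyNoetherian X]
variable (δ : X → ℤ) (hδ : Cyc.IsDimFun X δ) (L N : X.Modules) (hL : PicF.IsInvertible L)
  (hN : PicF.IsInvertible N) (σ : L.presheaf.obj (Opposite.op ⊤))

/-- the rational section of `L` defined by a global section -/
noncomputable def secGen : Cyc.secFibre L (genericPoint X) :=
  Submodule.Quotient.mk ((L.presheaf.germ ⊤ (genericPoint X) trivial) σ)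

/-- the coefficient of a global section at a point off its zero set -/
theorem coefK_secGen_of_unit {ξ : X} (c : X.presheaf.stalk ξ)
    (hc : (L.presheaf.germ ⊤ ξ trivial) σ = c • gen L hL ξ) :
    coefK L hL (secGen L σ) ξ = toK ξ c := by
  have h := mk_germ_eq_smul L σ (genericPoint_specializes ξ) (gen L hL ξ) c hc
  exact coefK_eq_of L hL (secGen L σ) h

variable (t : Cyc.secFibre N (genericPoint X)) (ht : t ≠ 0)

open Classical in
include hδ hL ht in
/-- **The key formula, Gysin form.** -/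
theorem gysin_key (hσ : secGen L σ ≠ 0) (w : (ξ : X) → Cyc.secFibre L ξ) (hw : ∀ ξ, w ξ ≠ 0)
    (n : ℤ) (hn : δ (genericPoint X) = n) :
    RatPres δ (n - 2) (fun x =>
      Cyc.c1CapFun δ N (Cyc.secDivFun δ L (genericPoint X) (secGen L σ)) (genSec N hN) x -
      Cyc.c1CapFun δ L (Cyc.secDivFun δ N (genericPoint X) t) (Cyc.gysinChoice L σ w) x)
      (vanish L σ) := by
  classical
  set s := secGen L σ with hsdef
  set β := Cyc.secDivFun δ N (genericPoint X) t with hβdef
  set v := Cyc.gysinChoice L σ w with hvdef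
  have hv : ∀ ξ, v ξ ≠ 0 := gysinChoice_ne_zero L σ w hw
  have hβLFS : LocallyFiniteSupport β :=
    locallyFiniteSupport_secDivFun_generic δ hδ N hN t ht
  -- the units relating `v` to the chosen generators
  choose ψ hψ0 hψv using fun ξ => exists_smul_eq L hL ξ (v ξ) (genSec L hL ξ) (hv ξ)
    (genSec_ne_zero L hL ξ)
  have hβeq : ∀ ξ, β ξ = if δ ξ + 1 = δ (genericPoint X) then
      Cyc.ordAt ξ (genericPoint X) (genericPoint_specializes ξ) (coefK N hN t ξ) else 0 :=
    fun ξ => secDivFun_generic N hN t δ ξ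
  -- the correction factors
  set R : (ξ : X) → X.residueField ξ := fun ξ => X.residue ξ (ψ ξ) ^ β ξ with hRdef
  have hR0 : ∀ ξ, R ξ ≠ 0 := fun ξ => zpow_ne_zero _ (hψ0 ξ)
  set T : (i : KIdx δ L N hL hN s t) → X.residueField i.1 := fun i =>
    tameAt i.1 (coefK L hL s i.1) (coefK N hN t i.1) with hTdef
  have hT0 : ∀ i, T i ≠ 0 := fun i =>
    tameAt_ne_zero (dim_le_one_of_codim_one δ hδ i.2.1) (coefK_ne_zero L hL s hσ i.1)
      (coefK_ne_zero N hN t ht i.1)
  have hlfK := locfin_KIdx δ hδ L N hL hN s hσ t ht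
  -- `β ξ ≠ 0` implies `ξ ∈ KIdx`
  have hβp : ∀ ξ, β ξ ≠ 0 → δ ξ + 1 = δ (genericPoint X) ∧
      ¬ (UnitAt ξ (coefK L hL s ξ) ∧ UnitAt ξ (coefK N hN t ξ)) := by
    intro ξ hξ
    rw [hβeq] at hξ
    by_cases hc : δ ξ + 1 = δ (genericPoint X)
    · rw [if_pos hc] at hξ
      exact ⟨hc, fun hu => hξ hu.2.ordAt_eq_zero⟩
    · rw [if_neg hc] at hξ
      exact absurd rfl hξ
  -- the formula
  have hformula : ∀ x, Cyc.c1CapFun δ N (Cyc.secDivFun δ L (genericPoint X) s) (genSec N hN) x -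
      Cyc.c1CapFun δ L β v x =
      ∑ᶠ i : KIdx δ L N hL hN s t, Cyc.divFun δ i.1 (T i * (R i.1)⁻¹) x := by
    intro x
    have h1 := key_formula_sum δ hδ L N hL hN s hσ t ht x
    have h2 := c1CapFun_sub_eq_finsum L hL δ hδ β hβLFS v (genSec L hL) (genSec_ne_zero L hL)
      ψ hψ0 hψv x
    have h3 : ∑ᶠ j : {ξ : X // β ξ ≠ 0}, Cyc.divFun δ j.1 ((X.residue j.1 (ψ j.1)) ^ (β j.1)) x =
        ∑ᶠ i : KIdx δ L N hL hN s t, Cyc.divFun δ i.1 (R i.1) x := by
      have e1 : ∑ᶠ ξ : X, Cyc.divFun δ ξ (R ξ) x =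
          ∑ᶠ j : {ξ : X // β ξ ≠ 0}, Cyc.divFun δ j.1 (R j.1) x := by
        apply finsum_eq_finsum_subtype (fun ξ : X => Cyc.divFun δ ξ (R ξ) x) (fun ξ => β ξ ≠ 0)
        intro ξ hξ h0
        apply hξ
        show Cyc.divFun δ ξ (X.residue ξ (ψ ξ) ^ β ξ) x = 0
        rw [h0, zpow_zero, divFun_one]
      have e2 : ∑ᶠ ξ : X, Cyc.divFun δ ξ (R ξ) x =
          ∑ᶠ i : KIdx δ L N hL hN s t, Cyc.divFun δ i.1 (R i.1) x := by
        apply finsum_eq_finsum_subtype (fun ξ : X => Cyc.divFun δ ξ (R ξ) x)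
          (fun ξ => δ ξ + 1 = δ (genericPoint X) ∧
            ¬ (UnitAt ξ (coefK L hL s ξ) ∧ UnitAt ξ (coefK N hN t ξ)))
        intro ξ hξ
        apply hβp
        intro h0
        apply hξ
        show Cyc.divFun δ ξ (X.residue ξ (ψ ξ) ^ β ξ) x = 0
        rw [h0, zpow_zero, divFun_one]
      exact e1.symm.trans e2
    rw [h3] at h2
    have hfinT := finite_support_divFun_family δ (fun i : KIdx δ L N hL hN s t => i.1) T hlfK x
    have hfinR := finite_support_divFun_family δ (fun i : KIdx δ L N hL hN s t => i.1)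
      (fun i => R i.1) hlfK x
    have h4 : ∑ᶠ i : KIdx δ L N hL hN s t, Cyc.divFun δ i.1 (T i * (R i.1)⁻¹) x =
        ∑ᶠ i : KIdx δ L N hL hN s t, Cyc.divFun δ i.1 (T i) x -
        ∑ᶠ i : KIdx δ L N hL hN s t, Cyc.divFun δ i.1 (R i.1) x := by
      rw [← finsum_sub_distrib hfinT hfinR]
      apply finsum_congr
      intro i
      rw [divFun_mul δ hδ i.1 (hT0 i) (inv_ne_zero (hR0 i.1)), divFun_inv]
      ring
    rw [h4, ← h1, ← h2]
    ring
  -- off the zero set the functions are trivial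
  have hone : ∀ i : KIdx δ L N hL hN s t, i.1 ∉ vanish L σ → T i * (R i.1)⁻¹ = 1 := by
    intro i hi
    obtain ⟨c, hc⟩ := exists_unit_of_not_mem_vanish L hL σ i.1 hi
    have hdim := dim_le_one_of_codim_one δ hδ i.2.1
    have hcoef : coefK L hL s i.1 = toK i.1 (c : X.presheaf.stalk i.1) :=
      coefK_secGen_of_unit L hL σ _ hc
    have hTi : T i = X.residue i.1 (c : X.presheaf.stalk i.1) ^ β i.1 := by
      show tameAt i.1 (coefK L hL s i.1) (coefK N hN t i.1) = _
      rw [hcoef, tameAt_unit_left hdim c (coefK_ne_zero N hN t ht i.1), hβeq, if_pos i.2.1]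
    have hvi : v i.1 = (c : X.presheaf.stalk i.1) • genSec L hL i.1 := by
      show Cyc.gysinChoice L σ w i.1 = _
      rw [gysinChoice_of_ne_zero L σ w i.1 hi, hc, Submodule.Quotient.mk_smul]
      rfl
    have hres : X.residue i.1 (ψ i.1) = X.residue i.1 (c : X.presheaf.stalk i.1) := by
      apply residue_eq_of_smul_mk_eq L (gen_free L hL i.1)
      have := hψv i.1
      rw [hvi] at this
      exact this.symm
    show T i * (X.residue i.1 (ψ i.1) ^ β i.1)⁻¹ = 1
    rw [hTi, hres]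
    exact mul_inv_cancel₀ (zpow_ne_zero _ ((c.isUnit.map (X.residue i.1).hom).ne_zero))
  -- the presentation
  refine ⟨{i : KIdx δ L N hL hN s t // i.1 ∈ vanish L σ}, fun j => j.1.1,
    fun j => T j.1 * (R j.1.1)⁻¹, ?_, ?_, fun j => j.2, ?_, ?_⟩
  · intro j
    have h1 : δ j.1.1 + 1 = δ (genericPoint X) := j.1.2.1
    show δ j.1.1 = n - 2 + 1
    linarith
  · intro j
    exact mul_ne_zero (hT0 j.1) (inv_ne_zero (hR0 j.1.1))
  · intro x
    obtain ⟨U, hU, hxU, hfin⟩ := hlfK x
    refine ⟨U, hU, hxU, (hfin.preimage (Subtype.val_injective.injOn)).subset ?_⟩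
    intro j hj
    exact hj
  · intro x
    show _ - _ = _
    rw [hformula x]
    apply finsum_eq_finsum_subtype (fun i : KIdx δ L N hL hN s t =>
      Cyc.divFun δ i.1 (T i * (R i.1)⁻¹) x) (fun i => i.1 ∈ vanish L σ)
    intro i hi
    by_contra hni
    apply hi
    show Cyc.divFun δ i.1 (T i * (R i.1)⁻¹) x = 0
    rw [hone i hni, divFun_one]

include hδ hL in
/-- the divisor of a global section vanishes off its zero set -/
theorem secDivFun_secGen_of_not_mem' (x : X) (hx : x ∉ vanish L σ) :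
    Cyc.secDivFun δ L (genericPoint X) (secGen L σ) x = 0 := by
  classical
  rw [secDivFun_generic L hL (secGen L σ) δ x]
  split_ifs with hc
  · obtain ⟨c, hc'⟩ := exists_unit_of_not_mem_vanish L hL σ x hx
    rw [coefK_secGen_of_unit L hL σ _ hc']
    exact ordAt_toK_unit c
  · rfl

include hδ hL hN ht in
/-- **The key formula, Gysin form**, with arbitrary sections of `N`. -/
theorem gysin_key' (hσ : secGen L σ ≠ 0) (w : (ξ : X) → Cyc.secFibre L ξ) (hw : ∀ ξ, w ξ ≠ 0)
    (u : (ξ : X) → Cyc.secFibre N ξ) (hu : ∀ ξ, u ξ ≠ 0)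
    (n : ℤ) (hn : δ (genericPoint X) = n) :
    RatPres δ (n - 2) (fun x =>
      Cyc.c1CapFun δ N (Cyc.secDivFun δ L (genericPoint X) (secGen L σ)) u x -
      Cyc.c1CapFun δ L (Cyc.secDivFun δ N (genericPoint X) t) (Cyc.gysinChoice L σ w) x)
      (vanish L σ) := by
  classical
  have h1 := gysin_key δ hδ L N hL hN σ t ht hσ w hw n hn
  have hαLFS := locallyFiniteSupport_secDivFun_generic δ hδ L hL (secGen L σ) hσ
  have hαk : ∀ ξ, Cyc.secDivFun δ L (genericPoint X) (secGen L σ) ξ ≠ 0 → δ ξ = n - 2 + 1 := by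
    intro ξ hξ
    rw [secDivFun_generic L hL (secGen L σ) δ ξ] at hξ
    by_cases hc : δ ξ + 1 = δ (genericPoint X)
    · linarith
    · rw [if_neg hc] at hξ
      exact absurd rfl hξ
  have h2 := ratPres_c1CapFun_sub N hN δ hδ (n - 2) _ hαk hαLFS u (genSec N hN) hu
    (genSec_ne_zero N hN)
  have hsupp : Function.support (Cyc.secDivFun δ L (genericPoint X) (secGen L σ)) ⊆
      vanish L σ := by
    intro ξ hξ
    by_contra hn'
    exact hξ (secDivFun_secGen_of_not_mem' δ hδ L hL σ ξ hn')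
  refine ((h2.mono hsupp).add h1).mono (Set.union_subset (subset_refl _) (subset_refl _))
    |>.congr fun x => ?_
  ring

end Groth.Agent.Lib.Helper18.KeyGeo
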