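import Mathlib
import Groth.Prelude.Def_C1
import Groth.Prelude.Def_Pic
import Groth.Agent.Lib.Helper18.Cyc.GysinKey
import Groth.Agent.Lib.Helper18.Cyc.RatPres2
import Groth.Agent.Lib.Helper18.Cyc.C1Closed
import Groth.Agent.Lib.Helper18.Push.GysinPull
import Groth.Agent.Lib.Helper18.Push.ZeroPull

/-!
# `i^* div_N(t) ∼ c_1(N|_D) ∩ [D]` for an effective Cartier divisor on an integral scheme
-/

set_option autoImplicit false
set_option maxHeartbeats 1000000
set_option linter.style.haveILetI false
set_option linter.unusedSectionVars false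
universe u
open AlgebraicGeometry CategoryTheory IsLocalRing

namespace Groth.Agent.Lib.Helper18.KeyGeo

open Groth.Agent.Lib.Helper18.CycDiv Groth.Agent.Lib.Helper18.C1Core
  Groth.Agent.Lib.Helper18.InvStalk Groth.Agent.Lib.Helper18.Push
  Groth.Agent.Lib.Helper18.CycPull

variable {X D : Scheme.{u}} [IsIntegral X] [IsLocallyNoetherian X]
variable (δ : X → ℤ) (hδ : Cyc.IsDimFun X δ) (L N : X.Modules) (hL : PicF.IsInvertible L)
  (hN : PicF.IsInvertible N) (σ : L.presheaf.obj (Opposite.op ⊤))
  (i : D ⟶ X) [IsClosedImmersion i] (hD : Cyc.IsZeroSchemeOf i L σ)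

include hL in
/-- a section which is regular at the generic point is generically nonzero -/
theorem secGen_ne_zero_of_reg
    (hreg : Function.Injective (fun a : X.presheaf.stalk (genericPoint X) =>
      a • (L.presheaf.germ ⊤ (genericPoint X) trivial) σ)) : secGen L σ ≠ 0 := by
  obtain ⟨a, ha⟩ := (gen_free L hL (genericPoint X)).exists_smul
    ((L.presheaf.germ ⊤ (genericPoint X) trivial) σ)
  have ha0 : a ≠ 0 := by
    intro h0
    have h1 : (L.presheaf.germ ⊤ (genericPoint X) trivial) σ = 0 := by rw [ha, h0, zero_smul]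
    have h2 := @hreg 1 0 (by simp only [h1, smul_zero])
    exact one_ne_zero h2
  have hres : X.residue (genericPoint X) a ≠ 0 := by
    intro h0
    apply ha0
    apply toK_injective (genericPoint X)
    rw [map_zero]
    show X.residue (genericPoint X) (X.presheaf.stalkSpecializes _ a) = 0
    rw [TopCat.Presheaf.stalkSpecializes_refl]
    exact h0
  intro h0
  unfold secGen at h0
  rw [ha, mk_smul_eq_zero_iff L (gen_free L hL (genericPoint X))] at h0
  exact hres ((IsLocalRing.residue_eq_zero_iff _).2 h0)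

include hD in
theorem range_eq_vanish : Set.range i = vanish L σ := hD.1

include hδ hL in
/-- the divisor of a global section vanishes off its zero set -/
theorem secDivFun_secGen_of_not_mem (x : X) (hx : x ∉ vanish L σ) :
    Cyc.secDivFun δ L (genericPoint X) (secGen L σ) x = 0 := by
  classical
  rw [secDivFun_generic L hL (secGen L σ) δ x]
  split_ifs with hc
  · obtain ⟨c, hc'⟩ := exists_unit_of_not_mem_vanish L hL σ x hx
    rw [coefK_secGen_of_unit L hL σ _ hc']
    exact ordAt_toK_unit c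
  · rfl

theorem length_quot_bot {B : Type*} [CommRing B] :
    Module.length B (B ⧸ (⊥ : Ideal B)) = Module.length B B :=
  (Submodule.quotEquivOfEqBot (⊥ : Ideal B) rfl).length_eq

include hδ hL hD in
/-- the divisor of a global section is the fundamental cycle of its zero scheme -/
theorem secDivFun_secGen_eq_subschemeFun (hσ : secGen L σ ≠ 0) (n : ℤ)
    (hn : δ (genericPoint X) = n) (d : D) :
    Cyc.secDivFun δ L (genericPoint X) (secGen L σ) (i d) =
      Cyc.subschemeFun (fun d => δ (i d)) (n - 1) (𝟙 D) d := by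
  classical
  have hηx : genericPoint X ⤳ i d := genericPoint_specializes (i d)
  unfold Cyc.secDivFun Cyc.subschemeFun
  by_cases hdim : δ (i d) = n - 1
  · have hc : genericPoint X ⤳ i d ∧ δ (i d) + 1 = δ (genericPoint X) :=
      ⟨hηx, by rw [hn, hdim]; ring⟩
    rw [dif_pos hc, if_pos hdim]
    have hset : {z : D | (𝟙 D : D ⟶ D) z = d} = {d} := by
      ext z
      simp
    rw [hset, finsum_mem_singleton]
    obtain ⟨t', a', ht', hs', hker⟩ := hD.2 d
    have hfree := freeGen_of_span_eq_top L hL ht'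
    have hd1 := krullDimLE_one_locQuot δ hδ hηx hc.2
    have ha' : Cyc.specMap (i d) (genericPoint X) hηx a' ≠ 0 :=
      specMap_ne_zero_of_mk_germ_ne_zero L σ hηx t' a' hs' hσ
    have h1 : Cyc.secOrdAt L (genericPoint X) (i d) hηx (secGen L σ) =
        Cyc.ordAt (i d) (genericPoint X) hηx (Cyc.specMap (i d) (genericPoint X) hηx a') :=
      secOrdAt_mk_germ L hL σ hηx hd1 hfree a' hs' ha'
    rw [h1, ordAt_specMap hηx hd1 a' ha']
    congr 2
    have hk := ker_specMap_eq_bot hηx rfl
    have hord := ord_eq_of_ringEquiv (stalkEquivLocQuot hηx hk) a'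
    have hord' : Ring.ord (Cyc.LocQuot (i d) (genericPoint X) hηx)
        ((Ideal.Quotient.mk (RingHom.ker (Cyc.specMap (i d) (genericPoint X) hηx))) a') =
        Ring.ord (X.presheaf.stalk (i d)) a' := hord.symm
    rw [hord']
    unfold Ring.ord
    have hsurj : Function.Surjective (i.stalkMap d).hom := i.stalkMap_surjective d
    have := length_quot_eq_of_surjective (i.stalkMap d).hom hsurj (Ideal.span {a'}) ⊥ (by
      rw [← hker]
      rfl)
    rw [this, length_quot_bot]
  · rw [if_neg hdim, dif_neg]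
    rintro ⟨-, h2⟩
    apply hdim
    rw [hn] at h2
    linarith

open Groth.Agent.Lib.Helper28.PullbackInv in
include hδ hL hN hD in
/-- **Gysin pullback of the divisor of a rational section** (library form). -/
theorem gysin_divSec [IsLocallyNoetherian D] (hσ : secGen L σ ≠ 0) (n : ℤ)
    (hn : δ (genericPoint X) = n) (t : Cyc.secFibre N (genericPoint X)) (ht : t ≠ 0)
    (w : (ξ : X) → Cyc.secFibre L ξ) (hw : ∀ ξ, w ξ ≠ 0)
    (u : (d : D) → Cyc.secFibre ((Scheme.Modules.pullback i).obj N) d) (hu : ∀ d, u d ≠ 0)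
    (γ₁ γ₂ : AlgebraicCycle D ℤ)
    (h₁ : ∀ d : D, γ₁ d = Cyc.c1CapFun δ L (Cyc.secDivFun δ N (genericPoint X) t)
      (Cyc.gysinChoice L σ w) (i d))
    (h₂ : ⇑γ₂ = Cyc.c1CapFun (fun d => δ (i d)) ((Scheme.Modules.pullback i).obj N)
      (Cyc.subschemeFun (fun d => δ (i d)) (n - 1) (𝟙 D)) u) :
    Cyc.RatEquiv (fun d => δ (i d)) (n - 2) γ₁ γ₂ := by
  classical
  set δD : D → ℤ := fun d => δ (i d) with hδDdef
  have hδD : Cyc.IsDimFun D δD := isDimFun_comp_of_isClosedImmersion i δ hδ
  have hM : PicF.IsInvertible ((Scheme.Modules.pullback i).obj N) := isInvertible_pullback i hN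
  set α := Cyc.secDivFun δ L (genericPoint X) (secGen L σ) with hαdef
  have hrange := range_eq_vanish L σ i hD
  have hα : ∀ d, α (i d) = Cyc.subschemeFun δD (n - 1) (𝟙 D) d := fun d =>
    secDivFun_secGen_eq_subschemeFun δ hδ L hL σ i hD hσ n hn d
  have hα0 : ∀ x, x ∉ Set.range i → α x = 0 := by
    intro x hx
    rw [hrange] at hx
    exact secDivFun_secGen_of_not_mem δ hδ L hL σ x hx
  set u' : (d : D) → Cyc.secFibre ((Scheme.Modules.pullback i).obj N) d := fun y => pullSec i N y (genSec N hN (i y)) with hu'def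
  have hu' : ∀ d, u' d ≠ 0 := fun d => pullSec_ne_zero i hN d _ (genSec_ne_zero N hN (i d))
  obtain ⟨hc1, -⟩ := c1CapFun_closedImmersion i δ hδ N hN
    (Cyc.subschemeFun δD (n - 1) (𝟙 D)) α hα hα0 (genSec N hN) (genSec_ne_zero N hN)
  have hkey := gysin_key δ hδ L N hL hN σ t ht hσ w hw n hn
  have hpull := ratPres_pull_closedImmersion i δ (n - 2) _ (vanish L σ)
    (by rw [hrange]) hkey
  -- the generic point is not in `D`
  have hηD : genericPoint X ∉ Set.range i := by
    rw [hrange]
    exact hσ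
  have hdim : ∀ d : D, δD d ≤ n - 2 + 1 := by
    intro d
    have hne : genericPoint X ≠ i d := fun h => hηD ⟨d, h.symm⟩
    have := (hδ (genericPoint X) (i d) (genericPoint_specializes _) hne).1
    show δ (i d) ≤ n - 2 + 1
    rw [hn] at this
    linarith
  have hn1 : n - 1 = n - 2 + 1 := by ring
  have hLFS : LocallyFiniteSupport (Cyc.subschemeFun δD (n - 1) (𝟙 D)) := by
    rw [hn1]
    exact locallyFiniteSupport_subschemeFun_id D δD hδD (n - 2) hdim
  have hβk : ∀ d, Cyc.subschemeFun δD (n - 1) (𝟙 D) d ≠ 0 → δD d = n - 2 + 1 := by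
    intro d hd
    by_contra hne
    apply hd
    unfold Cyc.subschemeFun
    rw [if_neg]
    rw [hn1]
    exact hne
  let γ₃ : AlgebraicCycle D ℤ :=
    { toFun := Cyc.c1CapFun δD ((Scheme.Modules.pullback i).obj N) (Cyc.subschemeFun δD (n - 1) (𝟙 D)) u'
      supportWithinDomain' := Set.subset_univ _
      supportLocallyFiniteWithinDomain' := fun y _ =>
        locallyFiniteSupport_c1CapFun _ hM δD hδD _ hLFS _ hu' y }
  have hind : Cyc.RatEquivZero δD (n - 2) (γ₂ - γ₃) :=
    ratEquivZero_c1CapFun_sub _ hM δD hδD (n - 2) _ hβk hLFS u u' hu hu' (γ₂ - γ₃) (by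
      intro x
      show γ₂ x - γ₃ x = _
      rw [h₂]
      rfl)
  have hind' := ratPres_of_ratEquivZero (γ₂ - γ₃) hind
  refine RatPres.ratEquivZero (γ₁ - γ₂) (((hpull.add hind').neg.mono
    (Set.subset_univ _)).congr fun d => ?_)
  show -((_ - _) + (γ₂ d - γ₃ d)) = γ₁ d - γ₂ d
  rw [hc1 d, ← h₁ d]
  show -((γ₃ d - γ₁ d) + (γ₂ d - γ₃ d)) = γ₁ d - γ₂ d
  ring

end Groth.Agent.Lib.Helper18.KeyGeo
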