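import Mathlib
import Groth.Prelude.Def_C1
import Groth.Prelude.Def_Pic
import Groth.Agent.Lib.Helper18.Cyc.GysinDiv
import Groth.Agent.Lib.Helper18.Cyc.C1Comm

/-!
# The Gysin map preserves rational equivalence
-/

set_option autoImplicit false
set_option maxHeartbeats 1000000
set_option linter.style.haveILetI false
set_option linter.unusedSectionVars false
universe u
open AlgebraicGeometry CategoryTheory IsLocalRing

namespace Groth.Agent.Lib.Helper18.KeyGeo

open Groth.Agent.Lib.Helper18.CycDiv Groth.Agent.Lib.Helper18.C1Core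
  Groth.Agent.Lib.Helper18.InvStalk Groth.Agent.Lib.Helper18.Push
  Groth.Agent.Lib.Helper18.CycPull Groth.Agent.Lib.Helper18.ClSub
  Groth.Agent.Lib.Helper28.PullbackInv

section Push

variable {X Z : Scheme.{u}}

/-- Pushforward along a closed immersion of a presentation, with supports. -/
theorem ratPres_push_closedImmersion' (i : Z ⟶ X) [IsClosedImmersion i]
    (δ : X → ℤ) (k : ℤ) (G : Z → ℤ) (S : Set Z) (h : RatPres (fun z => δ (i z)) k G S)
    (F : X → ℤ) (hF : ∀ z, F (i z) = G z)
    (hF0 : ∀ x, x ∉ Set.range i → F x = 0) : RatPres δ k F (i '' S) := by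
  classical
  obtain ⟨ι', η, g, hηk, hg0, hηS, hlf, hsum⟩ := h
  have h' : RatPres (fun z => δ (i z)) k G Set.univ :=
    ⟨ι', η, g, hηk, hg0, fun _ => trivial, hlf, hsum⟩
  -- redo the construction to keep track of the points
  have hind := i.isClosedEmbedding.isEmbedding.isInducing
  have hcl : IsClosed (Set.range i) := i.isClosedEmbedding.isClosed_range
  have hbij : ∀ z, Function.Bijective (i.residueFieldMap z).hom := fun z =>
    residueFieldMap_bijective_of_surjective i z (i.stalkMap_surjective z)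
  choose g' hg' using fun j => (hbij (η j)).2 (g j)
  have hrange : ∀ j x, i (η j) ⤳ x → x ∈ Set.range i := fun j x hx =>
    hx.mem_closed hcl ⟨η j, rfl⟩
  refine ⟨ι', fun j => i (η j), g', hηk, ?_, fun j => ⟨η j, hηS j, rfl⟩, ?_, ?_⟩
  · intro j h0
    apply hg0 j
    rw [← hg' j, h0, map_zero]
  · intro x
    by_cases hx : x ∈ Set.range i
    · obtain ⟨z, rfl⟩ := hx
      obtain ⟨V, hVo, hzV, hfin⟩ := hlf z
      obtain ⟨U, hUo, hUV⟩ := hind.isOpen_iff.1 hVo
      refine ⟨U, hUo, ?_, hfin.subset ?_⟩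
      · have : z ∈ i ⁻¹' U := hUV ▸ hzV
        exact this
      · rintro j ⟨w, hw1, hw2⟩
        have hsp : i (η j) ⤳ w := specializes_iff_mem_closure.2 hw1
        obtain ⟨z', rfl⟩ := hrange j w hsp
        refine ⟨z', specializes_iff_mem_closure.1 (hind.specializes_iff.1 hsp), ?_⟩
        rw [← hUV]
        exact hw2
    · refine ⟨(Set.range i)ᶜ, hcl.isOpen_compl, hx, ?_⟩
      convert Set.finite_empty
      ext j
      simp only [Set.mem_setOf_eq, Set.mem_empty_iff_false, iff_false, Set.not_nonempty_iff_eq_empty]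
      ext w
      simp only [Set.mem_inter_iff, Set.mem_compl_iff, Set.mem_empty_iff_false, iff_false, not_and,
        not_not]
      intro hw
      exact hrange j w (specializes_iff_mem_closure.2 hw)
  · intro x
    by_cases hx : x ∈ Set.range i
    · obtain ⟨z, rfl⟩ := hx
      rw [hF z, hsum z]
      apply finsum_congr
      intro j
      rw [divFun_preimmersion i δ (η j) (g' j) z, hg' j]
    · rw [hF0 x hx]
      symm
      apply finsum_eq_zero_of_forall_eq_zero
      intro j
      unfold Cyc.divFun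
      rw [dif_neg]
      intro hc
      exact hx (hrange j x hc.1)

end Push

section PullSec

variable {X Y : Scheme.{u}} (f : X ⟶ Y) {M : Y.Modules}

/-- the map on fibres, on classes -/
theorem pullSec_mk (hM : PicF.IsInvertible M) (x : X) (m : M.presheaf.stalk (f x)) :
    pullSec f M x (Submodule.Quotient.mk m) =
      (Submodule.Quotient.mk (pg f M x m) :
        Cyc.secFibre ((Scheme.Modules.pullback f).obj M) x) := by
  obtain ⟨g, hg⟩ := exists_freeGen M hM (f x)
  obtain ⟨a, rfl⟩ := hg.exists_smul m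
  rw [Submodule.Quotient.mk_smul, pullSec_smul_mk f x hg a, pg_smul, Submodule.Quotient.mk_smul]

/-- the Gysin choice of sections is compatible with pullback of the data -/
theorem gysinChoice_pullSec (hM : PicF.IsInvertible M) (σ : M.presheaf.obj (Opposite.op ⊤))
    (w : (ξ : Y) → Cyc.secFibre M ξ) (x : X) :
    Cyc.gysinChoice ((Scheme.Modules.pullback f).obj M) (ProjUP.pullSec f M σ)
        (fun y => pullSec f M y (w (f y))) x =
      pullSec f M x (Cyc.gysinChoice M σ w (f x)) := by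
  classical
  have hiff := mk_germ_pullSec_eq_zero_iff (f := f) M hM σ x
  by_cases h0 : (Submodule.Quotient.mk (M.presheaf.germ ⊤ (f x) trivial σ) :
      Cyc.secFibre M (f x)) = 0
  · have h0' := hiff.2 h0
    unfold Cyc.gysinChoice
    rw [if_neg (not_not.2 h0'), if_neg (not_not.2 h0)]
  · have h0' : ¬ _ := fun h => h0 (hiff.1 h)
    rw [gysinChoice_of_ne_zero _ _ _ _ h0', gysinChoice_of_ne_zero _ _ _ _ h0,
      pullSec_mk f hM, germ_pullSec]

end PullSec

section Single

variable {X Z : Scheme.{u}}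

theorem mem_vanish_pullSec_iff (i : Z ⟶ X) (L : X.Modules) (hL : PicF.IsInvertible L)
    (σ : L.presheaf.obj (Opposite.op ⊤)) (z : Z) :
    z ∈ vanish ((Scheme.Modules.pullback i).obj L) (ProjUP.pullSec i L σ) ↔ i z ∈ vanish L σ :=
  mk_germ_pullSec_eq_zero_iff (f := i) L hL σ z

/-- Gysin pullback of a principal divisor on an integral closed subscheme not contained in the
zero set. -/
theorem ratPres_gysin_div_of_closedImmersion [IsIntegral Z] [IsLocallyNoetherian X]
    [IsLocallyNoetherian Z] (i : Z ⟶ X) [IsClosedImmersion i] (δ : X → ℤ)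
    (hδ : Cyc.IsDimFun X δ) (L : X.Modules) (hL : PicF.IsInvertible L)
    (σ : L.presheaf.obj (Opposite.op ⊤))
    (w : (ξ : X) → Cyc.secFibre L ξ) (hw : ∀ ξ, w ξ ≠ 0)
    (hgen : i (genericPoint Z) ∉ vanish L σ)
    (f : X.residueField (i (genericPoint Z))) (hf : f ≠ 0)
    (k : ℤ) (hk : δ (i (genericPoint Z)) = k + 2) :
    RatPres δ k (Cyc.c1CapFun δ L (Cyc.divFun δ (i (genericPoint Z)) f) (Cyc.gysinChoice L σ w))
      (Set.range i ∩ vanish L σ) := by
  classical
  set δZ : Z → ℤ := fun z => δ (i z) with hδZdef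
  have hδZ : Cyc.IsDimFun Z δZ := isDimFun_comp_of_isClosedImmersion i δ hδ
  have hLZ : PicF.IsInvertible ((Scheme.Modules.pullback i).obj L) := isInvertible_pullback i hL
  have hO := isInvertible_structureModule Z
  have hv : ∀ ξ, Cyc.gysinChoice L σ w ξ ≠ 0 := gysinChoice_ne_zero L σ w hw
  have hwZ : ∀ y : Z, pullSec i L y (w (i y)) ≠ 0 := fun y => pullSec_ne_zero i hL y _ (hw (i y))
  have hσZ : secGen ((Scheme.Modules.pullback i).obj L) (ProjUP.pullSec i L σ) ≠ 0 := by
    intro h0
    exact hgen ((mem_vanish_pullSec_iff i L hL σ (genericPoint Z)).1 h0)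
  obtain ⟨φ, hφ⟩ : ∃ φ : Z.presheaf.stalk (genericPoint Z),
      Z.residue (genericPoint Z) φ = (i.residueFieldMap (genericPoint Z)).hom f :=
    IsLocalRing.residue_surjective _
  have hg : (i.residueFieldMap (genericPoint Z)).hom f ≠ 0 :=
    (map_ne_zero_iff _ (i.residueFieldMap (genericPoint Z)).hom.injective).2 hf
  have hφ0 : Z.residue (genericPoint Z) φ ≠ 0 := hφ ▸ hg
  have htf : φ • oneSec Z (genericPoint Z) ≠ 0 := smul_oneSec_ne_zero _ φ hφ0
  have hkey := gysin_key' δZ hδZ ((Scheme.Modules.pullback i).obj L) (Coh.structureModule Z) hLZ hO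
    (ProjUP.pullSec i L σ) (φ • oneSec Z (genericPoint Z)) htf hσZ
    (fun y => pullSec i L y (w (i y))) hwZ (oneSec Z) oneSec_ne_zero (k + 2) hk
  have hk2 : k + 2 - 2 = k := by ring
  rw [hk2] at hkey
  have hfun : Cyc.secDivFun δZ (Coh.structureModule Z) (genericPoint Z)
      (φ • oneSec Z (genericPoint Z)) =
      Cyc.divFun δZ (genericPoint Z) ((i.residueFieldMap (genericPoint Z)).hom f) := by
    funext x
    unfold oneSec
    rw [secDivFun_structure δZ hδZ (genericPoint Z) φ hφ0 x, hφ]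
  have hchoice : Cyc.gysinChoice ((Scheme.Modules.pullback i).obj L) (ProjUP.pullSec i L σ)
      (fun y => pullSec i L y (w (i y))) =
      fun y => pullSec i L y (Cyc.gysinChoice L σ w (i y)) := by
    funext y
    exact gysinChoice_pullSec i hL σ w y
  rw [hfun, hchoice] at hkey
  have hkey2 : RatPres δZ k (Cyc.c1CapFun δZ ((Scheme.Modules.pullback i).obj L)
      (Cyc.divFun δZ (genericPoint Z) ((i.residueFieldMap (genericPoint Z)).hom f))
      (fun y => pullSec i L y (Cyc.gysinChoice L σ w (i y))))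
      (vanish ((Scheme.Modules.pullback i).obj L) (ProjUP.pullSec i L σ)) := by
    refine hkey.neg.congr fun z => ?_
    have h0 : Cyc.c1CapFun δZ (Coh.structureModule Z)
        (Cyc.secDivFun δZ ((Scheme.Modules.pullback i).obj L) (genericPoint Z)
          (secGen ((Scheme.Modules.pullback i).obj L) (ProjUP.pullSec i L σ))) (oneSec Z) z = 0 := by
      show ∑ᶠ ξ : Z, _ * Cyc.secDivFun δZ (Coh.structureModule Z) ξ (oneSec Z ξ) z = 0
      apply finsum_eq_zero_of_forall_eq_zero
      intro ξ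
      rw [secDivFun_oneSec δZ hδZ ξ z, mul_zero]
    rw [h0]
    ring
  have hβ : ∀ z, Cyc.divFun δ (i (genericPoint Z)) f (i z) =
      Cyc.divFun δZ (genericPoint Z) ((i.residueFieldMap (genericPoint Z)).hom f) z := fun z =>
    divFun_preimmersion i δ (genericPoint Z) f z
  have hcl : IsClosed (Set.range i) := i.isClosedEmbedding.isClosed_range
  have hβ0 : ∀ x, x ∉ Set.range i → Cyc.divFun δ (i (genericPoint Z)) f x = 0 := by
    intro x hx
    unfold Cyc.divFun
    rw [dif_neg]
    intro hc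
    exact hx (hc.1.mem_closed hcl ⟨genericPoint Z, rfl⟩)
  obtain ⟨hc1, hc2⟩ := c1CapFun_closedImmersion i δ hδ L hL
    (Cyc.divFun δZ (genericPoint Z) ((i.residueFieldMap (genericPoint Z)).hom f))
    (Cyc.divFun δ (i (genericPoint Z)) f) hβ hβ0 (Cyc.gysinChoice L σ w) hv
  refine (ratPres_push_closedImmersion' i δ k _ _ hkey2 _ hc1 hc2).mono ?_
  rintro x ⟨z, hz, rfl⟩
  exact ⟨⟨z, rfl⟩, (mem_vanish_pullSec_iff i L hL σ z).1 hz⟩

/-- Gysin pullback of a principal divisor. -/
theorem ratPres_gysin_div [IsLocallyNoetherian X] (δ : X → ℤ)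
    (hδ : Cyc.IsDimFun X δ) (L : X.Modules) (hL : PicF.IsInvertible L)
    (σ : L.presheaf.obj (Opposite.op ⊤)) (hclosed : IsClosed (vanish L σ))
    (w : (ξ : X) → Cyc.secFibre L ξ) (hw : ∀ ξ, w ξ ≠ 0) (k : ℤ) (ξ : X)
    (f : X.residueField ξ) (hf : f ≠ 0) (hk : δ ξ = k + 2) :
    RatPres δ k (Cyc.c1CapFun δ L (Cyc.divFun δ ξ f) (Cyc.gysinChoice L σ w))
      (closure {ξ} ∩ vanish L σ) := by
  have hv : ∀ ξ, Cyc.gysinChoice L σ w ξ ≠ 0 := gysinChoice_ne_zero L σ w hw
  by_cases hξ : ξ ∈ vanish L σ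
  · have hsub : closure ({ξ} : Set X) ⊆ vanish L σ :=
      hclosed.closure_subset_iff.2 (Set.singleton_subset_iff.2 hξ)
    exact (ratPres_c1Cap_div δ hδ L hL _ hv k ξ f hf hk).mono
      (Set.subset_inter (subset_refl _) hsub)
  · have hp := clι_genericPoint ξ
    have hall : ∀ g : X.residueField (clι ξ (genericPoint (cl ξ))), g ≠ 0 →
        RatPres δ k (Cyc.c1CapFun δ L (Cyc.divFun δ (clι ξ (genericPoint (cl ξ))) g)
          (Cyc.gysinChoice L σ w)) (Set.range (clι ξ) ∩ vanish L σ) := fun g hg =>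
      ratPres_gysin_div_of_closedImmersion (clι ξ) δ hδ L hL σ w hw (by rw [hp]; exact hξ) g hg k
        (by rw [hp]; exact hk)
    revert hall
    generalize clι ξ (genericPoint (cl ξ)) = p at hp
    intro hall
    subst hp
    rw [← range_clι]
    exact hall f hf

end Single

section Main

variable {X D : Scheme.{u}}

/-- **The Gysin map preserves rational equivalence** (library form). -/
theorem gysin_ratEquivZero [IsLocallyNoetherian X] (δ : X → ℤ) (hδ : Cyc.IsDimFun X δ)
    (L : X.Modules) (hL : PicF.IsInvertible L) (σ : L.presheaf.obj (Opposite.op ⊤))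
    (i : D ⟶ X) [IsClosedImmersion i] (hD : Cyc.IsZeroSchemeOf i L σ) (k : ℤ)
    (α : AlgebraicCycle X ℤ) (h0 : Cyc.RatEquivZero δ (k + 1) α)
    (w : (ξ : X) → Cyc.secFibre L ξ) (hw : ∀ ξ, w ξ ≠ 0) (γ : AlgebraicCycle D ℤ)
    (hγ : ∀ d : D, γ d = Cyc.c1CapFun δ L ⇑α (Cyc.gysinChoice L σ w) (i d)) :
    Cyc.RatEquivZero (fun d => δ (i d)) k γ := by
  classical
  have hrange : Set.range i = vanish L σ := hD.1
  have hclosed : IsClosed (vanish L σ) := hrange ▸ i.isClosedEmbedding.isClosed_range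
  obtain ⟨ι, ξ, f, hd, hf, hlf, hsum⟩ := h0
  have hlf' : ∀ x : X, ∃ U : Set X, IsOpen U ∧ x ∈ U ∧
      {j | ((fun j => closure ({ξ j} : Set X) ∩ vanish L σ) j ∩ U).Nonempty}.Finite := by
    intro x
    obtain ⟨U, hU, hxU, hfin⟩ := hlf x
    refine ⟨U, hU, hxU, hfin.subset ?_⟩
    rintro j ⟨y, hy1, hy2⟩
    exact ⟨y, hy1.1, hy2⟩
  have hpres := ratPres_finsum (δ := δ) (k := k)
    (fun j => closure ({ξ j} : Set X) ∩ vanish L σ)
    (fun j => isClosed_closure.inter hclosed) hlf'
    (fun j => Cyc.c1CapFun δ L (Cyc.divFun δ (ξ j) (f j)) (Cyc.gysinChoice L σ w))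
    (fun j => ratPres_gysin_div δ hδ L hL σ hclosed w hw k (ξ j) (f j) (hf j)
      (by rw [hd j]; ring))
  have hpres2 : RatPres δ k (Cyc.c1CapFun δ L ⇑α (Cyc.gysinChoice L σ w)) (Set.range i) := by
    refine (hpres.congr fun x => ?_).mono ?_
    · exact (c1CapFun_finsum_divFun δ L ξ f hf hlf ⇑α hsum _ x).symm
    · rw [hrange]
      intro x hx
      obtain ⟨j, hj⟩ := Set.mem_iUnion.1 hx
      exact hj.2
  have hpull := ratPres_pull_closedImmersion i δ k _ (Set.range i) (subset_refl _) hpres2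
  exact RatPres.ratEquivZero γ (hpull.congr fun d => (hγ d).symm)

end Main

end Groth.Agent.Lib.Helper18.KeyGeo
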