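import Mathlib
import Groth.Prelude.Def_C1
import Groth.Prelude.Def_Pic
import Groth.Agent.Lib.Helper18.Cyc.GysinRat

/-!
# `i^*(c_1(N) ∩ α) ∼ c_1(i^*N) ∩ i^*α`
-/

set_option autoImplicit false
set_option maxHeartbeats 1000000
set_option linter.style.haveILetI false
set_option linter.unusedSectionVars false
universe u
open AlgebraicGeometry CategoryTheory IsLocalRing

namespace Groth.Agent.Lib.Helper18.KeyGeo

open Groth.Agent.Lib.Helper18.CycDiv Groth.Agent.Lib.Helper18.C1Core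
  Groth.Agent.Lib.Helper18.InvStalk Groth.Agent.Lib.Helper18.Push
  Groth.Agent.Lib.Helper18.CycPull Groth.Agent.Lib.Helper18.ClSub
  Groth.Agent.Lib.Helper28.PullbackInv

section Support

variable {X : Scheme.{u}}

/-- the Gysin class is supported on the zero set -/
theorem c1CapFun_gysinChoice_eq_zero_of_not_mem [IsLocallyNoetherian X] (δ : X → ℤ)
    (hδ : Cyc.IsDimFun X δ) (L : X.Modules) (hL : PicF.IsInvertible L)
    (σ : L.presheaf.obj (Opposite.op ⊤)) (hclosed : IsClosed (vanish L σ))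
    (w : (ξ : X) → Cyc.secFibre L ξ) (α : X → ℤ) (x : X) (hx : x ∉ vanish L σ) :
    Cyc.c1CapFun δ L α (Cyc.gysinChoice L σ w) x = 0 := by
  classical
  show ∑ᶠ ξ : X, α ξ * Cyc.secDivFun δ L ξ (Cyc.gysinChoice L σ w ξ) x = 0
  apply finsum_eq_zero_of_forall_eq_zero
  intro ξ
  have h0 : Cyc.secDivFun δ L ξ (Cyc.gysinChoice L σ w ξ) x = 0 := by
    unfold Cyc.secDivFun
    by_cases hc : ξ ⤳ x ∧ δ x + 1 = δ ξ
    · rw [dif_pos hc]
      have hξ : ξ ∉ vanish L σ := fun hξ => hx (hc.1.mem_closed hclosed hξ)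
      rw [gysinChoice_of_ne_zero L σ w ξ hξ]
      obtain ⟨c, hc'⟩ := exists_unit_of_not_mem_vanish L hL σ x hx
      have hd := krullDimLE_one_locQuot δ hδ hc.1 hc.2
      have hne : Cyc.specMap x ξ hc.1 (c : X.presheaf.stalk x) ≠ 0 :=
        (c.isUnit.map (Cyc.specMap x ξ hc.1)).ne_zero
      rw [secOrdAt_mk_germ L hL σ hc.1 hd (gen_free L hL x) _ hc' hne]
      exact ordAt_eq_zero_of_isUnit hc.1 _ c 1 (by simp)
    · rw [dif_neg hc]
  rw [h0, mul_zero]

end Support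

section Single

variable {X Z : Scheme.{u}}

/-- the local statement on an integral closed subscheme not contained in the zero set -/
theorem ratPres_gysin_c1_of_closedImmersion [IsIntegral Z] [IsLocallyNoetherian X]
    [IsLocallyNoetherian Z] (i : Z ⟶ X) [IsClosedImmersion i] (δ : X → ℤ)
    (hδ : Cyc.IsDimFun X δ) (L N : X.Modules) (hL : PicF.IsInvertible L)
    (hN : PicF.IsInvertible N) (σ : L.presheaf.obj (Opposite.op ⊤))
    (w : (ξ : X) → Cyc.secFibre L ξ) (hw : ∀ ξ, w ξ ≠ 0)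
    (u : (ξ : X) → Cyc.secFibre N ξ) (hu : ∀ ξ, u ξ ≠ 0)
    (hgen : i (genericPoint Z) ∉ vanish L σ)
    (tN : Cyc.secFibre N (i (genericPoint Z))) (htN : tN ≠ 0)
    (k : ℤ) (hk : δ (i (genericPoint Z)) = k + 2) :
    RatPres δ k (fun x =>
      Cyc.c1CapFun δ L (Cyc.secDivFun δ N (i (genericPoint Z)) tN) (Cyc.gysinChoice L σ w) x -
      Cyc.c1CapFun δ N (Cyc.secDivFun δ L (i (genericPoint Z))
        (Cyc.gysinChoice L σ w (i (genericPoint Z)))) u x)
      (Set.range i ∩ vanish L σ) := by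
  classical
  set δZ : Z → ℤ := fun z => δ (i z) with hδZdef
  have hδZ : Cyc.IsDimFun Z δZ := isDimFun_comp_of_isClosedImmersion i δ hδ
  have hLZ : PicF.IsInvertible ((Scheme.Modules.pullback i).obj L) := isInvertible_pullback i hL
  have hNZ : PicF.IsInvertible ((Scheme.Modules.pullback i).obj N) := isInvertible_pullback i hN
  have hv : ∀ ξ, Cyc.gysinChoice L σ w ξ ≠ 0 := gysinChoice_ne_zero L σ w hw
  have hwZ : ∀ y : Z, pullSec i L y (w (i y)) ≠ 0 := fun y => pullSec_ne_zero i hL y _ (hw (i y))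
  have huZ : ∀ y : Z, pullSec i N y (u (i y)) ≠ 0 := fun y => pullSec_ne_zero i hN y _ (hu (i y))
  have htZ : pullSec i N (genericPoint Z) tN ≠ 0 := pullSec_ne_zero i hN _ _ htN
  have hσZ : secGen ((Scheme.Modules.pullback i).obj L) (ProjUP.pullSec i L σ) ≠ 0 := by
    intro h0
    exact hgen ((mem_vanish_pullSec_iff i L hL σ (genericPoint Z)).1 h0)
  have hkey := gysin_key' δZ hδZ ((Scheme.Modules.pullback i).obj L)
    ((Scheme.Modules.pullback i).obj N) hLZ hNZ (ProjUP.pullSec i L σ)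
    (pullSec i N (genericPoint Z) tN) htZ hσZ
    (fun y => pullSec i L y (w (i y))) hwZ (fun y => pullSec i N y (u (i y))) huZ (k + 2) hk
  have hk2 : k + 2 - 2 = k := by ring
  rw [hk2] at hkey
  have hchoice : Cyc.gysinChoice ((Scheme.Modules.pullback i).obj L) (ProjUP.pullSec i L σ)
      (fun y => pullSec i L y (w (i y))) =
      fun y => pullSec i L y (Cyc.gysinChoice L σ w (i y)) := by
    funext y
    exact gysinChoice_pullSec i hL σ w y
  have hsec : secGen ((Scheme.Modules.pullback i).obj L) (ProjUP.pullSec i L σ) =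
      pullSec i L (genericPoint Z) (Cyc.gysinChoice L σ w (i (genericPoint Z))) := by
    rw [gysinChoice_of_ne_zero L σ w _ hgen, pullSec_mk i hL, ← germ_pullSec]
    rfl
  rw [hchoice, hsec] at hkey
  obtain ⟨hc1, hc2⟩ := c1CapFun_closedImmersion i δ hδ L hL
    (Cyc.secDivFun δZ ((Scheme.Modules.pullback i).obj N) (genericPoint Z)
      (pullSec i N (genericPoint Z) tN))
    (Cyc.secDivFun δ N (i (genericPoint Z)) tN)
    (fun z => secDivFun_closedImmersion i δ hδ N hN (genericPoint Z) z tN htN)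
    (fun x hx => secDivFun_eq_zero_of_not_mem_range i δ N _ tN x hx)
    (Cyc.gysinChoice L σ w) hv
  obtain ⟨hd1, hd2⟩ := c1CapFun_closedImmersion i δ hδ N hN
    (Cyc.secDivFun δZ ((Scheme.Modules.pullback i).obj L) (genericPoint Z)
      (pullSec i L (genericPoint Z) (Cyc.gysinChoice L σ w (i (genericPoint Z)))))
    (Cyc.secDivFun δ L (i (genericPoint Z)) (Cyc.gysinChoice L σ w (i (genericPoint Z))))
    (fun z => secDivFun_closedImmersion i δ hδ L hL (genericPoint Z) z _ (hv _))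
    (fun x hx => secDivFun_eq_zero_of_not_mem_range i δ L _ _ x hx) u hu
  refine (ratPres_push_closedImmersion' i δ k _ _ hkey.neg _ (fun z => ?_)
    (fun x hx => ?_)).mono ?_
  · show _ - _ = -(_ - _)
    rw [hc1 z, hd1 z]
    ring
  · show _ - _ = (0 : ℤ)
    rw [hc2 x hx, hd2 x hx, sub_zero]
  · rintro x ⟨z, hz, rfl⟩
    exact ⟨⟨z, rfl⟩, (mem_vanish_pullSec_iff i L hL σ z).1 hz⟩

/-- the local statement at an arbitrary point -/
theorem ratPres_gysin_c1_single [IsLocallyNoetherian X] (δ : X → ℤ)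
    (hδ : Cyc.IsDimFun X δ) (L N : X.Modules) (hL : PicF.IsInvertible L)
    (hN : PicF.IsInvertible N) (σ : L.presheaf.obj (Opposite.op ⊤))
    (hclosed : IsClosed (vanish L σ))
    (w : (ξ : X) → Cyc.secFibre L ξ) (hw : ∀ ξ, w ξ ≠ 0)
    (u : (ξ : X) → Cyc.secFibre N ξ) (hu : ∀ ξ, u ξ ≠ 0) (k : ℤ) (ξ : X)
    (tN : Cyc.secFibre N ξ) (htN : tN ≠ 0) (hk : δ ξ = k + 2) :
    RatPres δ k (fun x =>
      Cyc.c1CapFun δ L (Cyc.secDivFun δ N ξ tN) (Cyc.gysinChoice L σ w) x -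
      Cyc.c1CapFun δ N (Cyc.secDivFun δ L ξ (Cyc.gysinChoice L σ w ξ)) u x)
      (closure {ξ} ∩ vanish L σ) := by
  have hv : ∀ ξ, Cyc.gysinChoice L σ w ξ ≠ 0 := gysinChoice_ne_zero L σ w hw
  by_cases hξ : ξ ∈ vanish L σ
  · have hsub : closure ({ξ} : Set X) ⊆ vanish L σ :=
      hclosed.closure_subset_iff.2 (Set.singleton_subset_iff.2 hξ)
    exact (ratPres_c1Cap_comm_single δ hδ L N hL hN _ hv u hu k ξ tN htN _ (hv ξ) hk).mono
      (Set.subset_inter (subset_refl _) hsub)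
  · have hp := clι_genericPoint ξ
    have hall : ∀ t' : Cyc.secFibre N (clι ξ (genericPoint (cl ξ))), t' ≠ 0 →
        RatPres δ k (fun x =>
          Cyc.c1CapFun δ L (Cyc.secDivFun δ N (clι ξ (genericPoint (cl ξ))) t')
            (Cyc.gysinChoice L σ w) x -
          Cyc.c1CapFun δ N (Cyc.secDivFun δ L (clι ξ (genericPoint (cl ξ)))
            (Cyc.gysinChoice L σ w (clι ξ (genericPoint (cl ξ))))) u x)
          (Set.range (clι ξ) ∩ vanish L σ) := fun t' ht' =>
      ratPres_gysin_c1_of_closedImmersion (clι ξ) δ hδ L N hL hN σ w hw u hu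
        (by rw [hp]; exact hξ) t' ht' k (by rw [hp]; exact hk)
    revert hall
    generalize clι ξ (genericPoint (cl ξ)) = p at hp
    intro hall
    subst hp
    rw [← range_clι]
    exact hall tN htN

end Single

section Main

variable {X D : Scheme.{u}}

/-- `c_1(L) ∩ (c_1(N) ∩ α) - c_1(N) ∩ (c_1(L) ∩ α)`, the `L`-sections being the Gysin choice, is
a sum of principal divisors on subvarieties of the zero set. -/
theorem ratPres_gysin_c1 [IsLocallyNoetherian X] (δ : X → ℤ) (hδ : Cyc.IsDimFun X δ)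
    (L N : X.Modules) (hL : PicF.IsInvertible L) (hN : PicF.IsInvertible N)
    (σ : L.presheaf.obj (Opposite.op ⊤)) (hclosed : IsClosed (vanish L σ)) (k : ℤ)
    (α : AlgebraicCycle X ℤ) (hα : α ∈ Cyc.Zk X δ k)
    (w : (ξ : X) → Cyc.secFibre L ξ) (hw : ∀ ξ, w ξ ≠ 0)
    (v : (ξ : X) → Cyc.secFibre N ξ) (hv : ∀ ξ, v ξ ≠ 0) :
    RatPres δ (k - 2) (fun x =>
      Cyc.c1CapFun δ L (Cyc.c1CapFun δ N ⇑α v) (Cyc.gysinChoice L σ w) x -
      Cyc.c1CapFun δ N (Cyc.c1CapFun δ L ⇑α (Cyc.gysinChoice L σ w)) v x) (vanish L σ) := by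
  classical
  have hvL : ∀ ξ, Cyc.gysinChoice L σ w ξ ≠ 0 := gysinChoice_ne_zero L σ w hw
  have hαLFS : LocallyFiniteSupport ⇑α := fun x =>
    α.supportLocallyFiniteWithinDomain x (Set.mem_univ _)
  set S : X → Set X := fun ξ => if α ξ ≠ 0 then closure {ξ} ∩ vanish L σ else ∅ with hSdef
  set F : X → X → ℤ := fun ξ x =>
    α ξ * (Cyc.c1CapFun δ L (Cyc.secDivFun δ N ξ (v ξ)) (Cyc.gysinChoice L σ w) x -
      Cyc.c1CapFun δ N (Cyc.secDivFun δ L ξ (Cyc.gysinChoice L σ w ξ)) v x) with hFdef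
  have hSclosed : ∀ ξ, IsClosed (S ξ) := by
    intro ξ
    show IsClosed (if α ξ ≠ 0 then closure {ξ} ∩ vanish L σ else ∅)
    split_ifs
    · exact isClosed_closure.inter hclosed
    · exact isClosed_empty
  have hSlf : ∀ x : X, ∃ U : Set X, IsOpen U ∧ x ∈ U ∧ {ξ | (S ξ ∩ U).Nonempty}.Finite := by
    intro x
    obtain ⟨t, ht, htfin⟩ := hαLFS x
    obtain ⟨V, hVt, hVo, hxV⟩ := mem_nhds_iff.1 ht
    refine ⟨V, hVo, hxV, htfin.subset ?_⟩
    rintro ξ ⟨y, hy1, hy2⟩
    have hαξ : α ξ ≠ 0 := by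
      by_contra h0
      have : S ξ = ∅ := if_neg (not_not.2 h0)
      rw [this] at hy1
      exact hy1
    have hS : S ξ = closure {ξ} ∩ vanish L σ := if_pos hαξ
    rw [hS] at hy1
    have hsp : ξ ⤳ y := specializes_iff_mem_closure.2 hy1.1
    exact ⟨hVt (hsp.mem_open hVo hy2), hαξ⟩
  have hpres : ∀ ξ, RatPres δ (k - 2) (F ξ) (S ξ) := by
    intro ξ
    by_cases hαξ : α ξ = 0
    · have hF0 : F ξ = fun _ => 0 := by
        funext x
        show α ξ * _ = 0
        rw [hαξ, zero_mul]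
      rw [hF0]
      exact ratPres_zero δ (k - 2) _
    · have hS : S ξ = closure {ξ} ∩ vanish L σ := if_pos hαξ
      rw [hS]
      have hk : δ ξ = k - 2 + 2 := by
        by_contra hne
        exact hαξ (hα ξ (fun h => hne (by rw [h]; ring)))
      exact RatPres.zsmul (ratPres_gysin_c1_single δ hδ L N hL hN σ hclosed w hw v hv (k - 2) ξ
        (v ξ) (hv ξ) hk) (α ξ)
  have hsum := ratPres_finsum (δ := δ) (k := k - 2) S hSclosed hSlf F hpres
  refine (hsum.congr fun x => ?_).mono ?_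
  · show ∑ᶠ ξ, F ξ x = _
    obtain ⟨hf1, he1⟩ := c1CapFun_c1CapFun_expand δ hδ L N hN ⇑α hαLFS v hv
      (Cyc.gysinChoice L σ w) x
    obtain ⟨hf2, he2⟩ := c1CapFun_c1CapFun_expand δ hδ N L hL ⇑α hαLFS
      (Cyc.gysinChoice L σ w) hvL v x
    rw [he1, he2, ← finsum_sub_distrib hf1 hf2]
    apply finsum_congr
    intro ξ
    show α ξ * (_ - _) = _
    rw [mul_sub]
  · intro x hx
    obtain ⟨ξ, hξ⟩ := Set.mem_iUnion.1 hx
    by_cases hαξ : α ξ ≠ 0
    · have hS : S ξ = closure {ξ} ∩ vanish L σ := if_pos hαξ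
      rw [hS] at hξ
      exact hξ.2
    · have hS : S ξ = ∅ := if_neg hαξ
      rw [hS] at hξ
      exact hξ.elim

/-- **Gysin maps commute with `c_1`** (library form). -/
theorem gysin_c1Cap [IsLocallyNoetherian X] [IsLocallyNoetherian D] (δ : X → ℤ)
    (hδ : Cyc.IsDimFun X δ)
    (L N : X.Modules) (hL : PicF.IsInvertible L) (hN : PicF.IsInvertible N)
    (σ : L.presheaf.obj (Opposite.op ⊤)) (i : D ⟶ X) [IsClosedImmersion i]
    (hD : Cyc.IsZeroSchemeOf i L σ) (k : ℤ)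
    (α : AlgebraicCycle X ℤ) (hα : α ∈ Cyc.Zk X δ k)
    (w : (ξ : X) → Cyc.secFibre L ξ) (hw : ∀ ξ, w ξ ≠ 0)
    (v : (ξ : X) → Cyc.secFibre N ξ) (hv : ∀ ξ, v ξ ≠ 0)
    (t : (d : D) → Cyc.secFibre ((Scheme.Modules.pullback i).obj N) d) (ht : ∀ d, t d ≠ 0)
    (β : AlgebraicCycle X ℤ) (hβ : ⇑β = Cyc.c1CapFun δ N ⇑α v) (γ : D → ℤ)
    (hγ : γ = fun d => Cyc.c1CapFun δ L ⇑α (Cyc.gysinChoice L σ w) (i d))
    (ζ₁ ζ₂ : AlgebraicCycle D ℤ)
    (h₁ : ∀ d, ζ₁ d = Cyc.c1CapFun δ L ⇑β (Cyc.gysinChoice L σ w) (i d))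
    (h₂ : ⇑ζ₂ = Cyc.c1CapFun (fun d => δ (i d)) ((Scheme.Modules.pullback i).obj N) γ t) :
    Cyc.RatEquiv (fun d => δ (i d)) (k - 2) ζ₁ ζ₂ := by
  classical
  have hrange : Set.range i = vanish L σ := hD.1
  have hclosed : IsClosed (vanish L σ) := hrange ▸ i.isClosedEmbedding.isClosed_range
  have hvL : ∀ ξ, Cyc.gysinChoice L σ w ξ ≠ 0 := gysinChoice_ne_zero L σ w hw
  have hαLFS : LocallyFiniteSupport ⇑α := fun x =>
    α.supportLocallyFiniteWithinDomain x (Set.mem_univ _)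
  have hδD : Cyc.IsDimFun D (fun d => δ (i d)) := isDimFun_comp_of_isClosedImmersion i δ hδ
  have hND : PicF.IsInvertible ((Scheme.Modules.pullback i).obj N) := isInvertible_pullback i hN
  have hmain := ratPres_gysin_c1 δ hδ L N hL hN σ hclosed k α hα w hw v hv
  have hpull := ratPres_pull_closedImmersion i δ (k - 2) _ (vanish L σ) (by rw [hrange]) hmain
  -- the function `γ` on `X`
  set γX : X → ℤ := Cyc.c1CapFun δ L ⇑α (Cyc.gysinChoice L σ w) with hγX
  have hγ0 : ∀ x, x ∉ Set.range i → γX x = 0 := by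
    intro x hx
    rw [hrange] at hx
    exact c1CapFun_gysinChoice_eq_zero_of_not_mem δ hδ L hL σ hclosed w ⇑α x hx
  have hγi : ∀ d, γX (i d) = γ d := by
    intro d
    rw [hγ]
  obtain ⟨hc1, -⟩ := c1CapFun_closedImmersion i δ hδ N hN γ γX hγi hγ0 v hv
  -- `γ` is a `(k-1)`-cycle with locally finite support
  have hγXLFS : LocallyFiniteSupport γX :=
    locallyFiniteSupport_c1CapFun L hL δ hδ _ hαLFS _ hvL
  have hγLFS : LocallyFiniteSupport γ := by
    have := locallyFiniteSupport_comp_of_injective i i.isClosedEmbedding.injective γX hγXLFS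
    rw [hγ]
    exact this
  have hγk : ∀ d, γ d ≠ 0 → δ (i d) = k - 2 + 1 := by
    intro d hd
    rw [← hγi d] at hd
    by_contra hne
    apply hd
    show ∑ᶠ ξ : X, α ξ * Cyc.secDivFun δ L ξ (Cyc.gysinChoice L σ w ξ) (i d) = 0
    apply finsum_eq_zero_of_forall_eq_zero
    intro ξ
    by_cases hαξ : α ξ = 0
    · rw [hαξ, zero_mul]
    · have hkξ : δ ξ = k := by
        by_contra hne'
        exact hαξ (hα ξ hne')
      have : Cyc.secDivFun δ L ξ (Cyc.gysinChoice L σ w ξ) (i d) = 0 := by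
        unfold Cyc.secDivFun
        rw [dif_neg]
        rintro ⟨-, h2⟩
        apply hne
        rw [hkξ] at h2
        linarith
      rw [this, mul_zero]
  have hind := ratPres_c1CapFun_sub ((Scheme.Modules.pullback i).obj N) hND (fun d => δ (i d)) hδD
    (k - 2) γ hγk hγLFS (fun y => pullSec i N y (v (i y))) t
    (fun y => pullSec_ne_zero i hN y _ (hv (i y))) ht
  refine RatPres.ratEquivZero (ζ₁ - ζ₂) (((hpull.add hind).mono (Set.subset_univ _)).congr
    fun d => ?_)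
  show (_ - _) + (_ - _) = ζ₁ d - ζ₂ d
  rw [h₁ d, h₂, hβ, hc1 d]
  ring

end Main

end Groth.Agent.Lib.Helper18.KeyGeo
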