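import Mathlib
import Groth.Prelude.Def_Cyc
import Groth.Prelude.Def_C1
import Groth.Prelude.Def_Pic
import Groth.Prelude.Def_DerSch
import Groth.Agent.Lib.Helper18.Cyc.C1Sec
import Groth.Agent.Lib.Helper18.Cyc.PullDiv

/-!
# Invariance of the `c_1`/Gysin data under isomorphisms of modules
-/

set_option autoImplicit false
set_option linter.style.haveILetI false
universe u
open AlgebraicGeometry CategoryTheory IsLocalRing

namespace Groth.Agent.Lib.Helper18.ModIso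

open Groth.Agent.Lib.Helper18.C1Core Groth.Agent.Lib.Helper18.InvStalk
open Groth.Agent.Lib.Helper18.CycDiv

variable {X : Scheme.{u}} {M N : X.Modules}

/-- The stalk equivalence of an isomorphism of modules. -/
noncomputable def stalkEquiv (φ : M ≅ N) (x : X) :
    M.presheaf.stalk x ≃ₗ[X.presheaf.stalk x] N.presheaf.stalk x :=
  ((DerSch.stalkFunctor X x).mapIso φ).toLinearEquiv

theorem stalkEquiv_germ (φ : M ≅ N) (x : X) (U : X.Opens) (hx : x ∈ U)
    (s : M.presheaf.obj (Opposite.op U)) :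
    stalkEquiv φ x (M.presheaf.germ U x hx s) = N.presheaf.germ U x hx (φ.hom.app U s) :=
  DerSch.stalkFunctor_map_germ x φ.hom U hx s

theorem stalkEquiv_stalkSpecializes (φ : M ≅ N) {ξ x : X} (h : ξ ⤳ x)
    (t : M.presheaf.stalk x) :
    stalkEquiv φ ξ (M.presheaf.stalkSpecializes h t) =
      N.presheaf.stalkSpecializes h (stalkEquiv φ x t) := by
  obtain ⟨U, hx, s, rfl⟩ := TopCat.Presheaf.exists_germ_eq M.presheaf t
  rw [TopCat.Presheaf.germ_stalkSpecializes_apply, stalkEquiv_germ, stalkEquiv_germ,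
    TopCat.Presheaf.germ_stalkSpecializes_apply]

theorem freeGen_stalkEquiv (φ : M ≅ N) (x : X) {t : M.presheaf.stalk x}
    (ht : FreeGen (X.presheaf.stalk x) t) : FreeGen (X.presheaf.stalk x) (stalkEquiv φ x t) := by
  constructor
  · have := congrArg (Submodule.map (stalkEquiv φ x).toLinearMap) ht.1
    rw [Submodule.map_span, Set.image_singleton, Submodule.map_top, LinearEquiv.range] at this
    exact this
  · intro a ha
    apply ht.2 a
    apply (stalkEquiv φ x).injective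
    rw [map_smul, ha, map_zero]

/-- The equivalence of fibres of an isomorphism of modules. -/
noncomputable def fibreEquiv (φ : M ≅ N) (ξ : X) :
    Cyc.secFibre M ξ ≃ₗ[X.presheaf.stalk ξ] Cyc.secFibre N ξ :=
  Submodule.Quotient.equiv _ _ (stalkEquiv φ ξ) (by
    rw [Submodule.map_smul'', Submodule.map_top, LinearEquiv.range])

theorem fibreEquiv_mk (φ : M ≅ N) (ξ : X) (t : M.presheaf.stalk ξ) :
    fibreEquiv φ ξ (Submodule.Quotient.mk t) = Submodule.Quotient.mk (stalkEquiv φ ξ t) := rfl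

theorem fibreEquiv_ne_zero (φ : M ≅ N) (ξ : X) {s : Cyc.secFibre M ξ} (hs : s ≠ 0) :
    fibreEquiv φ ξ s ≠ 0 := fun h => hs ((fibreEquiv φ ξ).map_eq_zero_iff.1 h)

theorem secOrdAt_fibreEquiv [IsLocallyNoetherian X] (hM : PicF.IsInvertible M)
    (hN : PicF.IsInvertible N) (φ : M ≅ N) {ξ x : X} (h : ξ ⤳ x)
    (hd : Ring.KrullDimLE 1 (Cyc.LocQuot x ξ h)) (s : Cyc.secFibre M ξ) (hs : s ≠ 0) :
    Cyc.secOrdAt N ξ x h (fibreEquiv φ ξ s) = Cyc.secOrdAt M ξ x h s := by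
  obtain ⟨t, ht⟩ := exists_span_eq_top M hM x
  have hfree := freeGen_of_span_eq_top M hM ht
  have hfreeξ := freeGen_stalkSpecializes M hM h ht
  obtain ⟨a, ha⟩ := exists_smul_mk M hfreeξ s
  have hane : X.residue ξ a ≠ 0 := by
    apply residue_ne_zero_of_smul_mk_ne_zero M a
    rw [← ha]; exact hs
  rw [ha, map_smul, fibreEquiv_mk, stalkEquiv_stalkSpecializes,
    secOrdAt_smul_mk_of_freeGen N hN h hd (freeGen_stalkEquiv φ x hfree) a hane,
    secOrdAt_smul_mk_of_freeGen M hM h hd hfree a hane]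

theorem c1CapFun_fibreEquiv [IsLocallyNoetherian X] (δ : X → ℤ) (hδ : Cyc.IsDimFun X δ)
    (hM : PicF.IsInvertible M) (hN : PicF.IsInvertible N) (φ : M ≅ N) (α : X → ℤ)
    (s : (ξ : X) → Cyc.secFibre M ξ) (hs : ∀ ξ, s ξ ≠ 0) :
    Cyc.c1CapFun δ N α (fun ξ => fibreEquiv φ ξ (s ξ)) = Cyc.c1CapFun δ M α s := by
  funext x
  show ∑ᶠ ξ : X, α ξ * Cyc.secDivFun δ N ξ (fibreEquiv φ ξ (s ξ)) x =
    ∑ᶠ ξ : X, α ξ * Cyc.secDivFun δ M ξ (s ξ) x
  refine finsum_congr fun ξ => ?_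
  congr 1
  unfold Cyc.secDivFun
  by_cases hc : ξ ⤳ x ∧ δ x + 1 = δ ξ
  · rw [dif_pos hc, dif_pos hc]
    exact secOrdAt_fibreEquiv hM hN φ hc.1 (krullDimLE_one_locQuot δ hδ hc.1 hc.2) (s ξ) (hs ξ)
  · rw [dif_neg hc, dif_neg hc]

theorem mk_germ_fibreEquiv (φ : M ≅ N) (σ : M.presheaf.obj (Opposite.op ⊤)) (ξ : X) :
    (Submodule.Quotient.mk (N.presheaf.germ ⊤ ξ trivial (φ.hom.app ⊤ σ)) : Cyc.secFibre N ξ) =
      fibreEquiv φ ξ (Submodule.Quotient.mk (M.presheaf.germ ⊤ ξ trivial σ)) := by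
  rw [fibreEquiv_mk, stalkEquiv_germ]

theorem gysinChoice_fibreEquiv (φ : M ≅ N) (σ : M.presheaf.obj (Opposite.op ⊤))
    (w : (ξ : X) → Cyc.secFibre M ξ) (ξ : X) :
    Cyc.gysinChoice N (φ.hom.app ⊤ σ) (fun ξ => fibreEquiv φ ξ (w ξ)) ξ =
      fibreEquiv φ ξ (Cyc.gysinChoice M σ w ξ) := by
  unfold Cyc.gysinChoice
  rw [mk_germ_fibreEquiv]
  by_cases h0 : (Submodule.Quotient.mk (M.presheaf.germ ⊤ ξ trivial σ) : Cyc.secFibre M ξ) = 0
  · rw [if_neg (by rw [h0, map_zero]; exact fun h => h rfl), if_neg (fun h => h h0)]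
  · rw [if_pos (fibreEquiv_ne_zero φ ξ h0), if_pos h0]

theorem isZeroSchemeOf_iso (φ : M ≅ N) {D : Scheme.{u}} (i : D ⟶ X)
    (σ : M.presheaf.obj (Opposite.op ⊤)) (h : Cyc.IsZeroSchemeOf i M σ) :
    Cyc.IsZeroSchemeOf i N (φ.hom.app ⊤ σ) := by
  refine ⟨?_, fun d => ?_⟩
  · rw [h.1]
    ext x
    show _ = 0 ↔ _ = 0
    rw [mk_germ_fibreEquiv, LinearEquiv.map_eq_zero_iff]
  · obtain ⟨t, f, h1, h2, h3⟩ := h.2 d
    refine ⟨stalkEquiv φ (i d) t, f, ?_, ?_, h3⟩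
    · have := congrArg (Submodule.map (stalkEquiv φ (i d)).toLinearMap) h1
      rw [Submodule.map_span, Set.image_singleton, Submodule.map_top, LinearEquiv.range] at this
      exact this
    · rw [← stalkEquiv_germ, h2, map_smul]

end Groth.Agent.Lib.Helper18.ModIso
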