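import Mathlib
import Groth.Prelude.Def_C1
import Groth.Prelude.Def_Pic
import Groth.Agent.Lib.Helper18.Cyc.GysinKey

/-!
# The key formula with supports, for two global sections
-/

set_option autoImplicit false
set_option maxHeartbeats 1000000
set_option linter.style.haveILetI false
set_option linter.unusedSectionVars false
universe u
open AlgebraicGeometry CategoryTheory IsLocalRing

namespace Groth.Agent.Lib.Helper18.KeyGeo

open Groth.Agent.Lib.Helper18.CycDiv Groth.Agent.Lib.Helper18.C1Core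
  Groth.Agent.Lib.Helper18.InvStalk Groth.Agent.Lib.Helper18.Push

variable {X : Scheme.{u}} [IsIntegral X] [IsLocallyNoetherian X]
variable (δ : X → ℤ) (hδ : Cyc.IsDimFun X δ) (L N : X.Modules) (hL : PicF.IsInvertible L)
  (hN : PicF.IsInvertible N) (σ : L.presheaf.obj (Opposite.op ⊤))
  (τ : N.presheaf.obj (Opposite.op ⊤))

open Classical in
include hδ hL hN in
/-- **The key formula for two global sections**: all subvarieties lie in both zero sets. -/
theorem gysin_key2 (hσ : secGen L σ ≠ 0) (hτ : secGen N τ ≠ 0)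
    (w : (ξ : X) → Cyc.secFibre L ξ) (hw : ∀ ξ, w ξ ≠ 0)
    (w' : (ξ : X) → Cyc.secFibre N ξ) (hw' : ∀ ξ, w' ξ ≠ 0)
    (n : ℤ) (hn : δ (genericPoint X) = n) :
    RatPres δ (n - 2) (fun x =>
      Cyc.c1CapFun δ N (Cyc.secDivFun δ L (genericPoint X) (secGen L σ))
        (Cyc.gysinChoice N τ w') x -
      Cyc.c1CapFun δ L (Cyc.secDivFun δ N (genericPoint X) (secGen N τ))
        (Cyc.gysinChoice L σ w) x)
      (vanish L σ ∩ vanish N τ) := by
  classical
  set s := secGen L σ with hsdef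
  set t := secGen N τ with htdef
  set α := Cyc.secDivFun δ L (genericPoint X) s with hαdef
  set β := Cyc.secDivFun δ N (genericPoint X) t with hβdef
  set v := Cyc.gysinChoice L σ w with hvdef
  set u := Cyc.gysinChoice N τ w' with hudef
  have hv : ∀ ξ, v ξ ≠ 0 := gysinChoice_ne_zero L σ w hw
  have hu : ∀ ξ, u ξ ≠ 0 := gysinChoice_ne_zero N τ w' hw'
  have hαLFS : LocallyFiniteSupport α := locallyFiniteSupport_secDivFun_generic δ hδ L hL s hσ
  have hβLFS : LocallyFiniteSupport β := locallyFiniteSupport_secDivFun_generic δ hδ N hN t hτ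
  choose ψ hψ0 hψv using fun ξ => exists_smul_eq L hL ξ (v ξ) (genSec L hL ξ) (hv ξ)
    (genSec_ne_zero L hL ξ)
  choose χ hχ0 hχu using fun ξ => exists_smul_eq N hN ξ (u ξ) (genSec N hN ξ) (hu ξ)
    (genSec_ne_zero N hN ξ)
  have hαeq : ∀ ξ, α ξ = if δ ξ + 1 = δ (genericPoint X) then
      Cyc.ordAt ξ (genericPoint X) (genericPoint_specializes ξ) (coefK L hL s ξ) else 0 :=
    fun ξ => secDivFun_generic L hL s δ ξ
  have hβeq : ∀ ξ, β ξ = if δ ξ + 1 = δ (genericPoint X) then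
      Cyc.ordAt ξ (genericPoint X) (genericPoint_specializes ξ) (coefK N hN t ξ) else 0 :=
    fun ξ => secDivFun_generic N hN t δ ξ
  set RL : (ξ : X) → X.residueField ξ := fun ξ => X.residue ξ (ψ ξ) ^ β ξ with hRLdef
  set RN : (ξ : X) → X.residueField ξ := fun ξ => X.residue ξ (χ ξ) ^ α ξ with hRNdef
  have hRL0 : ∀ ξ, RL ξ ≠ 0 := fun ξ => zpow_ne_zero _ (hψ0 ξ)
  have hRN0 : ∀ ξ, RN ξ ≠ 0 := fun ξ => zpow_ne_zero _ (hχ0 ξ)
  set T : (i : KIdx δ L N hL hN s t) → X.residueField i.1 := fun i =>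
    tameAt i.1 (coefK L hL s i.1) (coefK N hN t i.1) with hTdef
  have hT0 : ∀ i, T i ≠ 0 := fun i =>
    tameAt_ne_zero (dim_le_one_of_codim_one δ hδ i.2.1) (coefK_ne_zero L hL s hσ i.1)
      (coefK_ne_zero N hN t hτ i.1)
  have hlfK := locfin_KIdx δ hδ L N hL hN s hσ t hτ
  have hαp : ∀ ξ, α ξ ≠ 0 → δ ξ + 1 = δ (genericPoint X) ∧
      ¬ (UnitAt ξ (coefK L hL s ξ) ∧ UnitAt ξ (coefK N hN t ξ)) := by
    intro ξ hξ
    rw [hαeq] at hξ
    by_cases hc : δ ξ + 1 = δ (genericPoint X)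
    · rw [if_pos hc] at hξ
      exact ⟨hc, fun hu => hξ hu.1.ordAt_eq_zero⟩
    · rw [if_neg hc] at hξ
      exact absurd rfl hξ
  have hβp : ∀ ξ, β ξ ≠ 0 → δ ξ + 1 = δ (genericPoint X) ∧
      ¬ (UnitAt ξ (coefK L hL s ξ) ∧ UnitAt ξ (coefK N hN t ξ)) := by
    intro ξ hξ
    rw [hβeq] at hξ
    by_cases hc : δ ξ + 1 = δ (genericPoint X)
    · rw [if_pos hc] at hξ
      exact ⟨hc, fun hu => hξ hu.2.ordAt_eq_zero⟩
    · rw [if_neg hc] at hξ
      exact absurd rfl hξ
  -- sums of correction terms, over `KIdx`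
  have hcorr : ∀ (M : X.Modules) (γ : X → ℤ) (φ : (ξ : X) → X.presheaf.stalk ξ)
      (_ : ∀ ξ, γ ξ ≠ 0 → δ ξ + 1 = δ (genericPoint X) ∧
        ¬ (UnitAt ξ (coefK L hL s ξ) ∧ UnitAt ξ (coefK N hN t ξ))) (x : X),
      ∑ᶠ j : {ξ : X // γ ξ ≠ 0}, Cyc.divFun δ j.1 ((X.residue j.1 (φ j.1)) ^ (γ j.1)) x =
        ∑ᶠ i : KIdx δ L N hL hN s t,
          Cyc.divFun δ i.1 ((X.residue i.1 (φ i.1)) ^ (γ i.1)) x := by
    intro M γ φ hγp x
    have e1 : ∑ᶠ ξ : X, Cyc.divFun δ ξ ((X.residue ξ (φ ξ)) ^ (γ ξ)) x =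
        ∑ᶠ j : {ξ : X // γ ξ ≠ 0}, Cyc.divFun δ j.1 ((X.residue j.1 (φ j.1)) ^ (γ j.1)) x := by
      apply finsum_eq_finsum_subtype
        (fun ξ : X => Cyc.divFun δ ξ ((X.residue ξ (φ ξ)) ^ (γ ξ)) x) (fun ξ => γ ξ ≠ 0)
      intro ξ hξ h0
      apply hξ
      show Cyc.divFun δ ξ (X.residue ξ (φ ξ) ^ γ ξ) x = 0
      rw [h0, zpow_zero, divFun_one]
    have e2 : ∑ᶠ ξ : X, Cyc.divFun δ ξ ((X.residue ξ (φ ξ)) ^ (γ ξ)) x =
        ∑ᶠ i : KIdx δ L N hL hN s t,
          Cyc.divFun δ i.1 ((X.residue i.1 (φ i.1)) ^ (γ i.1)) x := by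
      apply finsum_eq_finsum_subtype
        (fun ξ : X => Cyc.divFun δ ξ ((X.residue ξ (φ ξ)) ^ (γ ξ)) x)
        (fun ξ => δ ξ + 1 = δ (genericPoint X) ∧
          ¬ (UnitAt ξ (coefK L hL s ξ) ∧ UnitAt ξ (coefK N hN t ξ)))
      intro ξ hξ
      apply hγp
      intro h0
      apply hξ
      show Cyc.divFun δ ξ (X.residue ξ (φ ξ) ^ γ ξ) x = 0
      rw [h0, zpow_zero, divFun_one]
    exact e1.symm.trans e2
  -- the formula
  have hformula : ∀ x, Cyc.c1CapFun δ N α u x - Cyc.c1CapFun δ L β v x =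
      ∑ᶠ i : KIdx δ L N hL hN s t, Cyc.divFun δ i.1 (T i * RN i.1 * (RL i.1)⁻¹) x := by
    intro x
    have h1 := key_formula_sum δ hδ L N hL hN s hσ t hτ x
    have h2 := c1CapFun_sub_eq_finsum L hL δ hδ β hβLFS v (genSec L hL) (genSec_ne_zero L hL)
      ψ hψ0 hψv x
    have h3 := c1CapFun_sub_eq_finsum N hN δ hδ α hαLFS u (genSec N hN) (genSec_ne_zero N hN)
      χ hχ0 hχu x
    rw [hcorr L β ψ hβp x] at h2
    rw [hcorr N α χ hαp x] at h3
    have hfinT := finite_support_divFun_family δ (fun i : KIdx δ L N hL hN s t => i.1) T hlfK x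
    have hfinRL := finite_support_divFun_family δ (fun i : KIdx δ L N hL hN s t => i.1)
      (fun i => RL i.1) hlfK x
    have hfinRN := finite_support_divFun_family δ (fun i : KIdx δ L N hL hN s t => i.1)
      (fun i => RN i.1) hlfK x
    have h4 : ∑ᶠ i : KIdx δ L N hL hN s t, Cyc.divFun δ i.1 (T i * RN i.1 * (RL i.1)⁻¹) x =
        ∑ᶠ i : KIdx δ L N hL hN s t, Cyc.divFun δ i.1 (T i) x +
        ∑ᶠ i : KIdx δ L N hL hN s t, Cyc.divFun δ i.1 (RN i.1) x -
        ∑ᶠ i : KIdx δ L N hL hN s t, Cyc.divFun δ i.1 (RL i.1) x := by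
      rw [← finsum_add_distrib hfinT hfinRN, ← finsum_sub_distrib
        ((hfinT.union hfinRN).subset (Function.support_add _ _)) hfinRL]
      apply finsum_congr
      intro i
      rw [divFun_mul δ hδ i.1 (mul_ne_zero (hT0 i) (hRN0 i.1)) (inv_ne_zero (hRL0 i.1)),
        divFun_mul δ hδ i.1 (hT0 i) (hRN0 i.1), divFun_inv]
      ring
    rw [h4, ← h1, ← h2, ← h3]
    ring
  -- off either zero set the functions are trivial
  have hone : ∀ i : KIdx δ L N hL hN s t, i.1 ∉ vanish L σ ∩ vanish N τ →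
      T i * RN i.1 * (RL i.1)⁻¹ = 1 := by
    intro i hi
    have hdim := dim_le_one_of_codim_one δ hδ i.2.1
    by_cases hiL : i.1 ∈ vanish L σ
    · -- then `i.1 ∉ vanish N τ`
      have hiN : i.1 ∉ vanish N τ := fun h => hi ⟨hiL, h⟩
      obtain ⟨c, hc⟩ := exists_unit_of_not_mem_vanish N hN τ i.1 hiN
      have hcoef : coefK N hN t i.1 = toK i.1 (c : X.presheaf.stalk i.1) :=
        coefK_secGen_of_unit N hN τ _ hc
      have hβ0 : β i.1 = 0 := by
        rw [hβeq, if_pos i.2.1, hcoef]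
        exact ordAt_toK_unit c
      have hTi : T i = (X.residue i.1 (c : X.presheaf.stalk i.1) ^ α i.1)⁻¹ := by
        show tameAt i.1 (coefK L hL s i.1) (coefK N hN t i.1) = _
        rw [hcoef, tameAt_unit_right hdim c (coefK_ne_zero L hL s hσ i.1), hαeq, if_pos i.2.1]
      have hui : u i.1 = (c : X.presheaf.stalk i.1) • genSec N hN i.1 := by
        show Cyc.gysinChoice N τ w' i.1 = _
        rw [gysinChoice_of_ne_zero N τ w' i.1 hiN, hc, Submodule.Quotient.mk_smul]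
        rfl
      have hres : X.residue i.1 (χ i.1) = X.residue i.1 (c : X.presheaf.stalk i.1) := by
        apply residue_eq_of_smul_mk_eq N (gen_free N hN i.1)
        have := hχu i.1
        rw [hui] at this
        exact this.symm
      show T i * (X.residue i.1 (χ i.1) ^ α i.1) * (X.residue i.1 (ψ i.1) ^ β i.1)⁻¹ = 1
      rw [hTi, hres, hβ0, zpow_zero, inv_one, mul_one]
      exact inv_mul_cancel₀ (zpow_ne_zero _ ((c.isUnit.map (X.residue i.1).hom).ne_zero))
    · obtain ⟨c, hc⟩ := exists_unit_of_not_mem_vanish L hL σ i.1 hiL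
      have hcoef : coefK L hL s i.1 = toK i.1 (c : X.presheaf.stalk i.1) :=
        coefK_secGen_of_unit L hL σ _ hc
      have hα0 : α i.1 = 0 := by
        rw [hαeq, if_pos i.2.1, hcoef]
        exact ordAt_toK_unit c
      have hTi : T i = X.residue i.1 (c : X.presheaf.stalk i.1) ^ β i.1 := by
        show tameAt i.1 (coefK L hL s i.1) (coefK N hN t i.1) = _
        rw [hcoef, tameAt_unit_left hdim c (coefK_ne_zero N hN t hτ i.1), hβeq, if_pos i.2.1]
      have hvi : v i.1 = (c : X.presheaf.stalk i.1) • genSec L hL i.1 := by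
        show Cyc.gysinChoice L σ w i.1 = _
        rw [gysinChoice_of_ne_zero L σ w i.1 hiL, hc, Submodule.Quotient.mk_smul]
        rfl
      have hres : X.residue i.1 (ψ i.1) = X.residue i.1 (c : X.presheaf.stalk i.1) := by
        apply residue_eq_of_smul_mk_eq L (gen_free L hL i.1)
        have := hψv i.1
        rw [hvi] at this
        exact this.symm
      show T i * (X.residue i.1 (χ i.1) ^ α i.1) * (X.residue i.1 (ψ i.1) ^ β i.1)⁻¹ = 1
      rw [hTi, hres, hα0, zpow_zero, mul_one]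
      exact mul_inv_cancel₀ (zpow_ne_zero _ ((c.isUnit.map (X.residue i.1).hom).ne_zero))
  -- the presentation
  refine ⟨{i : KIdx δ L N hL hN s t // i.1 ∈ vanish L σ ∩ vanish N τ}, fun j => j.1.1,
    fun j => T j.1 * RN j.1.1 * (RL j.1.1)⁻¹, ?_, ?_, fun j => j.2, ?_, ?_⟩
  · intro j
    have h1 : δ j.1.1 + 1 = δ (genericPoint X) := j.1.2.1
    show δ j.1.1 = n - 2 + 1
    linarith
  · intro j
    exact mul_ne_zero (mul_ne_zero (hT0 j.1) (hRN0 j.1.1)) (inv_ne_zero (hRL0 j.1.1))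
  · intro x
    obtain ⟨U, hU, hxU, hfin⟩ := hlfK x
    refine ⟨U, hU, hxU, (hfin.preimage (Subtype.val_injective.injOn)).subset ?_⟩
    intro j hj
    exact hj
  · intro x
    show _ - _ = _
    rw [hformula x]
    apply finsum_eq_finsum_subtype (fun i : KIdx δ L N hL hN s t =>
      Cyc.divFun δ i.1 (T i * RN i.1 * (RL i.1)⁻¹) x)
      (fun i => i.1 ∈ vanish L σ ∩ vanish N τ)
    intro i hi
    by_contra hni
    apply hi
    show Cyc.divFun δ i.1 (T i * RN i.1 * (RL i.1)⁻¹) x = 0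
    rw [hone i hni, divFun_one]

end Groth.Agent.Lib.Helper18.KeyGeo
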