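import Mathlib
import Groth.Prelude.Def_C1
import Groth.Prelude.Def_Pic
import Groth.Agent.Lib.Helper18.Cyc.GysinC1
import Groth.Agent.Lib.Helper18.Cyc.GysinKey2

/-!
# Two Gysin maps commute
-/

set_option autoImplicit false
set_option maxHeartbeats 1000000
set_option linter.style.haveILetI false
set_option linter.unusedSectionVars false
universe u
open AlgebraicGeometry CategoryTheory IsLocalRing

namespace Groth.Agent.Lib.Helper18.KeyGeo

open Groth.Agent.Lib.Helper18.CycDiv Groth.Agent.Lib.Helper18.C1Core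
  Groth.Agent.Lib.Helper18.InvStalk Groth.Agent.Lib.Helper18.Push
  Groth.Agent.Lib.Helper18.CycPull Groth.Agent.Lib.Helper18.ClSub
  Groth.Agent.Lib.Helper28.PullbackInv

section Single

variable {X Z : Scheme.{u}}

/-- the local statement on an integral closed subscheme contained in neither zero set -/
theorem ratPres_gysin_gysin_of_closedImmersion [IsIntegral Z] [IsLocallyNoetherian X]
    [IsLocallyNoetherian Z] (i : Z ⟶ X) [IsClosedImmersion i] (δ : X → ℤ)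
    (hδ : Cyc.IsDimFun X δ) (L N : X.Modules) (hL : PicF.IsInvertible L)
    (hN : PicF.IsInvertible N) (σ : L.presheaf.obj (Opposite.op ⊤))
    (τ : N.presheaf.obj (Opposite.op ⊤))
    (w : (ξ : X) → Cyc.secFibre L ξ) (hw : ∀ ξ, w ξ ≠ 0)
    (w' : (ξ : X) → Cyc.secFibre N ξ) (hw' : ∀ ξ, w' ξ ≠ 0)
    (hgenL : i (genericPoint Z) ∉ vanish L σ) (hgenN : i (genericPoint Z) ∉ vanish N τ)
    (k : ℤ) (hk : δ (i (genericPoint Z)) = k + 2) :
    RatPres δ k (fun x =>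
      Cyc.c1CapFun δ L (Cyc.secDivFun δ N (i (genericPoint Z))
        (Cyc.gysinChoice N τ w' (i (genericPoint Z)))) (Cyc.gysinChoice L σ w) x -
      Cyc.c1CapFun δ N (Cyc.secDivFun δ L (i (genericPoint Z))
        (Cyc.gysinChoice L σ w (i (genericPoint Z)))) (Cyc.gysinChoice N τ w') x)
      (Set.range i ∩ (vanish L σ ∩ vanish N τ)) := by
  classical
  set δZ : Z → ℤ := fun z => δ (i z) with hδZdef
  have hδZ : Cyc.IsDimFun Z δZ := isDimFun_comp_of_isClosedImmersion i δ hδ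
  have hLZ : PicF.IsInvertible ((Scheme.Modules.pullback i).obj L) := isInvertible_pullback i hL
  have hNZ : PicF.IsInvertible ((Scheme.Modules.pullback i).obj N) := isInvertible_pullback i hN
  have hvL : ∀ ξ, Cyc.gysinChoice L σ w ξ ≠ 0 := gysinChoice_ne_zero L σ w hw
  have hvN : ∀ ξ, Cyc.gysinChoice N τ w' ξ ≠ 0 := gysinChoice_ne_zero N τ w' hw'
  have hwZ : ∀ y : Z, pullSec i L y (w (i y)) ≠ 0 := fun y => pullSec_ne_zero i hL y _ (hw (i y))
  have hw'Z : ∀ y : Z, pullSec i N y (w' (i y)) ≠ 0 :=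
    fun y => pullSec_ne_zero i hN y _ (hw' (i y))
  have hσZ : secGen ((Scheme.Modules.pullback i).obj L) (ProjUP.pullSec i L σ) ≠ 0 := by
    intro h0
    exact hgenL ((mem_vanish_pullSec_iff i L hL σ (genericPoint Z)).1 h0)
  have hτZ : secGen ((Scheme.Modules.pullback i).obj N) (ProjUP.pullSec i N τ) ≠ 0 := by
    intro h0
    exact hgenN ((mem_vanish_pullSec_iff i N hN τ (genericPoint Z)).1 h0)
  have hkey := gysin_key2 δZ hδZ ((Scheme.Modules.pullback i).obj L)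
    ((Scheme.Modules.pullback i).obj N) hLZ hNZ (ProjUP.pullSec i L σ) (ProjUP.pullSec i N τ)
    hσZ hτZ (fun y => pullSec i L y (w (i y))) hwZ (fun y => pullSec i N y (w' (i y))) hw'Z
    (k + 2) hk
  have hk2 : k + 2 - 2 = k := by ring
  rw [hk2] at hkey
  have hchoiceL : Cyc.gysinChoice ((Scheme.Modules.pullback i).obj L) (ProjUP.pullSec i L σ)
      (fun y => pullSec i L y (w (i y))) =
      fun y => pullSec i L y (Cyc.gysinChoice L σ w (i y)) := by
    funext y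
    exact gysinChoice_pullSec i hL σ w y
  have hchoiceN : Cyc.gysinChoice ((Scheme.Modules.pullback i).obj N) (ProjUP.pullSec i N τ)
      (fun y => pullSec i N y (w' (i y))) =
      fun y => pullSec i N y (Cyc.gysinChoice N τ w' (i y)) := by
    funext y
    exact gysinChoice_pullSec i hN τ w' y
  have hsecL : secGen ((Scheme.Modules.pullback i).obj L) (ProjUP.pullSec i L σ) =
      pullSec i L (genericPoint Z) (Cyc.gysinChoice L σ w (i (genericPoint Z))) := by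
    rw [gysinChoice_of_ne_zero L σ w _ hgenL, pullSec_mk i hL, ← germ_pullSec]
    rfl
  have hsecN : secGen ((Scheme.Modules.pullback i).obj N) (ProjUP.pullSec i N τ) =
      pullSec i N (genericPoint Z) (Cyc.gysinChoice N τ w' (i (genericPoint Z))) := by
    rw [gysinChoice_of_ne_zero N τ w' _ hgenN, pullSec_mk i hN, ← germ_pullSec]
    rfl
  rw [hchoiceL, hchoiceN, hsecL, hsecN] at hkey
  obtain ⟨hc1, hc2⟩ := c1CapFun_closedImmersion i δ hδ L hL
    (Cyc.secDivFun δZ ((Scheme.Modules.pullback i).obj N) (genericPoint Z)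
      (pullSec i N (genericPoint Z) (Cyc.gysinChoice N τ w' (i (genericPoint Z)))))
    (Cyc.secDivFun δ N (i (genericPoint Z)) (Cyc.gysinChoice N τ w' (i (genericPoint Z))))
    (fun z => secDivFun_closedImmersion i δ hδ N hN (genericPoint Z) z _ (hvN _))
    (fun x hx => secDivFun_eq_zero_of_not_mem_range i δ N _ _ x hx)
    (Cyc.gysinChoice L σ w) hvL
  obtain ⟨hd1, hd2⟩ := c1CapFun_closedImmersion i δ hδ N hN
    (Cyc.secDivFun δZ ((Scheme.Modules.pullback i).obj L) (genericPoint Z)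
      (pullSec i L (genericPoint Z) (Cyc.gysinChoice L σ w (i (genericPoint Z)))))
    (Cyc.secDivFun δ L (i (genericPoint Z)) (Cyc.gysinChoice L σ w (i (genericPoint Z))))
    (fun z => secDivFun_closedImmersion i δ hδ L hL (genericPoint Z) z _ (hvL _))
    (fun x hx => secDivFun_eq_zero_of_not_mem_range i δ L _ _ x hx)
    (Cyc.gysinChoice N τ w') hvN
  refine (ratPres_push_closedImmersion' i δ k _ _ hkey.neg _ (fun z => ?_)
    (fun x hx => ?_)).mono ?_
  · show _ - _ = -(_ - _)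
    rw [hc1 z, hd1 z]
    ring
  · show _ - _ = (0 : ℤ)
    rw [hc2 x hx, hd2 x hx, sub_zero]
  · rintro x ⟨z, hz, rfl⟩
    exact ⟨⟨z, rfl⟩, (mem_vanish_pullSec_iff i L hL σ z).1 hz.1,
      (mem_vanish_pullSec_iff i N hN τ z).1 hz.2⟩

/-- the local statement at an arbitrary point -/
theorem ratPres_gysin_gysin_single [IsLocallyNoetherian X] (δ : X → ℤ)
    (hδ : Cyc.IsDimFun X δ) (L N : X.Modules) (hL : PicF.IsInvertible L)
    (hN : PicF.IsInvertible N) (σ : L.presheaf.obj (Opposite.op ⊤))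
    (τ : N.presheaf.obj (Opposite.op ⊤))
    (hclL : IsClosed (vanish L σ)) (hclN : IsClosed (vanish N τ))
    (w : (ξ : X) → Cyc.secFibre L ξ) (hw : ∀ ξ, w ξ ≠ 0)
    (w' : (ξ : X) → Cyc.secFibre N ξ) (hw' : ∀ ξ, w' ξ ≠ 0) (k : ℤ) (ξ : X)
    (hk : δ ξ = k + 2) :
    RatPres δ k (fun x =>
      Cyc.c1CapFun δ L (Cyc.secDivFun δ N ξ (Cyc.gysinChoice N τ w' ξ))
        (Cyc.gysinChoice L σ w) x -
      Cyc.c1CapFun δ N (Cyc.secDivFun δ L ξ (Cyc.gysinChoice L σ w ξ))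
        (Cyc.gysinChoice N τ w') x)
      (closure {ξ} ∩ (vanish L σ ∩ vanish N τ)) := by
  have hvL : ∀ ξ, Cyc.gysinChoice L σ w ξ ≠ 0 := gysinChoice_ne_zero L σ w hw
  have hvN : ∀ ξ, Cyc.gysinChoice N τ w' ξ ≠ 0 := gysinChoice_ne_zero N τ w' hw'
  by_cases hξN : ξ ∈ vanish N τ
  · have hsub : closure ({ξ} : Set X) ⊆ vanish N τ :=
      hclN.closure_subset_iff.2 (Set.singleton_subset_iff.2 hξN)
    refine (ratPres_gysin_c1_single δ hδ L N hL hN σ hclL w hw _ hvN k ξ _ (hvN ξ) hk).mono ?_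
    rintro x ⟨hx1, hx2⟩
    exact ⟨hx1, hx2, hsub hx1⟩
  by_cases hξL : ξ ∈ vanish L σ
  · have hsub : closure ({ξ} : Set X) ⊆ vanish L σ :=
      hclL.closure_subset_iff.2 (Set.singleton_subset_iff.2 hξL)
    refine ((ratPres_gysin_c1_single δ hδ N L hN hL τ hclN w' hw' _ hvL k ξ _ (hvL ξ)
      hk).neg.mono ?_).congr fun x => ?_
    · rintro x ⟨hx1, hx2⟩
      exact ⟨hx1, hsub hx1, hx2⟩
    · ring
  · have hp := clι_genericPoint ξ
    have hall : RatPres δ k (fun x =>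
        Cyc.c1CapFun δ L (Cyc.secDivFun δ N (clι ξ (genericPoint (cl ξ)))
          (Cyc.gysinChoice N τ w' (clι ξ (genericPoint (cl ξ))))) (Cyc.gysinChoice L σ w) x -
        Cyc.c1CapFun δ N (Cyc.secDivFun δ L (clι ξ (genericPoint (cl ξ)))
          (Cyc.gysinChoice L σ w (clι ξ (genericPoint (cl ξ))))) (Cyc.gysinChoice N τ w') x)
        (Set.range (clι ξ) ∩ (vanish L σ ∩ vanish N τ)) :=
      ratPres_gysin_gysin_of_closedImmersion (clι ξ) δ hδ L N hL hN σ τ w hw w' hw'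
        (by rw [hp]; exact hξL) (by rw [hp]; exact hξN) k (by rw [hp]; exact hk)
    revert hall
    generalize clι ξ (genericPoint (cl ξ)) = p at hp
    intro hall
    subst hp
    rw [← range_clι]
    exact hall

end Single

section Main

variable {X : Scheme.{u}}

/-- `c_1(L) ∩ (c_1(N) ∩ α) - c_1(N) ∩ (c_1(L) ∩ α)`, all sections being Gysin choices, is a sum
of principal divisors on subvarieties of the intersection of the zero sets. -/
theorem ratPres_gysin_gysin [IsLocallyNoetherian X] (δ : X → ℤ) (hδ : Cyc.IsDimFun X δ)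
    (L N : X.Modules) (hL : PicF.IsInvertible L) (hN : PicF.IsInvertible N)
    (σ : L.presheaf.obj (Opposite.op ⊤)) (τ : N.presheaf.obj (Opposite.op ⊤))
    (hclL : IsClosed (vanish L σ)) (hclN : IsClosed (vanish N τ)) (k : ℤ)
    (α : AlgebraicCycle X ℤ) (hα : α ∈ Cyc.Zk X δ k)
    (w : (ξ : X) → Cyc.secFibre L ξ) (hw : ∀ ξ, w ξ ≠ 0)
    (w' : (ξ : X) → Cyc.secFibre N ξ) (hw' : ∀ ξ, w' ξ ≠ 0) :
    RatPres δ (k - 2) (fun x =>
      Cyc.c1CapFun δ L (Cyc.c1CapFun δ N ⇑α (Cyc.gysinChoice N τ w')) (Cyc.gysinChoice L σ w) x -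
      Cyc.c1CapFun δ N (Cyc.c1CapFun δ L ⇑α (Cyc.gysinChoice L σ w)) (Cyc.gysinChoice N τ w') x)
      (vanish L σ ∩ vanish N τ) := by
  classical
  have hvL : ∀ ξ, Cyc.gysinChoice L σ w ξ ≠ 0 := gysinChoice_ne_zero L σ w hw
  have hvN : ∀ ξ, Cyc.gysinChoice N τ w' ξ ≠ 0 := gysinChoice_ne_zero N τ w' hw'
  have hαLFS : LocallyFiniteSupport ⇑α := fun x =>
    α.supportLocallyFiniteWithinDomain x (Set.mem_univ _)
  set S : X → Set X := fun ξ =>
    if α ξ ≠ 0 then closure {ξ} ∩ (vanish L σ ∩ vanish N τ) else ∅ with hSdef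
  set F : X → X → ℤ := fun ξ x =>
    α ξ * (Cyc.c1CapFun δ L (Cyc.secDivFun δ N ξ (Cyc.gysinChoice N τ w' ξ))
        (Cyc.gysinChoice L σ w) x -
      Cyc.c1CapFun δ N (Cyc.secDivFun δ L ξ (Cyc.gysinChoice L σ w ξ))
        (Cyc.gysinChoice N τ w') x) with hFdef
  have hSclosed : ∀ ξ, IsClosed (S ξ) := by
    intro ξ
    show IsClosed (if α ξ ≠ 0 then closure {ξ} ∩ (vanish L σ ∩ vanish N τ) else ∅)
    split_ifs
    · exact isClosed_closure.inter (hclL.inter hclN)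
    · exact isClosed_empty
  have hSlf : ∀ x : X, ∃ U : Set X, IsOpen U ∧ x ∈ U ∧ {ξ | (S ξ ∩ U).Nonempty}.Finite := by
    intro x
    obtain ⟨t, ht, htfin⟩ := hαLFS x
    obtain ⟨V, hVt, hVo, hxV⟩ := mem_nhds_iff.1 ht
    refine ⟨V, hVo, hxV, htfin.subset ?_⟩
    rintro ξ ⟨y, hy1, hy2⟩
    have hαξ : α ξ ≠ 0 := by
      by_contra h0
      have : S ξ = ∅ := if_neg (not_not.2 h0)
      rw [this] at hy1
      exact hy1
    have hS : S ξ = closure {ξ} ∩ (vanish L σ ∩ vanish N τ) := if_pos hαξ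
    rw [hS] at hy1
    have hsp : ξ ⤳ y := specializes_iff_mem_closure.2 hy1.1
    exact ⟨hVt (hsp.mem_open hVo hy2), hαξ⟩
  have hpres : ∀ ξ, RatPres δ (k - 2) (F ξ) (S ξ) := by
    intro ξ
    by_cases hαξ : α ξ = 0
    · have hF0 : F ξ = fun _ => 0 := by
        funext x
        show α ξ * _ = 0
        rw [hαξ, zero_mul]
      rw [hF0]
      exact ratPres_zero δ (k - 2) _
    · have hS : S ξ = closure {ξ} ∩ (vanish L σ ∩ vanish N τ) := if_pos hαξ
      rw [hS]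
      have hk : δ ξ = k - 2 + 2 := by
        by_contra hne
        exact hαξ (hα ξ (fun h => hne (by rw [h]; ring)))
      exact RatPres.zsmul (ratPres_gysin_gysin_single δ hδ L N hL hN σ τ hclL hclN w hw w' hw'
        (k - 2) ξ hk) (α ξ)
  have hsum := ratPres_finsum (δ := δ) (k := k - 2) S hSclosed hSlf F hpres
  refine (hsum.congr fun x => ?_).mono ?_
  · show ∑ᶠ ξ, F ξ x = _
    obtain ⟨hf1, he1⟩ := c1CapFun_c1CapFun_expand δ hδ L N hN ⇑α hαLFS
      (Cyc.gysinChoice N τ w') hvN (Cyc.gysinChoice L σ w) x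
    obtain ⟨hf2, he2⟩ := c1CapFun_c1CapFun_expand δ hδ N L hL ⇑α hαLFS
      (Cyc.gysinChoice L σ w) hvL (Cyc.gysinChoice N τ w') x
    rw [he1, he2, ← finsum_sub_distrib hf1 hf2]
    apply finsum_congr
    intro ξ
    show α ξ * (_ - _) = _
    rw [mul_sub]
  · intro x hx
    obtain ⟨ξ, hξ⟩ := Set.mem_iUnion.1 hx
    by_cases hαξ : α ξ ≠ 0
    · have hS : S ξ = closure {ξ} ∩ (vanish L σ ∩ vanish N τ) := if_pos hαξ
      rw [hS] at hξ
      exact hξ.2
    · have hS : S ξ = ∅ := if_neg hαξ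
      rw [hS] at hξ
      exact hξ.elim

/-- basic properties of the Gysin coefficient function -/
theorem gysin_fun_props {D : Scheme.{u}} [IsLocallyNoetherian X] (δ : X → ℤ)
    (hδ : Cyc.IsDimFun X δ) (L : X.Modules) (hL : PicF.IsInvertible L)
    (σ : L.presheaf.obj (Opposite.op ⊤)) (i : D ⟶ X) [IsClosedImmersion i]
    (hD : Cyc.IsZeroSchemeOf i L σ) (k : ℤ)
    (α : AlgebraicCycle X ℤ) (hα : α ∈ Cyc.Zk X δ k)
    (w : (ξ : X) → Cyc.secFibre L ξ) (hw : ∀ ξ, w ξ ≠ 0) :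
    LocallyFiniteSupport (fun d => Cyc.c1CapFun δ L ⇑α (Cyc.gysinChoice L σ w) (i d)) ∧
    (∀ d, Cyc.c1CapFun δ L ⇑α (Cyc.gysinChoice L σ w) (i d) ≠ 0 → δ (i d) = k - 1) ∧
    (∀ x, x ∉ Set.range i → Cyc.c1CapFun δ L ⇑α (Cyc.gysinChoice L σ w) x = 0) := by
  classical
  have hrange : Set.range i = vanish L σ := hD.1
  have hclosed : IsClosed (vanish L σ) := hrange ▸ i.isClosedEmbedding.isClosed_range
  have hvL : ∀ ξ, Cyc.gysinChoice L σ w ξ ≠ 0 := gysinChoice_ne_zero L σ w hw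
  have hαLFS : LocallyFiniteSupport ⇑α := fun x =>
    α.supportLocallyFiniteWithinDomain x (Set.mem_univ _)
  have hγXLFS : LocallyFiniteSupport (Cyc.c1CapFun δ L ⇑α (Cyc.gysinChoice L σ w)) :=
    locallyFiniteSupport_c1CapFun L hL δ hδ _ hαLFS _ hvL
  refine ⟨locallyFiniteSupport_comp_of_injective i i.isClosedEmbedding.injective _ hγXLFS,
    fun d hd => ?_, fun x hx => ?_⟩
  · by_contra hne
    apply hd
    show ∑ᶠ ξ : X, α ξ * Cyc.secDivFun δ L ξ (Cyc.gysinChoice L σ w ξ) (i d) = 0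
    apply finsum_eq_zero_of_forall_eq_zero
    intro ξ
    by_cases hαξ : α ξ = 0
    · rw [hαξ, zero_mul]
    · have hkξ : δ ξ = k := by
        by_contra hne'
        exact hαξ (hα ξ hne')
      have : Cyc.secDivFun δ L ξ (Cyc.gysinChoice L σ w ξ) (i d) = 0 := by
        unfold Cyc.secDivFun
        rw [dif_neg]
        rintro ⟨-, h2⟩
        apply hne
        rw [hkξ] at h2
        linarith
      rw [this, mul_zero]
  · rw [hrange] at hx
    exact c1CapFun_gysinChoice_eq_zero_of_not_mem δ hδ L hL σ hclosed w ⇑α x hx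

/-- **Two Gysin maps commute** (library form, for an arbitrary fibre product). -/
theorem gysin_gysin_comm_sq {D D' P : Scheme.{u}} [IsLocallyNoetherian X] (δ : X → ℤ)
    (hδ : Cyc.IsDimFun X δ) (L L' : X.Modules) (hL : PicF.IsInvertible L)
    (hL' : PicF.IsInvertible L') (s : L.presheaf.obj (Opposite.op ⊤))
    (s' : L'.presheaf.obj (Opposite.op ⊤)) (i : D ⟶ X) (i' : D' ⟶ X) [IsClosedImmersion i]
    [IsClosedImmersion i'] (j : P ⟶ D) (j' : P ⟶ D') [IsClosedImmersion j]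
    [IsClosedImmersion j'] (sq : IsPullback j j' i i')
    (hD : Cyc.IsZeroSchemeOf i L s) (hD' : Cyc.IsZeroSchemeOf i' L' s')
    (σ' : ((Scheme.Modules.pullback i).obj L').presheaf.obj (Opposite.op ⊤))
    (hσ' : Cyc.IsZeroSchemeOf j ((Scheme.Modules.pullback i).obj L') σ')
    (σ : ((Scheme.Modules.pullback i').obj L).presheaf.obj (Opposite.op ⊤))
    (hσ : Cyc.IsZeroSchemeOf j' ((Scheme.Modules.pullback i').obj L) σ)
    (k : ℤ) (α : AlgebraicCycle X ℤ) (hα : α ∈ Cyc.Zk X δ k)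
    (w : (ξ : X) → Cyc.secFibre L ξ) (hw : ∀ ξ, w ξ ≠ 0)
    (w' : (ξ : X) → Cyc.secFibre L' ξ) (hw' : ∀ ξ, w' ξ ≠ 0)
    (w₁ : (d : D) → Cyc.secFibre ((Scheme.Modules.pullback i).obj L') d) (hw₁ : ∀ d, w₁ d ≠ 0)
    (w₂ : (d : D') → Cyc.secFibre ((Scheme.Modules.pullback i').obj L) d) (hw₂ : ∀ d, w₂ d ≠ 0)
    (γ : D → ℤ) (hγ : γ = fun d => Cyc.c1CapFun δ L ⇑α (Cyc.gysinChoice L s w) (i d))
    (γ' : D' → ℤ) (hγ' : γ' = fun d => Cyc.c1CapFun δ L' ⇑α (Cyc.gysinChoice L' s' w') (i' d))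
    (ζ₁ ζ₂ : AlgebraicCycle P ℤ)
    (h₁ : ∀ z, ζ₁ z = Cyc.c1CapFun (fun d => δ (i d)) ((Scheme.Modules.pullback i).obj L') γ
      (Cyc.gysinChoice ((Scheme.Modules.pullback i).obj L') σ' w₁) (j z))
    (h₂ : ∀ z, ζ₂ z = Cyc.c1CapFun (fun d => δ (i' d)) ((Scheme.Modules.pullback i').obj L) γ'
      (Cyc.gysinChoice ((Scheme.Modules.pullback i').obj L) σ w₂) (j' z)) :
    Cyc.RatEquiv (fun z => δ (i (j z))) (k - 2) ζ₁ ζ₂ := by
  classical
  haveI : IsLocallyNoetherian D := LocallyOfFiniteType.isLocallyNoetherian i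
  haveI : IsLocallyNoetherian D' := LocallyOfFiniteType.isLocallyNoetherian i'
  have hcond : ∀ z : ↥P, i' (j' z) = i (j z) :=
    fun z => sq_apply sq z
  have hrL : Set.range i = vanish L s := hD.1
  have hrL' : Set.range i' = vanish L' s' := hD'.1
  have hclL : IsClosed (vanish L s) := hrL ▸ i.isClosedEmbedding.isClosed_range
  have hclL' : IsClosed (vanish L' s') := hrL' ▸ i'.isClosedEmbedding.isClosed_range
  have hvL : ∀ ξ, Cyc.gysinChoice L s w ξ ≠ 0 := gysinChoice_ne_zero L s w hw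
  have hvL' : ∀ ξ, Cyc.gysinChoice L' s' w' ξ ≠ 0 := gysinChoice_ne_zero L' s' w' hw'
  have hδD : Cyc.IsDimFun D (fun d => δ (i d)) := isDimFun_comp_of_isClosedImmersion i δ hδ
  have hδD' : Cyc.IsDimFun D' (fun d => δ (i' d)) := isDimFun_comp_of_isClosedImmersion i' δ hδ
  obtain ⟨hγLFS, hγk, hγ0⟩ := gysin_fun_props δ hδ L hL s i hD k α hα w hw
  obtain ⟨hγ'LFS, hγ'k, hγ'0⟩ := gysin_fun_props δ hδ L' hL' s' i' hD' k α hα w' hw'
  -- the cycles on `D` and `D'`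
  let γc : AlgebraicCycle D ℤ :=
    { toFun := γ
      supportWithinDomain' := Set.subset_univ _
      supportLocallyFiniteWithinDomain' := fun y _ => by
        rw [hγ]
        exact hγLFS y }
  let γc' : AlgebraicCycle D' ℤ :=
    { toFun := γ'
      supportWithinDomain' := Set.subset_univ _
      supportLocallyFiniteWithinDomain' := fun y _ => by
        rw [hγ']
        exact hγ'LFS y }
  have hγc : γc ∈ Cyc.Zk D (fun d => δ (i d)) (k - 2 + 1) := by
    intro d hd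
    show γ d = 0
    by_contra hne
    apply hd
    rw [hγ] at hne
    show δ (i d) = k - 2 + 1
    rw [hγk d hne]
    ring
  have hγc' : γc' ∈ Cyc.Zk D' (fun d => δ (i' d)) (k - 2 + 1) := by
    intro d hd
    show γ' d = 0
    by_contra hne
    apply hd
    rw [hγ'] at hne
    show δ (i' d) = k - 2 + 1
    rw [hγ'k d hne]
    ring
  -- the two correction terms
  obtain ⟨E₁, hE₁, hE₁f⟩ := exists_gysin_diff_sq sq (fun d => δ (i d)) hδD L' hL' s' hD' σ' hσ'
    (k - 2) γc hγc w' hw' w₁ hw₁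
  obtain ⟨E₂, hE₂, hE₂f⟩ := exists_gysin_diff_sq sq.flip (fun d => δ (i' d)) hδD' L hL s hD σ hσ
    (k - 2) γc' hγc' w hw w₂ hw₂
  have hfun : (fun z : ↥P => δ (i' (j' z))) =
      fun z => δ (i (j z)) := by
    funext z
    rw [hcond z]
  have hE₂' : Cyc.RatEquivZero (fun z => δ (i (j z))) (k - 2) E₂ := by
    rw [← hfun]
    exact hE₂
  -- the main term
  have hmain := ratPres_gysin_gysin δ hδ L L' hL hL' s s' hclL hclL' k α hα w hw w' hw'
  have hrange : vanish L s ∩ vanish L' s' ⊆ Set.range (j ≫ i) := by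
    rintro x ⟨hx1, hx2⟩
    rw [← hrL] at hx1
    rw [← hrL'] at hx2
    obtain ⟨d, hd⟩ := hx1
    obtain ⟨d', hd'⟩ := hx2
    obtain ⟨z, hz1, hz2⟩ := Scheme.exists_preimage_of_isPullback sq d d' (hd.trans hd'.symm)
    exact ⟨z, by rw [Scheme.Hom.comp_apply, hz1, hd]⟩
  have hpull := ratPres_pull_closedImmersion (j ≫ i) δ (k - 2) _ _ hrange hmain
  -- comparison of the capped functions
  obtain ⟨hc1, -⟩ := c1CapFun_closedImmersion i δ hδ L' hL' γ
    (Cyc.c1CapFun δ L ⇑α (Cyc.gysinChoice L s w)) (fun d => by rw [hγ]) hγ0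
    (Cyc.gysinChoice L' s' w') hvL'
  obtain ⟨hc2, -⟩ := c1CapFun_closedImmersion i' δ hδ L hL γ'
    (Cyc.c1CapFun δ L' ⇑α (Cyc.gysinChoice L' s' w')) (fun d => by rw [hγ']) hγ'0
    (Cyc.gysinChoice L s w) hvL
  have hall := (hpull.neg.sub (ratPres_of_ratEquivZero E₁ hE₁)).add
    (ratPres_of_ratEquivZero E₂ hE₂')
  refine RatPres.ratEquivZero (ζ₁ - ζ₂) ((hall.mono (Set.subset_univ _)).congr fun z => ?_)
  show (-(_ - _) - E₁ z) + E₂ z = ζ₁ z - ζ₂ z
  rw [hE₁f z, hE₂f z, h₁ z, h₂ z]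
  have e1 := hc1 (j z)
  have e2 := hc2 (j' z)
  rw [hcond z] at e2
  have e3 : (⇑γc : ↥D → ℤ) = γ := rfl
  have e4 : (⇑γc' : ↥D' → ℤ) = γ' := rfl
  rw [Scheme.Hom.comp_apply, e1, e2, e3, e4]
  show -(_ - _) - (_ - _) + (_ - _) = _
  ring

open Limits in
/-- **Two Gysin maps commute** (library form). -/
theorem gysin_gysin_comm {D D' : Scheme.{u}} [IsLocallyNoetherian X] (δ : X → ℤ)
    (hδ : Cyc.IsDimFun X δ) (L L' : X.Modules) (hL : PicF.IsInvertible L)
    (hL' : PicF.IsInvertible L') (s : L.presheaf.obj (Opposite.op ⊤))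
    (s' : L'.presheaf.obj (Opposite.op ⊤)) (i : D ⟶ X) (i' : D' ⟶ X) [IsClosedImmersion i]
    [IsClosedImmersion i'] (hD : Cyc.IsZeroSchemeOf i L s) (hD' : Cyc.IsZeroSchemeOf i' L' s')
    (σ' : ((Scheme.Modules.pullback i).obj L').presheaf.obj (Opposite.op ⊤))
    (hσ' : Cyc.IsZeroSchemeOf (pullback.fst i i') ((Scheme.Modules.pullback i).obj L') σ')
    (σ : ((Scheme.Modules.pullback i').obj L).presheaf.obj (Opposite.op ⊤))
    (hσ : Cyc.IsZeroSchemeOf (pullback.snd i i') ((Scheme.Modules.pullback i').obj L) σ)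
    (k : ℤ) (α : AlgebraicCycle X ℤ) (hα : α ∈ Cyc.Zk X δ k)
    (w : (ξ : X) → Cyc.secFibre L ξ) (hw : ∀ ξ, w ξ ≠ 0)
    (w' : (ξ : X) → Cyc.secFibre L' ξ) (hw' : ∀ ξ, w' ξ ≠ 0)
    (w₁ : (d : D) → Cyc.secFibre ((Scheme.Modules.pullback i).obj L') d) (hw₁ : ∀ d, w₁ d ≠ 0)
    (w₂ : (d : D') → Cyc.secFibre ((Scheme.Modules.pullback i').obj L) d) (hw₂ : ∀ d, w₂ d ≠ 0)
    (γ : D → ℤ) (hγ : γ = fun d => Cyc.c1CapFun δ L ⇑α (Cyc.gysinChoice L s w) (i d))
    (γ' : D' → ℤ) (hγ' : γ' = fun d => Cyc.c1CapFun δ L' ⇑α (Cyc.gysinChoice L' s' w') (i' d))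
    (ζ₁ ζ₂ : AlgebraicCycle (pullback i i') ℤ)
    (h₁ : ∀ z, ζ₁ z = Cyc.c1CapFun (fun d => δ (i d)) ((Scheme.Modules.pullback i).obj L') γ
      (Cyc.gysinChoice ((Scheme.Modules.pullback i).obj L') σ' w₁) (pullback.fst i i' z))
    (h₂ : ∀ z, ζ₂ z = Cyc.c1CapFun (fun d => δ (i' d)) ((Scheme.Modules.pullback i').obj L) γ'
      (Cyc.gysinChoice ((Scheme.Modules.pullback i').obj L) σ w₂) (pullback.snd i i' z)) :
    Cyc.RatEquiv (fun z => δ (i (pullback.fst i i' z))) (k - 2) ζ₁ ζ₂ :=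
  gysin_gysin_comm_sq δ hδ L L' hL hL' s s' i i' (pullback.fst i i') (pullback.snd i i')
    (IsPullback.of_hasPullback i i') hD hD' σ' hσ' σ hσ k α hα w hw w' hw' w₁ hw₁ w₂ hw₂
    γ hγ γ' hγ' ζ₁ ζ₂ h₁ h₂

end Main

end Groth.Agent.Lib.Helper18.KeyGeo
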