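import Mathlib
import Groth.Prelude.Def_C1
import Groth.Prelude.Def_Pic
import Groth.Agent.Lib.Helper18.Cyc.PullGerm
import Groth.Agent.Lib.Helper28.TensorPowGen

/-!
# Rational sections of a tensor product of invertible modules
-/

set_option autoImplicit false
set_option linter.style.haveILetI false
open CategoryTheory AlgebraicGeometry IsLocalRing

namespace Groth.Agent.Lib.Helper18.C1Core

universe u

open Groth.Agent.Lib.Helper18.InvStalk Groth.Agent.Lib.Helper18.CycDiv
open Groth.Agent.Lib.Helper28 Groth.Agent.Lib.Helper28.QCohLoc Groth.Agent.Lib.Helper28.GenLocus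
open Groth.Agent.Lib.Helper28.TensorGen Groth.Agent.Lib.Helper28.InvTensor

variable {X : Scheme.{u}} (L N : X.Modules)

/-- two elements of stalks of two modules can be represented on a common open -/
theorem exists_germ_pair₂ (x : X) (l : L.presheaf.stalk x) (n : N.presheaf.stalk x) :
    ∃ (W : X.Opens) (hx : x ∈ W) (a : Γ(L, W)) (b : Γ(N, W)),
      L.presheaf.germ W x hx a = l ∧ N.presheaf.germ W x hx b = n := by
  obtain ⟨U₁, hx₁, a, rfl⟩ := TopCat.Presheaf.exists_germ_eq L.presheaf l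
  obtain ⟨U₂, hx₂, b, rfl⟩ := TopCat.Presheaf.exists_germ_eq N.presheaf n
  refine ⟨U₁ ⊓ U₂, ⟨hx₁, hx₂⟩, res L inf_le_left a, res N inf_le_right b, ?_, ?_⟩
  · exact TopCat.Presheaf.germ_res_apply L.presheaf (homOfLE inf_le_left) x _ a
  · exact TopCat.Presheaf.germ_res_apply N.presheaf (homOfLE inf_le_right) x _ b

/-- the tensor product of germs -/
noncomputable def tm (x : X) (l : L.presheaf.stalk x) (n : N.presheaf.stalk x) :
    (CohB1.tensorMod L N).presheaf.stalk x :=
  let h := exists_germ_pair₂ L N x l n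
  (CohB1.tensorMod L N).presheaf.germ h.choose x h.choose_spec.choose
    (tmulSec L N h.choose_spec.choose_spec.choose h.choose_spec.choose_spec.choose_spec.choose)

theorem tm_germ (x : X) (W : X.Opens) (hx : x ∈ W) (a : Γ(L, W)) (b : Γ(N, W)) :
    tm L N x (L.presheaf.germ W x hx a) (N.presheaf.germ W x hx b) =
      (CohB1.tensorMod L N).presheaf.germ W x hx (tmulSec L N a b) := by
  have h := exists_germ_pair₂ L N x (L.presheaf.germ W x hx a) (N.presheaf.germ W x hx b)
  set W₀ := h.choose with hW₀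
  have hx₀ : x ∈ W₀ := h.choose_spec.choose
  set a₀ : Γ(L, W₀) := h.choose_spec.choose_spec.choose with ha₀
  set b₀ : Γ(N, W₀) := h.choose_spec.choose_spec.choose_spec.choose with hb₀
  have ha : L.presheaf.germ W₀ x hx₀ a₀ = L.presheaf.germ W x hx a :=
    h.choose_spec.choose_spec.choose_spec.choose_spec.1
  have hb : N.presheaf.germ W₀ x hx₀ b₀ = N.presheaf.germ W x hx b :=
    h.choose_spec.choose_spec.choose_spec.choose_spec.2
  show (CohB1.tensorMod L N).presheaf.germ W₀ x hx₀ (tmulSec L N a₀ b₀) = _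
  obtain ⟨W₁, hx₁, i₁, j₁, hres₁⟩ := TopCat.Presheaf.germ_eq L.presheaf x hx₀ hx _ _ ha
  obtain ⟨W₂, hx₂, i₂, j₂, hres₂⟩ := TopCat.Presheaf.germ_eq N.presheaf x hx₀ hx _ _ hb
  have hx₃ : x ∈ W₁ ⊓ W₂ := ⟨hx₁, hx₂⟩
  have hle₀ : W₁ ⊓ W₂ ≤ W₀ := inf_le_left.trans i₁.le
  have hle : W₁ ⊓ W₂ ≤ W := inf_le_left.trans j₁.le
  have e1 := TopCat.Presheaf.germ_res_apply (CohB1.tensorMod L N).presheaf (homOfLE hle₀) x hx₃
    (tmulSec L N a₀ b₀)
  have e2 := TopCat.Presheaf.germ_res_apply (CohB1.tensorMod L N).presheaf (homOfLE hle) x hx₃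
    (tmulSec L N a b)
  rw [← e1, ← e2]
  congr 1
  have r1 : res L hle₀ a₀ = res L hle a := by
    have h1 : res L i₁.le a₀ = res L j₁.le a := hres₁
    have := congrArg (res L (inf_le_left : W₁ ⊓ W₂ ≤ W₁)) h1
    rwa [res_res, res_res] at this
  have r2 : res N hle₀ b₀ = res N hle b := by
    have h1 : res N i₂.le b₀ = res N j₂.le b := hres₂
    have := congrArg (res N (inf_le_right : W₁ ⊓ W₂ ≤ W₂)) h1
    rwa [res_res, res_res] at this
  have t1 := tmulSec_res L N hle₀ a₀ b₀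
  have t2 := tmulSec_res L N hle a b
  rw [r1, r2] at t1
  exact t1.trans t2.symm

/-- three elements: a ring element and two module elements on a common open -/
theorem exists_germ_triple (x : X) (r : X.presheaf.stalk x) (l : L.presheaf.stalk x)
    (n : N.presheaf.stalk x) :
    ∃ (W : X.Opens) (hx : x ∈ W) (c : Γ(X, W)) (a : Γ(L, W)) (b : Γ(N, W)),
      X.presheaf.germ W x hx c = r ∧ L.presheaf.germ W x hx a = l ∧
      N.presheaf.germ W x hx b = n := by
  obtain ⟨U₁, hx₁, c, rfl⟩ := TopCat.Presheaf.exists_germ_eq X.presheaf r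
  obtain ⟨U₂, hx₂, a, b, rfl, rfl⟩ := exists_germ_pair₂ L N x l n
  refine ⟨U₁ ⊓ U₂, ⟨hx₁, hx₂⟩, resO inf_le_left c, res L inf_le_right a, res N inf_le_right b,
    ?_, ?_, ?_⟩
  · exact TopCat.Presheaf.germ_res_apply X.presheaf (homOfLE inf_le_left) x _ c
  · exact TopCat.Presheaf.germ_res_apply L.presheaf (homOfLE inf_le_right) x _ a
  · exact TopCat.Presheaf.germ_res_apply N.presheaf (homOfLE inf_le_right) x _ b

theorem tm_smul_left (x : X) (r : X.presheaf.stalk x) (l : L.presheaf.stalk x)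
    (n : N.presheaf.stalk x) : tm L N x (r • l) n = r • tm L N x l n := by
  obtain ⟨W, hx, c, a, b, rfl, rfl, rfl⟩ := exists_germ_triple L N x r l n
  rw [← germ_smul, tm_germ, tm_germ, tmulSec_smul_left, germ_smul]

theorem tm_smul_right (x : X) (r : X.presheaf.stalk x) (l : L.presheaf.stalk x)
    (n : N.presheaf.stalk x) : tm L N x l (r • n) = r • tm L N x l n := by
  obtain ⟨W, hx, c, a, b, rfl, rfl, rfl⟩ := exists_germ_triple L N x r l n
  rw [← germ_smul, tm_germ, tm_germ, tmulSec_smul_right, germ_smul]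

theorem tm_stalkSpecializes {ξ x : X} (h : ξ ⤳ x) (l : L.presheaf.stalk x)
    (n : N.presheaf.stalk x) :
    (CohB1.tensorMod L N).presheaf.stalkSpecializes h (tm L N x l n) =
      tm L N ξ (L.presheaf.stalkSpecializes h l) (N.presheaf.stalkSpecializes h n) := by
  obtain ⟨W, hx, a, b, rfl, rfl⟩ := exists_germ_pair₂ L N x l n
  rw [tm_germ, TopCat.Presheaf.germ_stalkSpecializes_apply,
    TopCat.Presheaf.germ_stalkSpecializes_apply, TopCat.Presheaf.germ_stalkSpecializes_apply,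
    tm_germ]

variable {L N}

theorem freeGen_tm (hL : PicF.IsInvertible L) (hN : PicF.IsInvertible N) (x : X)
    {l : L.presheaf.stalk x} {n : N.presheaf.stalk x}
    (hl : FreeGen (X.presheaf.stalk x) l) (hn : FreeGen (X.presheaf.stalk x) n) :
    FreeGen (X.presheaf.stalk x) (tm L N x l n) := by
  obtain ⟨U₁, g, hxU₁, hg⟩ := exists_isGen L hL x
  obtain ⟨U₂, g', hxU₂, hg'⟩ := exists_isGen N hN x
  have hx : x ∈ U₁ ⊓ U₂ := ⟨hxU₁, hxU₂⟩
  have hγ := hg.res (inf_le_left : U₁ ⊓ U₂ ≤ U₁)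
  have hγ' := hg'.res (inf_le_right : U₁ ⊓ U₂ ≤ U₂)
  have h1 := freeGen_germ_of_isGen L hγ x hx
  have h2 := freeGen_germ_of_isGen N hγ' x hx
  obtain ⟨u, hu, -⟩ := h1.of_span_eq_top hl.1
  obtain ⟨u', hu', -⟩ := h2.of_span_eq_top hn.1
  rw [hu, hu', tm_smul_left, tm_smul_right, tm_germ, ← mul_smul]
  have h3 := freeGen_germ_of_isGen _ (isGen_tmulSec L N hγ hγ') x hx
  exact h3.unit_smul (u * u')

variable (L N)

/-- the tensor product of two elements of the fibres (defined through representatives) -/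
noncomputable def tmSec (ξ : X) (w : Cyc.secFibre L ξ) (w' : Cyc.secFibre N ξ) :
    Cyc.secFibre (CohB1.tensorMod L N) ξ :=
  Submodule.Quotient.mk (tm L N ξ (Classical.choose (Submodule.Quotient.mk_surjective _ w))
    (Classical.choose (Submodule.Quotient.mk_surjective _ w')))

variable {L N}

theorem tmSec_smul_mk (ξ : X) {t : L.presheaf.stalk ξ} {t' : N.presheaf.stalk ξ}
    (ht : FreeGen (X.presheaf.stalk ξ) t) (ht' : FreeGen (X.presheaf.stalk ξ) t')
    (φ χ : X.presheaf.stalk ξ) :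
    tmSec L N ξ (φ • (Submodule.Quotient.mk t : Cyc.secFibre L ξ))
      (χ • (Submodule.Quotient.mk t' : Cyc.secFibre N ξ)) =
      (φ * χ) • (Submodule.Quotient.mk (tm L N ξ t t') :
        Cyc.secFibre (CohB1.tensorMod L N) ξ) := by
  set w := φ • (Submodule.Quotient.mk t : Cyc.secFibre L ξ) with hw
  set w' := χ • (Submodule.Quotient.mk t' : Cyc.secFibre N ξ) with hw'
  have hsp := Classical.choose_spec (Submodule.Quotient.mk_surjective _ w)
  have hsp' := Classical.choose_spec (Submodule.Quotient.mk_surjective _ w')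
  set m := Classical.choose (Submodule.Quotient.mk_surjective _ w) with hm
  set m' := Classical.choose (Submodule.Quotient.mk_surjective _ w') with hm'
  obtain ⟨b, hb⟩ := ht.exists_smul m
  obtain ⟨b', hb'⟩ := ht'.exists_smul m'
  have h1 : b • (Submodule.Quotient.mk t : Cyc.secFibre L ξ) =
      φ • (Submodule.Quotient.mk t : Cyc.secFibre L ξ) := by
    rw [← Submodule.Quotient.mk_smul, ← hb]
    exact hsp
  have h1' : b' • (Submodule.Quotient.mk t' : Cyc.secFibre N ξ) =
      χ • (Submodule.Quotient.mk t' : Cyc.secFibre N ξ) := by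
    rw [← Submodule.Quotient.mk_smul, ← hb']
    exact hsp'
  have h2 := residue_eq_of_smul_mk_eq L ht b φ h1
  have h2' := residue_eq_of_smul_mk_eq N ht' b' χ h1'
  have h3 : b * b' - φ * χ ∈ maximalIdeal (X.presheaf.stalk ξ) := by
    rw [← IsLocalRing.residue_eq_zero_iff, map_sub, map_mul, map_mul, sub_eq_zero]
    have e : IsLocalRing.residue (X.presheaf.stalk ξ) b = IsLocalRing.residue _ φ := h2
    have e' : IsLocalRing.residue (X.presheaf.stalk ξ) b' = IsLocalRing.residue _ χ := h2'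
    rw [e, e']
  show (Submodule.Quotient.mk (tm L N ξ m m') : Cyc.secFibre (CohB1.tensorMod L N) ξ) = _
  rw [hb, hb', tm_smul_left, tm_smul_right, ← mul_smul, ← Submodule.Quotient.mk_smul,
    ← sub_eq_zero, ← Submodule.Quotient.mk_sub, ← sub_smul]
  exact mk_smul_eq_zero_of_mem _ _ h3 _

theorem tmSec_ne_zero (hL : PicF.IsInvertible L) (hN : PicF.IsInvertible N) (ξ : X)
    (w : Cyc.secFibre L ξ) (w' : Cyc.secFibre N ξ) (hw : w ≠ 0) (hw' : w' ≠ 0) :
    tmSec L N ξ w w' ≠ 0 := by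
  obtain ⟨g, hg⟩ := exists_freeGen L hL ξ
  obtain ⟨g', hg'⟩ := exists_freeGen N hN ξ
  obtain ⟨φ, rfl⟩ := exists_smul_mk L hg w
  obtain ⟨χ, rfl⟩ := exists_smul_mk N hg' w'
  have hφ := isUnit_of_residue_ne_zero φ (residue_ne_zero_of_smul_mk_ne_zero L φ hw)
  have hχ := isUnit_of_residue_ne_zero χ (residue_ne_zero_of_smul_mk_ne_zero N χ hw')
  rw [tmSec_smul_mk ξ hg hg' φ χ]
  have hu : IsUnit (φ * χ) := hφ.mul hχ
  intro h0
  have h1 := congrArg (fun z => ((hu.unit⁻¹ : (X.presheaf.stalk ξ)ˣ) : X.presheaf.stalk ξ) • z) h0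
  simp only [smul_zero] at h1
  rw [← mul_smul, hu.val_inv_mul, one_smul] at h1
  exact mk_ne_zero_of_freeGen _ (freeGen_tm hL hN ξ hg hg') h1

/-- the divisor of a tensor product of rational sections is the sum of the divisors -/
theorem secDivFun_tmSec [IsLocallyNoetherian X] (hL : PicF.IsInvertible L)
    (hN : PicF.IsInvertible N) (δ : X → ℤ) (hδ : Cyc.IsDimFun X δ) (ξ : X)
    (w : Cyc.secFibre L ξ) (w' : Cyc.secFibre N ξ) (hw : w ≠ 0) (hw' : w' ≠ 0) (x : X) :
    Cyc.secDivFun δ (CohB1.tensorMod L N) ξ (tmSec L N ξ w w') x =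
      Cyc.secDivFun δ L ξ w x + Cyc.secDivFun δ N ξ w' x := by
  classical
  have hT := isInvertible_tensorMod hL hN
  unfold Cyc.secDivFun
  by_cases hc : ξ ⤳ x ∧ δ x + 1 = δ ξ
  · rw [dif_pos hc, dif_pos hc, dif_pos hc]
    obtain ⟨t, ht⟩ := exists_freeGen L hL x
    obtain ⟨t', ht'⟩ := exists_freeGen N hN x
    have hg := freeGen_stalkSpecializes L hL hc.1 ht.1
    have hg' := freeGen_stalkSpecializes N hN hc.1 ht'.1
    obtain ⟨φ, rfl⟩ := exists_smul_mk L hg w
    obtain ⟨χ, rfl⟩ := exists_smul_mk N hg' w'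
    have hφ := residue_ne_zero_of_smul_mk_ne_zero L φ hw
    have hχ := residue_ne_zero_of_smul_mk_ne_zero N χ hw'
    have hd := krullDimLE_one_locQuot δ hδ hc.1 hc.2
    have hφχ : X.residue ξ (φ * χ) ≠ 0 := by
      rw [map_mul]
      exact mul_ne_zero hφ hχ
    rw [tmSec_smul_mk ξ hg hg' φ χ, ← tm_stalkSpecializes L N hc.1 t t',
      secOrdAt_smul_mk_of_freeGen _ hT hc.1 hd (freeGen_tm hL hN x ht ht') _ hφχ,
      secOrdAt_smul_mk_of_freeGen L hL hc.1 hd ht φ hφ,
      secOrdAt_smul_mk_of_freeGen N hN hc.1 hd ht' χ hχ, map_mul, ordAt_mul hc.1 hd hφ hχ]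
  · rw [dif_neg hc, dif_neg hc, dif_neg hc, add_zero]

end Groth.Agent.Lib.Helper18.C1Core
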