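import Mathlib
import Groth.Agent.Lib.Helper7.FibreStalkIso

/-! # The fibre of the closure of a point lying over a maximal point of the base -/

set_option autoImplicit false
set_option linter.style.haveILetI false
set_option linter.unusedSectionVars false

universe u

open CategoryTheory CategoryTheory.Limits AlgebraicGeometry TopologicalSpace IsLocalRing

namespace Groth.Agent.Lib.Helper18.Cyc.ClosureFibre

variable {S : Scheme.{u}}

/-- At a generic point of an irreducible component, the maximal ideal of the local ring consists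
of nilpotent elements. -/
theorem isNilpotent_of_mem_maximalIdeal {s : S} (hs : closure {s} ∈ irreducibleComponents ↥S)
    {a : S.presheaf.stalk s} (ha : a ∈ maximalIdeal (S.presheaf.stalk s)) : IsNilpotent a := by
  rw [← mem_nilradical, nilradical_eq_sInf, Ideal.mem_sInf]
  intro P hP
  haveI : P.IsPrime := hP
  let P' : ↥(Spec (S.presheaf.stalk s)) := ⟨P, hP⟩
  have h1 : (S.fromSpecStalk s).base P' ⤳ s := by
    have : (S.fromSpecStalk s).base P' ∈ Set.range (S.fromSpecStalk s).base := ⟨P', rfl⟩
    rw [Scheme.range_fromSpecStalk] at this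
    exact this
  have h2 : (S.fromSpecStalk s).base P' = s := by
    have hgen : IsGenericPoint s (closure {s}) := rfl
    have h3 : closure {(S.fromSpecStalk s).base P'} ⊆ closure {s} := by
      have hirr : IsIrreducible (closure {(S.fromSpecStalk s).base P'}) :=
        isIrreducible_singleton.closure
      have hsub : closure {s} ⊆ closure {(S.fromSpecStalk s).base P'} :=
        closure_minimal (Set.singleton_subset_iff.mpr h1.mem_closure) isClosed_closure
      exact hs.2 hirr hsub
    have h4 : s ⤳ (S.fromSpecStalk s).base P' := by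
      rw [specializes_iff_mem_closure]
      exact h3 (subset_closure rfl)
    exact (h1.antisymm h4).eq
  have h5 : P' = closedPoint (S.presheaf.stalk s) := by
    apply (S.fromSpecStalk s).isEmbedding.injective
    rw [h2, Scheme.fromSpecStalk_closedPoint]
  have h6 : P = maximalIdeal (S.presheaf.stalk s) := congrArg PrimeSpectrum.asIdeal h5
  rw [h6]
  exact ha

/-- The fibre of a reduced scheme over a generic point of an irreducible component is reduced. -/
theorem isReduced_fiber {Z : Scheme.{u}} [IsReduced Z] (g : Z ⟶ S) {s : S}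
    (hs : closure {s} ∈ irreducibleComponents ↥S) : IsReduced (g.fiber s) := by
  haveI : ∀ p : ↥(g.fiber s), _root_.IsReduced ((g.fiber s).presheaf.stalk p) := by
    intro p
    set x := g.fiberι s p with hx
    have hgx : g.base x = s := by
      have : x ∈ Set.range (g.fiberι s).base := ⟨p, rfl⟩
      rw [Scheme.Hom.range_fiberι] at this
      exact this
    obtain ⟨e⟩ := Groth.Agent.Lib.Helper7.FibreStalkIso.nonempty_ringEquiv_aux g s p x rfl
    have hI : (maximalIdeal (S.presheaf.stalk (g.base x))).map (g.stalkMap x).hom = ⊥ := by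
      rw [eq_bot_iff, Ideal.map_le_iff_le_comap]
      intro a ha
      rw [Ideal.mem_comap, Ideal.mem_bot]
      have hs' : closure {g.base x} ∈ irreducibleComponents ↥S := by rw [hgx]; exact hs
      have hnil : IsNilpotent a := isNilpotent_of_mem_maximalIdeal hs' ha
      exact (hnil.map (g.stalkMap x).hom).eq_zero
    let e2 : Z.presheaf.stalk x ≃+* (g.fiber s).presheaf.stalk p :=
      ((RingEquiv.quotientBot (Z.presheaf.stalk x)).symm.trans
        (Ideal.quotEquivOfEq hI.symm)).trans e
    exact isReduced_of_injective e2.symm.toRingHom e2.symm.injective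
  exact isReduced_of_isReduced_stalk (g.fiber s)

/-- If the fibre over `s` contains a point whose closure is everything, the fibre is
irreducible. -/
theorem irreducibleSpace_fiber {Z : Scheme.{u}} (g : Z ⟶ S) {s : S} (ζ : Z) (hζs : g.base ζ = s)
    (hζ : closure {ζ} = Set.univ) : IrreducibleSpace ↥(g.fiber s) := by
  let e := g.fiberHomeo s
  let ζ' : ↥(g.base ⁻¹' {s}) := ⟨ζ, hζs⟩
  have h1 : closure ({ζ'} : Set ↥(g.base ⁻¹' {s})) = Set.univ := by
    rw [Topology.IsInducing.subtypeVal.closure_eq_preimage_closure_image, Set.image_singleton, hζ]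
    rfl
  have h2 : IsIrreducible (Set.univ : Set ↥(g.base ⁻¹' {s})) := by
    rw [← h1]
    exact isIrreducible_singleton.closure
  have h3 : IsIrreducible (Set.univ : Set ↥(g.fiber s)) := by
    have := h2.image e.symm e.symm.continuous.continuousOn
    rwa [Set.image_univ, e.symm.surjective.range_eq] at this
  haveI : PreirreducibleSpace ↥(g.fiber s) := ⟨h3.2⟩
  exact { toNonempty := ⟨e.symm ζ'⟩ }

section square

variable {X Z T : Scheme.{u}} (ι : Z ⟶ X) (f : X ⟶ S) (σ : T ⟶ S)

/-- The base change of `ι` to the fibre product with `σ`. -/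
noncomputable abbrev bcMap : pullback (ι ≫ f) σ ⟶ pullback f σ :=
  pullback.map (ι ≫ f) σ f σ ι (𝟙 _) (𝟙 S) (Category.comp_id _)
    ((Category.comp_id _).trans (Category.id_comp _).symm)

theorem isPullback_bcMap :
    IsPullback (bcMap ι f σ) (pullback.fst (ι ≫ f) σ) (pullback.fst f σ) ι := by
  have hbig : IsPullback (pullback.fst (ι ≫ f) σ) (pullback.snd (ι ≫ f) σ) (ι ≫ f) σ :=
    IsPullback.of_hasPullback _ _
  have hsmall : IsPullback (pullback.fst f σ) (pullback.snd f σ) f σ :=
    IsPullback.of_hasPullback _ _
  refine IsPullback.of_right ?_ (pullback.lift_fst _ _ _) hsmall.flip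
  have : bcMap ι f σ ≫ pullback.snd f σ = pullback.snd (ι ≫ f) σ := by
    unfold bcMap pullback.map
    rw [pullback.lift_snd, Category.comp_id]
  rw [this]
  exact hbig.flip

theorem range_bcMap :
    Set.range (bcMap ι f σ).base = (pullback.fst f σ).base ⁻¹' Set.range ι.base := by
  apply Set.Subset.antisymm
  · rintro _ ⟨p, rfl⟩
    refine ⟨(pullback.fst (ι ≫ f) σ).base p, ?_⟩
    rw [← Scheme.Hom.comp_apply, ← Scheme.Hom.comp_apply, (isPullback_bcMap ι f σ).w]
  · rintro q ⟨z₀, hz₀⟩
    obtain ⟨p, hp, -⟩ := Scheme.exists_preimage_of_isPullback (isPullback_bcMap ι f σ) q z₀ hz₀.symm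
    exact ⟨p, hp⟩

end square

/-- The fibre of the reduced closure of a point `z` over `f z`, a generic point of an irreducible
component of the base, is integral and is the closure of `z` in its fibre. -/
theorem main {X Z : Scheme.{u}} (f : X ⟶ S) (z : X)
    (hz : closure {f.base z} ∈ irreducibleComponents ↥S) (ι : Z ⟶ X) [IsClosedImmersion ι]
    [IsReduced Z] (hZ : Set.range ι.base = closure {z}) :
    IsIntegral (pullback (ι ≫ f) (S.fromSpecResidueField (f.base z))) ∧
      ∃ w : ↥(pullback f (S.fromSpecResidueField (f.base z))),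
        (pullback.fst f (S.fromSpecResidueField (f.base z))).base w = z ∧
          Set.range (bcMap ι f (S.fromSpecResidueField (f.base z))).base = closure {w} := by
  obtain ⟨ζ, hζ⟩ : z ∈ Set.range ι.base := by rw [hZ]; exact subset_closure rfl
  have hcl : closure ({ζ} : Set ↥Z) = Set.univ := by
    rw [ι.isEmbedding.isInducing.closure_eq_preimage_closure_image, Set.image_singleton, hζ, ← hZ]
    exact Set.preimage_range _
  have hgζ : (ι ≫ f).base ζ = f.base z := by rw [Scheme.Hom.comp_apply, hζ]
  constructor
  · haveI : IsReduced ((ι ≫ f).fiber (f.base z)) := isReduced_fiber (ι ≫ f) hz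
    haveI : IrreducibleSpace ↥((ι ≫ f).fiber (f.base z)) :=
      irreducibleSpace_fiber (ι ≫ f) ζ hgζ hcl
    exact (isIntegral_of_irreducibleSpace_of_isReduced ((ι ≫ f).fiber (f.base z)))
  · refine ⟨f.asFiber z, f.fiberι_asFiber z, ?_⟩
    rw [range_bcMap, hZ]
    have := (f.fiberι (f.base z)).isEmbedding.isInducing.closure_eq_preimage_closure_image
      {f.asFiber z}
    rw [Set.image_singleton, f.fiberι_asFiber z] at this
    exact this.symm

end Groth.Agent.Lib.Helper18.Cyc.ClosureFibre
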