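import Mathlib
import Groth.Prelude.Def_Cyc
import Groth.Agent.Lib.Helper18.Cyc.PullComp
import Groth.Agent.Lib.lead.FibreDimBCLocal
import Groth.Agent.Lib.Helper24.FibreDim.Main3448

/-!
# The dimension function at generic points of a flat base change
-/

set_option autoImplicit false
set_option linter.style.haveILetI false
universe u
open AlgebraicGeometry CategoryTheory Limits

namespace Groth.Agent.Lib.Helper18.DeltaBC

open Groth.Agent.Lib.Helper18.CycPull Groth.Agent.Lib.Helper24.FibreDim
  Groth.Agent.Lib.lead.FibreDimBCLocal Groth.Agent.Lib.lead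

variable {X S S' P : Scheme.{u}} {p₁ : P ⟶ X} {p₂ : P ⟶ S'} {a : X ⟶ S} {g : S' ⟶ S}

/-- In a cartesian square, a generic point of the fibre product maps to a point which is generic
in its fibre. -/
theorem isMax_fibre_snd_of_generic (hsq : IsPullback p₁ p₂ a g) (x' : P)
    (hx' : ∀ y : P, y ⤳ x' → y = x') :
    ∀ y : S', g y = g (p₂ x') → y ⤳ p₂ x' → y = p₂ x' := by
  intro y hy hys
  obtain ⟨π, hπ, hπι⟩ := exists_fiber_pullback g a p₂ p₁ hsq.flip (p₁ x')
  have hflat : Flat (Spec.map (a.residueFieldMap (p₁ x'))) :=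
    flat_SpecMap_of_isField (Field.toIsField _) _
  haveI : Flat π := MorphismProperty.of_isPullback hπ.flip hflat
  have hw : g (p₂ x') = a (p₁ x') := by
    have := congrArg (fun q => q x') hsq.w
    simp only [Scheme.Hom.comp_apply] at this
    exact this.symm
  have hι : g.fiberι (a (p₁ x')) (π (p₁.asFiber x')) = p₂ x' := by
    have h5 := congrArg (fun q => q (p₁.asFiber x')) hπι
    simp only [Scheme.Hom.comp_apply] at h5
    rw [h5, p₁.fiberι_asFiber]
  have hymem : y ∈ Set.range (g.fiberι (a (p₁ x'))) := by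
    rw [g.range_fiberι]
    exact hy.trans hw
  obtain ⟨y₀, rfl⟩ := hymem
  have hind := (g.fiberι (a (p₁ x'))).isEmbedding.isInducing
  have hspec : y₀ ⤳ π (p₁.asFiber x') := by
    rw [← hind.specializes_iff, hι]
    exact hys
  obtain ⟨z'', hz'', hπz⟩ := (Flat.generalizingMap π) hspec
  have h1 : p₁.fiberι (p₁ x') z'' ⤳ x' := by
    have := hz''.map (p₁.fiberι (p₁ x')).continuous
    rwa [p₁.fiberι_asFiber] at this
  have h2 : p₁.fiberι (p₁ x') z'' = p₁.fiberι (p₁ x') (p₁.asFiber x') := by
    rw [p₁.fiberι_asFiber]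
    exact hx' _ h1
  have h3 : z'' = p₁.asFiber x' := (p₁.fiberι (p₁ x')).isEmbedding.injective h2
  rw [← hπz, h3, hι]

/-- If the first projection is flat, a generic point maps to a generic point. -/
theorem generic_fst_of_generic [Flat p₁] (x' : P) (hx' : ∀ y : P, y ⤳ x' → y = x') :
    ∀ y : X, y ⤳ p₁ x' → y = p₁ x' := by
  intro y hy
  obtain ⟨z, hz, hpz⟩ := (Flat.generalizingMap p₁) hy
  rw [← hpz, hx' z hz]

/-- The residue transcendence degrees at generic points agree under base change. -/
theorem tr_snd_eq_tr (hsq : IsPullback p₁ p₂ a g) [LocallyOfFiniteType a] (x' : P)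
    (hx' : ∀ y : P, y ⤳ x' → y = x') (hx : ∀ y : X, y ⤳ p₁ x' → y = p₁ x') :
    haveI : LocallyOfFiniteType p₂ := MorphismProperty.of_isPullback hsq inferInstance
    tr p₂ x' = tr a (p₁ x') := by
  haveI : LocallyOfFiniteType p₂ := MorphismProperty.of_isPullback hsq inferInstance
  have h1 := fibreDimAt_baseChange a g p₁ p₂ hsq x'
  rw [fibreDimAt_eq_tr_add_G, fibreDimAt_eq_tr_add_G] at h1
  have hG1 : FibreOrder.G p₂ x' = 0 := (G_eq_zero_iff p₂ x').2 (fun z _ hz => hx' z hz)
  have hG2 : FibreOrder.G a (p₁ x') = 0 := (G_eq_zero_iff a (p₁ x')).2 (fun z _ hz => hx z hz)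
  rw [hG1, hG2, add_zero, add_zero] at h1
  exact_mod_cast h1

/-- **The dimension function at the generic points of a flat base change.** -/
theorem delta_generic_baseChange {S S' X : Scheme.{u}} (δS : S → ℤ) (δS' : S' → ℤ)
    (g : S' ⟶ S) [Flat g] (c : ℤ)
    (hc : ∀ s' : S', (∀ y, g y = g s' → y ⤳ s' → y = s') → δS' s' = δS (g s') + c)
    (a : X ⟶ S) [LocallyOfFiniteType a] [IsIntegral X] (δX : X → ℤ)
    (hX : Cyc.DeltaCompat a δX δS) (δX' : ↥(pullback a g) → ℤ)
    (hX' : Cyc.DeltaCompat (pullback.snd a g) δX' δS') (k : ℤ)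
    (hk : δX (genericPoint X) = k) (x' : ↥(pullback a g))
    (hx' : ∀ y : ↥(pullback a g), y ⤳ x' → y = x') : δX' x' = k + c := by
  have hsq := IsPullback.of_hasPullback a g
  have hgen := generic_fst_of_generic (p₁ := pullback.fst a g) x' hx'
  have hxη : genericPoint X = pullback.fst a g x' :=
    hgen (genericPoint X) (_root_.genericPoint_specializes _)
  have hmax := isMax_fibre_snd_of_generic hsq x' hx'
  have h1 := hc (pullback.snd a g x') hmax
  have h2 := delta_eq_add_tr (pullback.snd a g) δX' δS' hX' x'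
  have h3 := delta_eq_add_tr a δX δS hX (pullback.fst a g x')
  have h4 := tr_snd_eq_tr hsq x' hx' hgen
  have hw : g (pullback.snd a g x') = a (pullback.fst a g x') := by
    have := congrArg (fun q => q x') hsq.w
    simp only [Scheme.Hom.comp_apply] at this
    exact this.symm
  rw [← hxη, hk] at h3
  rw [hxη] at h3
  rw [h2, h1, hw, h4]
  omega

end Groth.Agent.Lib.Helper18.DeltaBC
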