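import Mathlib
import Groth.Agent.Lib.Helper18.Cyc.OrdQuotFlat

/-!
# A nonzerodivisor with flat quotient stays a nonzerodivisor on the fibres
-/

set_option autoImplicit false
set_option linter.style.haveILetI false
universe u
open IsLocalRing

namespace Groth.Agent.Lib.Helper18.CycDiv

/-- If `f` is a nonzerodivisor of `R` and `R/fR` is flat over `A`, then `f` is a nonzerodivisor
on `R/IR` for every ideal `I` of `A`. -/
theorem mem_map_of_mul_mem_of_flat_quot {A R : Type u} [CommRing A] [CommRing R] [Algebra A R]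
    (f : R) (hf : f ∈ nonZeroDivisors R) [Module.Flat A (R ⧸ Ideal.span {f})] (I : Ideal A)
    (a : R) (ha : f * a ∈ I.map (algebraMap A R)) : a ∈ I.map (algebraMap A R) := by
  classical
  unfold Ideal.map at ha
  rw [Ideal.span, Submodule.mem_span_image_iff_exists_fun] at ha
  obtain ⟨t, htI, c, hc⟩ := ha
  -- the relation in the quotient
  have hrel : ∑ j : t, (j : A) • (Ideal.Quotient.mk (Ideal.span {f}) (c j)) = 0 := by
    have h1 : ∀ j : t, ((j : A) • (Ideal.Quotient.mk (Ideal.span {f}) (c j)) : R ⧸ Ideal.span {f}) =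
        Ideal.Quotient.mk (Ideal.span {f}) (c j • algebraMap A R (j : A)) := by
      intro j
      rw [smul_eq_mul, mul_comm, ← Algebra.smul_def]
      rfl
    simp only [h1]
    rw [← map_sum, hc, Ideal.Quotient.eq_zero_iff_mem]
    exact Ideal.mem_span_singleton'.2 ⟨a, mul_comm a f⟩
  obtain ⟨k, a', y, hy, hrel'⟩ := Module.Flat.isTrivialRelation_of_sum_smul_eq_zero (R := A)
    (M := R ⧸ Ideal.span {f}) (f := fun j : t => (j : A))
    (x := fun j : t => Ideal.Quotient.mk (Ideal.span {f}) (c j)) hrel
  simp only at hy hrel'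
  choose y' hy' using fun j => Ideal.Quotient.mk_surjective (y j)
  have hdiff : ∀ j : t, ∃ e : R, c j = ∑ l, algebraMap A R (a' j l) * y' l + f * e := by
    intro j
    have h1 : Ideal.Quotient.mk (Ideal.span {f}) (c j) =
        Ideal.Quotient.mk (Ideal.span {f}) (∑ l, algebraMap A R (a' j l) * y' l) := by
      rw [hy j, map_sum]
      refine Finset.sum_congr rfl fun l _ => ?_
      rw [← hy' l, ← Algebra.smul_def]
      rfl
    rw [Ideal.Quotient.eq, Ideal.mem_span_singleton'] at h1
    obtain ⟨e, he⟩ := h1
    refine ⟨e, ?_⟩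
    rw [mul_comm f e, he]
    ring
  choose e he using hdiff
  have hfa : f * a = f * ∑ j : t, e j * algebraMap A R (j : A) := by
    rw [← hc]
    have h2 : ∀ j : t, c j • algebraMap A R (j : A) =
        ∑ l, algebraMap A R ((j : A) * a' j l) * y' l + f * (e j * algebraMap A R (j : A)) := by
      intro j
      rw [smul_eq_mul]
      conv_lhs => rw [he j]
      rw [add_mul, Finset.sum_mul]
      congr 1
      · refine Finset.sum_congr rfl fun l _ => ?_
        rw [map_mul]
        ring
      · ring
    simp only [h2]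
    rw [Finset.sum_add_distrib, Finset.sum_comm, ← Finset.mul_sum]
    have h3 : ∀ l, ∑ j : t, algebraMap A R ((j : A) * a' j l) * y' l = 0 := by
      intro l
      rw [← Finset.sum_mul, ← map_sum, hrel' l, map_zero, zero_mul]
    simp only [h3, Finset.sum_const_zero, zero_add]
  have haeq : a = ∑ j : t, e j * algebraMap A R (j : A) := by
    have h0 : (a - ∑ j : t, e j * algebraMap A R (j : A)) * f = 0 := by
      rw [sub_mul, mul_comm a f, hfa]
      ring
    have := (mem_nonZeroDivisors_iff_right.1 hf) _ h0
    exact sub_eq_zero.1 this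
  rw [haeq]
  refine Ideal.sum_mem _ fun j _ => Ideal.mul_mem_left _ _ ?_
  exact Ideal.mem_map_of_mem _ (htI j.2)

/-- The image of `f` in `R/IR` is a nonzerodivisor. -/
theorem mk_mem_nonZeroDivisors_of_flat_quot {A R : Type u} [CommRing A] [CommRing R]
    [Algebra A R] (f : R) (hf : f ∈ nonZeroDivisors R) [Module.Flat A (R ⧸ Ideal.span {f})]
    (I : Ideal A) :
    Ideal.Quotient.mk (I.map (algebraMap A R)) f ∈
      nonZeroDivisors (R ⧸ I.map (algebraMap A R)) := by
  rw [mem_nonZeroDivisors_iff_right]
  intro z hz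
  obtain ⟨z, rfl⟩ := Ideal.Quotient.mk_surjective z
  rw [← map_mul, Ideal.Quotient.eq_zero_iff_mem, mul_comm] at hz
  exact Ideal.Quotient.eq_zero_iff_mem.2 (mem_map_of_mul_mem_of_flat_quot f hf I z hz)

/-- Flatness of the quotient by the kernel of a surjection. -/
theorem flat_quot_of_surjective {A R S : Type u} [CommRing A] [CommRing R] [CommRing S]
    (φ : A →+* R) (ψ : R →+* S) (hψ : Function.Surjective ψ) (hflat : (ψ.comp φ).Flat) (f : R)
    (hker : RingHom.ker ψ = Ideal.span {f}) :
    letI := φ.toAlgebra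
    Module.Flat A (R ⧸ Ideal.span {f}) := by
  letI := φ.toAlgebra
  letI := (ψ.comp φ).toAlgebra
  haveI : Module.Flat A S := hflat
  let e : (R ⧸ Ideal.span {f}) ≃+* S :=
    (Ideal.quotEquivOfEq hker.symm).trans (RingHom.quotientKerEquivOfSurjective hψ)
  have he : ∀ r : R, e (Ideal.Quotient.mk _ r) = ψ r := fun r => rfl
  let el : (R ⧸ Ideal.span {f}) ≃ₗ[A] S :=
    { e.toAddEquiv with
      map_smul' := by
        intro a z
        obtain ⟨z, rfl⟩ := Ideal.Quotient.mk_surjective z
        show e (a • Ideal.Quotient.mk _ z) = a • e (Ideal.Quotient.mk _ z)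
        have h1 : a • Ideal.Quotient.mk (Ideal.span {f}) z =
            Ideal.Quotient.mk (Ideal.span {f}) (φ a * z) := by
          rw [Algebra.smul_def]
          rfl
        rw [h1, he, he, map_mul, Algebra.smul_def]
        rfl }
  exact Module.Flat.of_linearEquiv el

/-- A Noetherian local ring with a nonzerodivisor `t` in the maximal ideal such that `B/tB` has
finite length is of dimension one without embedded primes. -/
theorem dim_one_and_no_embedded_of_regular {B : Type u} [CommRing B] [IsNoetherianRing B]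
    [IsLocalRing B] (t : B) (htm : t ∈ maximalIdeal B) (hreg : t ∈ nonZeroDivisors B)
    (hlen : Module.length B (B ⧸ Ideal.span {t}) ≠ ⊤) :
    ringKrullDim B = 1 ∧ (∀ p ∈ associatedPrimes B B, p ∈ minimalPrimes B) := by
  have hreg' : IsSMulRegular B t := by
    intro u v huv
    simp only [smul_eq_mul] at huv
    have h0 : (u - v) * t = 0 := by
      rw [sub_mul, mul_comm u t, mul_comm v t, huv, sub_self]
    exact sub_eq_zero.1 ((mem_nonZeroDivisors_iff_right.1 hreg) _ h0)
  have hart : IsArtinianRing (B ⧸ Ideal.span {t}) := by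
    rw [Module.length_ne_top_iff, isFiniteLength_iff_isNoetherian_isArtinian] at hlen
    exact isArtinian_of_tower B hlen.2
  have hne : Nontrivial (B ⧸ Ideal.span {t}) := by
    apply Ideal.Quotient.nontrivial_iff.2
    intro h
    have : (1 : B) ∈ maximalIdeal B := by
      have h1 : Ideal.span {t} ≤ maximalIdeal B := (Ideal.span_singleton_le_iff_mem _).2 htm
      exact h1 (h ▸ Submodule.mem_top)
    exact (IsLocalRing.mem_maximalIdeal _).1 this isUnit_one
  have hdim0 : ringKrullDim (B ⧸ Ideal.span {t}) = 0 := by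
    have h1 : Ring.KrullDimLE 0 (B ⧸ Ideal.span {t}) := isArtinianRing_iff_krullDimLE_zero.1 hart
    exact (ringKrullDimZero_iff_ringKrullDim_eq_zero).1 h1
  have hdim : ringKrullDim B = 1 := by
    have h1 := ringKrullDim_quotient_span_singleton_succ_eq_ringKrullDim_of_mem_jacobson
      hreg' (by rw [IsLocalRing.ringJacobson_eq_maximalIdeal]; exact htm)
    rw [← h1, hdim0]
    rfl
  refine ⟨hdim, ?_⟩
  intro p hp
  rw [AssociatedPrimes.mem_iff, isAssociatedPrime_iff] at hp
  obtain ⟨hpp, z, hz⟩ := hp
  haveI : Ring.KrullDimLE 1 B := Ring.krullDimLE_iff.2 (by rw [hdim]; exact le_refl _)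
  rcases Ring.krullDimLE_one_iff.1 inferInstance p hpp with h1 | h1
  · exact h1
  · exfalso
    have hpm : p = maximalIdeal B := IsLocalRing.eq_maximalIdeal h1
    have htp : t ∈ p := hpm ▸ htm
    rw [hz, Submodule.mem_colon_singleton, Submodule.mem_bot] at htp
    have hz0 : z = 0 := by
      apply hreg'
      simp only [smul_zero]
      exact htp
    apply hpp.ne_top
    rw [hz, hz0]
    ext r
    simp [Submodule.mem_colon_singleton]

end Groth.Agent.Lib.Helper18.CycDiv
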