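import Mathlib
import Groth.Prelude.Def_Cyc
import Groth.Prelude.Def_C1
import Groth.Prelude.Def_Pic
import Groth.Agent.Lib.Helper18.Cyc.GysinDiv
import Groth.Agent.Lib.Helper18.Cyc.PullDivGen
import Groth.Agent.Lib.Helper18.Cyc.FibreMax
import Groth.Agent.Lib.Helper18.Cyc.FlatQuot
import Groth.Agent.Lib.Helper18.Cyc.C1Comm
import Groth.Agent.Lib.Helper18.Push.SubPush

/-!
# Flat pullback commutes with the Gysin map of a relative effective Cartier divisor
-/

set_option autoImplicit false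
set_option maxHeartbeats 1000000
set_option linter.style.haveILetI false
set_option linter.unusedSectionVars false
universe u
open AlgebraicGeometry CategoryTheory IsLocalRing

namespace Groth.Agent.Lib.Helper18.GysinFlat

open Groth.Agent.Lib.Helper18.CycDiv Groth.Agent.Lib.Helper18.C1Core
  Groth.Agent.Lib.Helper18.InvStalk Groth.Agent.Lib.Helper18.Push
  Groth.Agent.Lib.Helper18.CycPull Groth.Agent.Lib.Helper18.KeyGeo
  Groth.Agent.Lib.Helper13.StalkSpecLoc Groth.Agent.Lib.Helper24.LatDist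

variable {X Y D : Scheme.{u}}

theorem primeOf_rfl (x : X) :
    primeOf (specializes_rfl : x ⤳ x) = maximalIdeal (X.presheaf.stalk x) := by
  unfold primeOf
  rw [TopCat.Presheaf.stalkSpecializes_refl]
  rfl

/-- a regular section has a nonzerodivisor as local equation -/
theorem localEq_mem_nonZeroDivisors (L : X.Modules) (s : L.presheaf.obj (Opposite.op ⊤)) (x : X)
    (hreg : Function.Injective (fun a : X.presheaf.stalk x => a • (L.presheaf.germ ⊤ x trivial) s))
    (t : L.presheaf.stalk x) (f : X.presheaf.stalk x)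
    (hs : (L.presheaf.germ ⊤ x trivial) s = f • t) : f ∈ nonZeroDivisors (X.presheaf.stalk x) := by
  rw [mem_nonZeroDivisors_iff_right]
  intro a ha
  apply hreg
  show a • (L.presheaf.germ ⊤ x trivial) s = (0 : X.presheaf.stalk x) • _
  rw [hs, smul_smul, ha, zero_smul, zero_smul]

section main

variable (δX : X → ℤ) (δY : Y → ℤ) (hX : Cyc.IsSetup X δX) (hY : Cyc.IsSetup Y δY)
  (p : X ⟶ Y) [Flat p] [LocallyOfFiniteType p] (r : ℕ) (hr : Cyc.HasRelDim p (r + 1))
  (hδ : Cyc.DeltaCompat p δX δY) (L : X.Modules) (hL : PicF.IsInvertible L)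
  (s : L.presheaf.obj (Opposite.op ⊤))
  (hreg : ∀ x : X, Function.Injective
    (fun a : X.presheaf.stalk x => a • (L.presheaf.germ ⊤ x trivial) s))
  (i : D ⟶ X) [IsClosedImmersion i] (hD : Cyc.IsZeroSchemeOf i L s) [Flat (i ≫ p)]
  (hrD : Cyc.HasRelDim (i ≫ p) r) (k : ℤ) (α : Y → ℤ) (hα : ∀ y, δY y ≠ k + 1 → α y = 0)
  (w : (ξ : X) → Cyc.secFibre L ξ)

include hX hδ hrD in
theorem delta_le_of_mem (d : D) : δX (i d) ≤ δY (p (i d)) + r := by
  have hδD : Cyc.DeltaCompat (i ≫ p) (fun d => δX (i d)) δY :=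
    deltaCompat_square i (𝟙 Y) p (i ≫ p) (by simp) δX δY hδ
  have h1 := delta_eq_add_tr (i ≫ p) (fun d => δX (i d)) δY hδD d
  have h2 : (Groth.Agent.Lib.Helper24.FibreDim.tr (i ≫ p) d : ℤ) ≤ r := by
    exact_mod_cast tr_le_of_hasRelDim (i ≫ p) r hrD d
  have h3 : (i ≫ p) d = p (i d) := rfl
  rw [h3] at h1
  simp only at h1
  linarith

include hX hY hδ hrD hα in
/-- the points contributing to the Gysin pullback at a point of `D` -/
theorem term_ne_zero (d : D) (ξ : X)
    (hne : Cyc.pullFun p δX δY (r + 1) α ξ *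
      Cyc.secDivFun δX L ξ (Cyc.gysinChoice L s w ξ) (i d) ≠ 0) :
    ξ ⤳ i d ∧ δX (i d) + 1 = δX ξ ∧ δX ξ = δY (p ξ) + (r + 1) ∧ δY (p ξ) = k + 1 ∧
      p ξ = p (i d) := by
  classical
  have h1 : Cyc.pullFun p δX δY (r + 1) α ξ ≠ 0 := left_ne_zero_of_mul hne
  have h2 : Cyc.secDivFun δX L ξ (Cyc.gysinChoice L s w ξ) (i d) ≠ 0 := right_ne_zero_of_mul hne
  have h3 : ξ ⤳ i d ∧ δX (i d) + 1 = δX ξ := by
    by_contra hc
    apply h2
    unfold Cyc.secDivFun
    rw [dif_neg hc]
  have h4 : δX ξ = δY (p ξ) + (r + 1) := by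
    by_contra hc
    apply h1
    unfold Cyc.pullFun
    rw [if_neg hc]
  have h5 : α (p ξ) ≠ 0 := by
    intro h0
    apply h1
    unfold Cyc.pullFun
    rw [if_pos h4, h0, zero_mul]
  have h6 : δY (p ξ) = k + 1 := by
    by_contra hc
    exact h5 (hα _ hc)
  refine ⟨h3.1, h3.2, h4, h6, ?_⟩
  by_contra hc
  have h7 := (hY.2.2 (p ξ) (p (i d)) (h3.1.map p.continuous) hc).1
  have h8 := delta_le_of_mem δX δY hX p r hδ i hrD d
  linarith [h3.2]

include hX hδ hr hL hreg hD hrD in
/-- the main local computation, at a point of `D` generic in its fibre -/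
theorem main_case (d : D) (h1 : δX (i d) = k + r + 1) (h2 : δY (p (i d)) = k + 1) :
    ∑ᶠ ξ' ∈ {ξ' : FibIdx p (p (i d)) | ξ'.1 ⤳ i d},
      Cyc.pullFun p δX δY (r + 1) α ξ'.1 *
        Cyc.secDivFun δX L ξ'.1 (Cyc.gysinChoice L s w ξ'.1) (i d) =
    α (p (i d)) * ((Module.length (D.presheaf.stalk d) (D.presheaf.stalk d ⧸
      Ideal.map ((i ≫ p).stalkMap d).hom
        (maximalIdeal (Y.presheaf.stalk ((i ≫ p) d))))).toNat : ℤ) := by
  classical
  haveI : IsLocallyNoetherian X := hX.1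
  haveI : IsLocallyNoetherian D := LocallyOfFiniteType.isLocallyNoetherian i
  have hdimX := hX.2.2
  have hdimD : Cyc.IsDimFun D (fun d => δX (i d)) := isDimFun_comp_of_isClosedImmersion i δX hdimX
  have hδD : Cyc.DeltaCompat (i ≫ p) (fun d => δX (i d)) δY :=
    deltaCompat_square i (𝟙 Y) p (i ≫ p) (by simp) δX δY hδ
  have hcomp : (i ≫ p) d = p (i d) := rfl
  -- `d` is generic in its fibre
  have hmaxd := isMax_fibre_of_delta (i ≫ p) (fun d => δX (i d)) δY hdimD r hrD hδD d (by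
    show δX (i d) = δY ((i ≫ p) d) + r
    rw [hcomp, h1, h2]
    ring)
  have hfin := (length_ne_top_iff_isMax (i ≫ p) d).2 hmaxd
  obtain ⟨t, f, ht, hs, hker⟩ := hD.2 d
  have hy : p (i d) ⤳ p (i d) := specializes_rfl
  have hfreg := localEq_mem_nonZeroDivisors L s (i d) (hreg (i d)) t f hs
  have hsurj : Function.Surjective (i.stalkMap d).hom := i.stalkMap_surjective d
  have hcompst : ((i ≫ p).stalkMap d).hom =
      (i.stalkMap d).hom.comp (p.stalkMap (i d)).hom := by
    rw [Scheme.Hom.stalkMap_comp]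
    rfl
  have hflat0 : ((i.stalkMap d).hom.comp (p.stalkMap (i d)).hom).Flat := by
    rw [← hcompst]
    exact Flat.stalkMap (i ≫ p) d
  letI := (p.stalkMap (i d)).hom.toAlgebra
  haveI hflatQ : Module.Flat (Y.presheaf.stalk (p (i d)))
      (X.presheaf.stalk (i d) ⧸ Ideal.span {f}) :=
    flat_quot_of_surjective (p.stalkMap (i d)).hom (i.stalkMap d).hom hsurj hflat0 f hker
  have hfbar : Ideal.Quotient.mk ((primeOf hy).map (p.stalkMap (i d)).hom) f ∈
      nonZeroDivisors (X.presheaf.stalk (i d) ⧸ (primeOf hy).map (p.stalkMap (i d)).hom) :=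
    mk_mem_nonZeroDivisors_of_flat_quot f hfreg (primeOf hy)
  have hPm : (primeOf hy).map (p.stalkMap (i d)).hom ≤ maximalIdeal (X.presheaf.stalk (i d)) :=
    map_primeOf_le_maximalIdeal p hy
  haveI : Nontrivial (X.presheaf.stalk (i d) ⧸ (primeOf hy).map (p.stalkMap (i d)).hom) :=
    Ideal.Quotient.nontrivial_iff.2 (fun h => (IsLocalRing.maximalIdeal.isMaximal _).ne_top
      (top_le_iff.1 (h ▸ hPm)))
  haveI : IsLocalRing (X.presheaf.stalk (i d) ⧸ (primeOf hy).map (p.stalkMap (i d)).hom) :=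
    IsLocalRing.of_surjective' (Ideal.Quotient.mk _) Ideal.Quotient.mk_surjective
  haveI : IsLocalHom (Ideal.Quotient.mk ((primeOf hy).map (p.stalkMap (i d)).hom)) :=
    IsLocalHom.of_surjective _ Ideal.Quotient.mk_surjective
  -- `f` is in the maximal ideal
  have hfm : ¬ IsUnit f := by
    intro hu
    have h0 : (i.stalkMap d).hom f = 0 := by
      have : f ∈ RingHom.ker (i.stalkMap d).hom := by
        rw [hker]
        exact Ideal.mem_span_singleton_self f
      exact RingHom.mem_ker.1 this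
    have hu' := hu.map (i.stalkMap d).hom
    rw [h0] at hu'
    exact not_isUnit_zero hu'
  have hfbarm : Ideal.Quotient.mk ((primeOf hy).map (p.stalkMap (i d)).hom) f ∈
      maximalIdeal (X.presheaf.stalk (i d) ⧸ (primeOf hy).map (p.stalkMap (i d)).hom) := by
    rw [IsLocalRing.mem_maximalIdeal, mem_nonunits_iff]
    intro hu
    exact hfm (isUnit_of_map_unit (Ideal.Quotient.mk _) f hu)
  -- the length
  have hlen : Module.length (X.presheaf.stalk (i d) ⧸ (primeOf hy).map (p.stalkMap (i d)).hom)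
      ((X.presheaf.stalk (i d) ⧸ (primeOf hy).map (p.stalkMap (i d)).hom) ⧸
        Ideal.span {Ideal.Quotient.mk ((primeOf hy).map (p.stalkMap (i d)).hom) f}) =
      Module.length (D.presheaf.stalk d) (D.presheaf.stalk d ⧸
        Ideal.map ((i ≫ p).stalkMap d).hom (maximalIdeal (Y.presheaf.stalk ((i ≫ p) d)))) := by
    have e1 := length_quot_quot ((primeOf hy).map (p.stalkMap (i d)).hom)
      ((primeOf hy).map (p.stalkMap (i d)).hom ⊔ Ideal.span {f}) le_sup_left
    have e2 : ((primeOf hy).map (p.stalkMap (i d)).hom ⊔ Ideal.span {f}).map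
        (Ideal.Quotient.mk ((primeOf hy).map (p.stalkMap (i d)).hom)) =
        Ideal.span {Ideal.Quotient.mk ((primeOf hy).map (p.stalkMap (i d)).hom) f} := by
      rw [Ideal.map_sup, Ideal.map_quotient_self, bot_sup_eq, Ideal.map_span, Set.image_singleton]
    rw [e2] at e1
    rw [e1]
    have hJ : Ideal.map ((i ≫ p).stalkMap d).hom
        (maximalIdeal (Y.presheaf.stalk ((i ≫ p) d))) =
        ((primeOf hy).map (p.stalkMap (i d)).hom).map (i.stalkMap d).hom := by
      rw [Ideal.map_map, primeOf_rfl, ← hcompst]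
      rfl
    rw [hJ]
    refine length_quot_eq_of_surjective (i.stalkMap d).hom hsurj _ _ ?_
    rw [Ideal.comap_map_of_surjective _ hsurj, ← RingHom.ker_eq_comap_bot, hker]
  obtain ⟨hdimB, hembB⟩ := dim_one_and_no_embedded_of_regular _ hfbarm hfbar
    (by rw [hlen]; exact hfin)
  have hord := ord_eq_finsum_cq_Uq hdimB hembB _ hfbar
  have hordlen : Ring.ord (X.presheaf.stalk (i d) ⧸ (primeOf hy).map (p.stalkMap (i d)).hom)
      (Ideal.Quotient.mk ((primeOf hy).map (p.stalkMap (i d)).hom) f) =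
      Module.length (D.presheaf.stalk d) (D.presheaf.stalk d ⧸
        Ideal.map ((i ≫ p).stalkMap d).hom (maximalIdeal (Y.presheaf.stalk ((i ≫ p) d)))) := by
    rw [← hlen]
    rfl
  rw [← hordlen, hord, mul_finsum_mem]
  refine finsum_mem_eq_of_bijOn (toPrimeBar p (i d) hy) (bijOn_toPrimeBar p (i d) hy) ?_
  intro ξ' hξ
  have h' : ξ'.1 ⤳ i d := hξ
  have hδξ' := delta_fibIdx p δX δY (r + 1) hr hδ ξ'
  have hδξ : δX (i d) + 1 = δX ξ'.1 := by
    rw [hδξ', h1, h2]
    push_cast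
    ring
  have hd := krullDimLE_one_locQuot δX hdimX h' hδξ
  have hmin : (toPrimeBar p (i d) hy ξ').asIdeal ∈ minimalPrimes
      (X.presheaf.stalk (i d) ⧸ (primeOf hy).map (p.stalkMap (i d)).hom) :=
    (bijOn_toPrimeBar p (i d) hy).mapsTo hξ
  have hdisj := Ideal.disjoint_nonZeroDivisors_of_mem_minimalPrimes hmin
  have hfnot : Ideal.Quotient.mk ((primeOf hy).map (p.stalkMap (i d)).hom) f ∉
      (toPrimeBar p (i d) hy ξ').asIdeal := fun hmem => Set.disjoint_left.1 hdisj hmem hfbar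
  rw [toPrimeBar_asIdeal p (i d) hy ξ' h'] at hfnot
  have hfp : f ∉ primeOf h' := fun hmem => hfnot (Ideal.mem_map_of_mem _ hmem)
  have hne : Cyc.specMap (i d) ξ'.1 h' f ≠ 0 := by
    intro h0
    apply hfp
    rw [← ker_specMap h']
    exact RingHom.mem_ker.2 h0
  have hfree := freeGen_of_span_eq_top L hL ht
  have hmk : (Submodule.Quotient.mk ((L.presheaf.germ ⊤ ξ'.1 trivial) s) :
      Cyc.secFibre L ξ'.1) ≠ 0 := by
    rw [mk_germ_eq_smul L s h' t f hs, ← Submodule.Quotient.mk_smul, ne_eq,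
      mk_smul_eq_zero_iff L (freeGen_stalkSpecializes L hL h' ht)]
    exact fun hmem => hfp hmem
  have hsec : Cyc.secDivFun δX L ξ'.1 (Cyc.gysinChoice L s w ξ'.1) (i d) =
      Cyc.secOrdAt L ξ'.1 (i d) h'
        (Submodule.Quotient.mk ((L.presheaf.germ ⊤ ξ'.1 trivial) s) : Cyc.secFibre L ξ'.1) := by
    unfold Cyc.secDivFun
    rw [dif_pos ⟨h', hδξ⟩, gysinChoice_of_ne_zero L s w ξ'.1 hmk]
  have hpull : Cyc.pullFun p δX δY (r + 1) α ξ'.1 = α (p (i d)) *
      ((Module.length (X.presheaf.stalk ξ'.1) (X.presheaf.stalk ξ'.1 ⧸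
        Ideal.map (p.stalkMap ξ'.1).hom
          (maximalIdeal (Y.presheaf.stalk (p ξ'.1))))).toNat : ℤ) := by
    unfold Cyc.pullFun
    have hα' : α (p ξ'.1) = α (p (i d)) := congrArg α ξ'.2.1
    have hc : δX ξ'.1 = δY (p ξ'.1) + (r + 1) := by
      rw [hδξ', ξ'.2.1]
      push_cast
      ring
    rw [if_pos hc, hα']
  rw [hsec, secOrdAt_mk_germ L hL s h' hd hfree f hs hne, ordAt_specMap h' hd f hne, hpull,
    cq_bar p hy ξ' h', Uq_bar p hy ξ' h' hd f hne]
  ring

include hX hY hδ hr hL hreg hD hrD hα in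
/-- **Pointwise identity**: the Gysin pullback of the flat pullback is the flat pullback along
the restriction. -/
theorem gysin_pull_pointwise (d : D) :
    Cyc.c1CapFun δX L (Cyc.pullFun p δX δY (r + 1) α) (Cyc.gysinChoice L s w) (i d) =
      Cyc.pullFun (i ≫ p) (fun d => δX (i d)) δY r α d := by
  classical
  have hcomp : (i ≫ p) d = p (i d) := rfl
  have hterm := term_ne_zero δX δY hX hY p r hδ L s i hrD k α hα w d
  by_cases hcase : δX (i d) = k + r + 1 ∧ δY (p (i d)) = k + 1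
  · have hmain := main_case δX δY hX p r hr hδ L hL s hreg i hD hrD k α w d hcase.1 hcase.2
    have hR : Cyc.pullFun (i ≫ p) (fun d => δX (i d)) δY r α d =
        α (p (i d)) * ((Module.length (D.presheaf.stalk d) (D.presheaf.stalk d ⧸
          Ideal.map ((i ≫ p).stalkMap d).hom
            (maximalIdeal (Y.presheaf.stalk ((i ≫ p) d))))).toNat : ℤ) := by
      unfold Cyc.pullFun
      rw [if_pos (by
        show δX (i d) = δY ((i ≫ p) d) + r
        rw [hcomp, hcase.1, hcase.2]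
        ring)]
      rfl
    rw [hR, ← hmain]
    unfold Cyc.c1CapFun
    -- restrict the sum to the generic points of the fibre through `i d`
    have hsupp : Function.support (fun ξ : X => Cyc.pullFun p δX δY (r + 1) α ξ *
        Cyc.secDivFun δX L ξ (Cyc.gysinChoice L s w ξ) (i d)) ⊆
        {ξ | p ξ = p (i d) ∧ (∀ z : X, p z = p (i d) → z ⤳ ξ → z = ξ) ∧ ξ ⤳ i d} := by
      intro ξ hξ
      obtain ⟨a1, a2, a3, a4, a5⟩ := hterm ξ hξ
      refine ⟨a5, ?_, a1⟩
      have hmax := isMax_fibre_of_delta p δX δY hX.2.2 (r + 1) hr hδ ξ (by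
        rw [a3]
        push_cast
        ring)
      intro z hz hzξ
      exact hmax z (hz.trans a5.symm) hzξ
    have hR2 := finsum_mem_inter_support_eq' (fun ξ : X => Cyc.pullFun p δX δY (r + 1) α ξ *
        Cyc.secDivFun δX L ξ (Cyc.gysinChoice L s w ξ) (i d)) Set.univ
      {ξ | p ξ = p (i d) ∧ (∀ z : X, p z = p (i d) → z ⤳ ξ → z = ξ) ∧ ξ ⤳ i d}
      (fun ξ hξ => ⟨fun _ => hsupp hξ, fun _ => trivial⟩)
    rw [finsum_mem_univ] at hR2
    rw [hR2]
    symm
    refine finsum_mem_eq_of_bijOn (fun ξ' : FibIdx p (p (i d)) => ξ'.1) ⟨?_, ?_, ?_⟩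
      (fun ξ' _ => rfl)
    · intro ξ' hξ'
      exact ⟨ξ'.2.1, ξ'.2.2, hξ'⟩
    · intro a _ b _ hab
      exact Subtype.ext hab
    · intro ξ hξ
      exact ⟨⟨ξ, hξ.1, hξ.2.1⟩, hξ.2.2, rfl⟩
  · -- both sides vanish
    have hL0 : Cyc.c1CapFun δX L (Cyc.pullFun p δX δY (r + 1) α) (Cyc.gysinChoice L s w) (i d) =
        0 := by
      unfold Cyc.c1CapFun
      refine finsum_eq_zero_of_forall_eq_zero fun ξ => ?_
      by_contra hne
      obtain ⟨a1, a2, a3, a4, a5⟩ := hterm ξ hne
      apply hcase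
      rw [a5] at a4
      refine ⟨?_, a4⟩
      rw [a5, a4] at a3
      linarith
    have hR0 : Cyc.pullFun (i ≫ p) (fun d => δX (i d)) δY r α d = 0 := by
      unfold Cyc.pullFun
      split_ifs with hc
      · have hc' : δX (i d) = δY (p (i d)) + r := hc
        have h0 : α ((i ≫ p) d) = 0 := by
          apply hα
          intro h1
          apply hcase
          rw [hcomp] at h1
          refine ⟨?_, h1⟩
          rw [hc', h1]
          ring
        rw [h0, zero_mul]
      · rfl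
    rw [hL0, hR0]

include hX hY hδ hr hL hreg hD hrD in
/-- **Flat pullback commutes with the Gysin map** (library form). -/
theorem gysin_pull_ratEquiv (αc : AlgebraicCycle Y ℤ) (hαc : αc ∈ Cyc.Zk Y δY (k + 1))
    (γ ζ : AlgebraicCycle D ℤ)
    (hγ : ∀ d, γ d = Cyc.c1CapFun δX L (Cyc.pullFun p δX δY (r + 1) ⇑αc)
      (Cyc.gysinChoice L s w) (i d))
    (hζ : ⇑ζ = Cyc.pullFun (i ≫ p) (fun d => δX (i d)) δY r ⇑αc) :
    Cyc.RatEquiv (fun d => δX (i d)) (k + r + 1) γ ζ := by
  refine RatPres.ratEquivZero (S := Set.univ) (γ - ζ) ((ratPres_zero _ _ Set.univ).congr fun d => ?_)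
  show 0 = γ d - ζ d
  rw [hγ d, hζ, gysin_pull_pointwise δX δY hX hY p r hr hδ L hL s hreg i hD hrD k ⇑αc
    (fun y hy => hαc y hy) w d, sub_self]

end main

end Groth.Agent.Lib.Helper18.GysinFlat
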