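import Mathlib
import Groth.Agent.S1833

/-!
# Length of `M/fM` for a regular element on a module with one-dimensional support
-/

set_option autoImplicit false
set_option linter.style.haveILetI false
universe u
open IsLocalRing Pointwise

namespace Groth.Agent.Lib.Helper18.CycDiv

open Groth.Agent.Lib.Helper2.ChiLocal Groth.Agent.Lib.Helper2.ChiLocal2
open Groth.Agent.Lib.Helper2.Snake Groth.Agent.Lib.Helper2.LenAt CycAlg

/-- a finite `finsum` of extended naturals with finite value, termwise truncated -/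
theorem toNat_finsum_mem_mul {ι : Type*} {s : Set ι} (hs : s.Finite) (A B : ι → ℕ∞)
    (hfin : ∑ᶠ i ∈ s, A i * B i ≠ ⊤) :
    (((∑ᶠ i ∈ s, A i * B i).toNat : ℕ) : ℤ) =
      ∑ᶠ i ∈ s, ((A i).toNat : ℤ) * ((B i).toNat : ℤ) := by
  classical
  rw [finsum_mem_eq_finite_toFinset_sum _ hs] at hfin ⊢
  rw [finsum_mem_eq_finite_toFinset_sum _ hs]
  have h1 : ∀ i ∈ hs.toFinset, A i * B i ≠ ⊤ := ENat.sum_ne_top.1 hfin
  rw [ENat.toNat_sum h1, Nat.cast_sum]
  refine Finset.sum_congr rfl fun i _ => ?_
  rw [ENat.toNat_mul]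
  push_cast
  rfl

theorem length_quot_regular_eq_finsum (R : Type u) [CommRing R] [IsNoetherianRing R]
    [IsLocalRing R] (M : Type u) [AddCommGroup M] [Module R M] [Module.Finite R M] (f : R)
    (hfm : f ∈ maximalIdeal R) (hreg : IsSMulRegular M f) (h1 : Module.supportDim R M ≤ 1) :
    (∀ p : PrimeSpectrum R, p ∈ Module.support R M → p.asIdeal ≠ maximalIdeal R →
      f ∉ p.asIdeal) ∧
    ((Module.length R (M ⧸ f • (⊤ : Submodule R M))).toNat : ℤ) =
      ∑ᶠ (p : PrimeSpectrum R) (_ : p ∈ Module.support R M ∧ p.asIdeal ≠ maximalIdeal R),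
        ((Ring.ord (R ⧸ p.asIdeal) (Ideal.Quotient.mk p.asIdeal f)).toNat : ℤ) *
          ((Module.length (Localization.AtPrime p.asIdeal)
            (LocalizedModule p.asIdeal.primeCompl M)).toNat : ℤ) := by
  classical
  have hsucc := Module.supportDim_quotSMulTop_succ_eq_supportDim hreg hfm
  have h0 : Module.supportDim R (M ⧸ f • (⊤ : Submodule R M)) ≤ 0 := by
    have h2 : Module.supportDim R (QuotSMulTop f M) + 1 ≤ 0 + 1 := by
      rw [hsucc]
      simpa using h1
    have hne1 : (1 : WithBot ℕ∞) ≠ ⊤ := by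
      intro h
      have : ((1 : ℕ∞) : WithBot ℕ∞) = ((⊤ : ℕ∞) : WithBot ℕ∞) := h
      exact ENat.one_ne_top (WithBot.coe_injective this)
    exact (WithBot.add_le_add_iff_right' (c := (1 : WithBot ℕ∞)) WithBot.one_ne_bot hne1).1 h2
  have hfl : IsFiniteLength R (M ⧸ f • (⊤ : Submodule R M)) :=
    isFiniteLength_of_support_subset _ (Groth.Agent.S1833.eq_max_of_supportDim_le_zero R _ h0)
  have hA : Module.length R (M ⧸ f • (⊤ : Submodule R M)) = a f M := by
    unfold a
    refine (Submodule.quotEquivOfEq _ _ ?_).length_eq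
    rw [Submodule.ideal_span_singleton_smul]
  have hafin : a f M ≠ ⊤ := by
    rw [← hA]
    exact Module.length_ne_top_iff.2 hfl
  have hnot : ∀ p : PrimeSpectrum R, p ∈ Module.support R M → p.asIdeal ≠ maximalIdeal R →
      f ∉ p.asIdeal := fun p hp hpm hfp => hpm (eq_max_of_mem f M hafin p hp hfp)
  refine ⟨hnot, ?_⟩
  have key := Groth.Agent.S1833.result R M f h1 h0
  have hker : Module.length R (LinearMap.ker (LinearMap.lsmul R M f)) = 0 := by
    rw [Module.length_eq_zero_iff]
    have : LinearMap.ker (LinearMap.lsmul R M f) = ⊥ := by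
      rw [LinearMap.ker_eq_bot]
      exact hreg
    rw [this]
    infer_instance
  rw [hker, zero_add] at key
  have hS : {p : PrimeSpectrum R | p ∈ Module.support R M ∧
      p.asIdeal ≠ maximalIdeal R}.Finite := by
    have hfinmin := Ideal.finite_minimalPrimes_of_isNoetherianRing R (Module.annihilator R M)
    refine Set.Finite.subset (Set.Finite.preimage
      (fun a _ b _ hab => PrimeSpectrum.ext hab) hfinmin) ?_
    rintro p ⟨hp, hpm⟩
    exact minimal_of_mem_support f hfm M hafin p hp hpm
  have hne : ∑ᶠ p ∈ {p : PrimeSpectrum R | p ∈ Module.support R M ∧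
      p.asIdeal ≠ maximalIdeal R},
      Ring.ord (R ⧸ p.asIdeal) (Ideal.Quotient.mk p.asIdeal f) *
        Module.length (Localization.AtPrime p.asIdeal)
          (LocalizedModule p.asIdeal.primeCompl M) ≠ ⊤ := by
    have : (∑ᶠ p ∈ {p : PrimeSpectrum R | p ∈ Module.support R M ∧
        p.asIdeal ≠ maximalIdeal R},
        Ring.ord (R ⧸ p.asIdeal) (Ideal.Quotient.mk p.asIdeal f) *
          Module.length (Localization.AtPrime p.asIdeal)
            (LocalizedModule p.asIdeal.primeCompl M)) =
        Module.length R (M ⧸ f • (⊤ : Submodule R M)) := key.symm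
    rw [this]
    exact Module.length_ne_top_iff.2 hfl
  have hconv := toNat_finsum_mem_mul hS
    (fun p : PrimeSpectrum R => Ring.ord (R ⧸ p.asIdeal) (Ideal.Quotient.mk p.asIdeal f))
    (fun p : PrimeSpectrum R => Module.length (Localization.AtPrime p.asIdeal)
      (LocalizedModule p.asIdeal.primeCompl M)) hne
  rw [key]
  exact hconv

end Groth.Agent.Lib.Helper18.CycDiv
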