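import Mathlib
import Groth.Agent.Lib.Helper17.ModStalk
import Groth.Agent.Lib.Helper18.Cyc.InvStalk
import Groth.Agent.Lib.Helper13.StalkSpecLoc

/-!
# The stalk of a quasi-coherent module at a generization is a localization of the stalk
-/

set_option autoImplicit false
set_option linter.style.haveILetI false
universe u
open AlgebraicGeometry CategoryTheory IsLocalRing

namespace Groth.Agent.Lib.Helper18.StalkLoc

open Groth.Agent.Lib.Helper13.StalkSpecLoc Groth.Agent.Lib.Helper18.InvStalk
  Groth.Agent.Lib.Helper28.QCohLoc Groth.Agent.Lib.Helper29.QCohStalk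

variable {X : Scheme.{u}} (F : X.Modules)

/-- `F_ξ` as a module over `O_{X,x}` for a specialization `ξ ⤳ x`. -/
noncomputable abbrev moduleSpec {ξ x : X} (h : ξ ⤳ x) :
    Module (X.presheaf.stalk x) (F.presheaf.stalk ξ) :=
  Module.compHom (F.presheaf.stalk ξ) (X.presheaf.stalkSpecializes h).hom

/-- The specialization map of stalks as a linear map. -/
noncomputable def spLinear {ξ x : X} (h : ξ ⤳ x) :
    letI := moduleSpec F h
    F.presheaf.stalk x →ₗ[X.presheaf.stalk x] F.presheaf.stalk ξ :=
  letI := moduleSpec F h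
  { toFun := fun m => F.presheaf.stalkSpecializes h m
    map_add' := fun a b => map_add _ a b
    map_smul' := fun a m => stalkSpecializes_smul F h a m }

theorem isUnit_stalkSpecializes_of_notMem {ξ x : X} (h : ξ ⤳ x) (a : X.presheaf.stalk x)
    (ha : a ∉ primeOf h) : IsUnit (X.presheaf.stalkSpecializes h a) := by
  by_contra hnu
  exact ha ((mem_maximalIdeal _).mpr hnu)

theorem notMem_primeOf_of_isUnit {ξ x : X} (h : ξ ⤳ x) (a : X.presheaf.stalk x)
    (ha : IsUnit (X.presheaf.stalkSpecializes h a)) : a ∉ primeOf h := by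
  intro hmem
  exact ((mem_maximalIdeal _).mp hmem) ha

theorem isLocalizedModule_spLinear [F.IsQuasicoherent] {ξ x : X} (h : ξ ⤳ x) :
    letI := moduleSpec F h
    IsLocalizedModule (primeOf h).primeCompl (spLinear F h) := by
  letI := moduleSpec F h
  obtain ⟨_, ⟨(U : X.Opens), hU, rfl⟩, hxU, -⟩ :=
    X.isBasis_affineOpens.exists_subset_of_mem_open (Set.mem_univ x) isOpen_univ
  have hξU : ξ ∈ U := h.mem_open U.2 hxU
  have hloc := isLocOn_of_isQuasicoherent F hU
  have hsm : ∀ (a : X.presheaf.stalk x) (μ : F.presheaf.stalk ξ),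
      a • μ = X.presheaf.stalkSpecializes h a • μ := fun a μ => rfl
  have hsp : ∀ m : F.presheaf.stalk x, spLinear F h m = F.presheaf.stalkSpecializes h m :=
    fun m => rfl
  refine ⟨fun s => ?_, fun μ => ?_, fun {m₁ m₂} he => ?_⟩
  · rw [Module.End.isUnit_iff]
    obtain ⟨v, hv⟩ := isUnit_stalkSpecializes_of_notMem h s.1 s.2
    refine ⟨fun a b hab => ?_, fun b => ⟨(↑v⁻¹ : X.presheaf.stalk ξ) • b, ?_⟩⟩
    · have h1 : X.presheaf.stalkSpecializes h s.1 • a =
          X.presheaf.stalkSpecializes h s.1 • b := hab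
      rw [← hv] at h1
      have := congrArg (fun t => (↑v⁻¹ : X.presheaf.stalk ξ) • t) h1
      simpa [smul_smul] using this
    · change X.presheaf.stalkSpecializes h s.1 • ((↑v⁻¹ : X.presheaf.stalk ξ) • b) = b
      rw [← hv, smul_smul, Units.mul_inv, one_smul]
  · obtain ⟨s, m, hs, hsm'⟩ := exists_germ_smul_eq F hU hloc ξ hξU μ
    have hsp' : X.presheaf.stalkSpecializes h (X.presheaf.germ U x hxU s) =
        X.presheaf.germ U ξ hξU s := TopCat.Presheaf.germ_stalkSpecializes_apply _ _ _ _
    have hmem : X.presheaf.germ U x hxU s ∈ (primeOf h).primeCompl := by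
      apply notMem_primeOf_of_isUnit h
      rw [hsp']
      exact hs
    refine ⟨⟨gm F U x hxU m, ⟨X.presheaf.germ U x hxU s, hmem⟩⟩, ?_⟩
    have e1 : X.presheaf.stalkSpecializes h (X.presheaf.germ U x hxU s) • μ =
        F.presheaf.stalkSpecializes h (gm F U x hxU m) := by
      rw [hsp', hsm']
      exact (TopCat.Presheaf.germ_stalkSpecializes_apply _ _ _ _).symm
    exact e1
  · have h0 : F.presheaf.stalkSpecializes h (m₁ - m₂) = 0 := by
      have h1 : F.presheaf.stalkSpecializes h (m₁ - m₂) =
          F.presheaf.stalkSpecializes h m₁ - F.presheaf.stalkSpecializes h m₂ := map_sub _ _ _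
      rw [h1, sub_eq_zero]
      exact he
    obtain ⟨s, n, hs, hsn⟩ := exists_germ_smul_eq F hU hloc x hxU (m₁ - m₂)
    have h2 : gm F U ξ hξU n = 0 := by
      have h3 : gm F U ξ hξU n = F.presheaf.stalkSpecializes h (gm F U x hxU n) :=
        (TopCat.Presheaf.germ_stalkSpecializes_apply _ _ _ _).symm
      rw [h3, ← hsn, stalkSpecializes_smul, h0, smul_zero]
    obtain ⟨s', hs', hs'n⟩ := exists_smul_eq_zero_of_gm_eq_zero F hU hloc ξ hξU n h2
    have hsp' : X.presheaf.stalkSpecializes h (X.presheaf.germ U x hxU s') =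
        X.presheaf.germ U ξ hξU s' := TopCat.Presheaf.germ_stalkSpecializes_apply _ _ _ _
    have hmem : X.presheaf.germ U x hxU s' * X.presheaf.germ U x hxU s ∈
        (primeOf h).primeCompl := by
      apply notMem_primeOf_of_isUnit h
      rw [map_mul, hsp']
      exact hs'.mul (hs.map _)
    refine ⟨⟨X.presheaf.germ U x hxU s' * X.presheaf.germ U x hxU s, hmem⟩, ?_⟩
    have e1 : (X.presheaf.germ U x hxU s' * X.presheaf.germ U x hxU s) • m₁ =
        (X.presheaf.germ U x hxU s' * X.presheaf.germ U x hxU s) • m₂ := by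
      rw [← sub_eq_zero, ← smul_sub, mul_smul, hsn, ← gm_smul, hs'n, gm_zero]
    exact e1

/-- The localization of `F_x` at the prime of a generization `ξ` is `F_ξ`, as `O_{X,x}`-modules. -/
noncomputable def locEquiv [F.IsQuasicoherent] {ξ x : X} (h : ξ ⤳ x) :
    letI := moduleSpec F h
    LocalizedModule (primeOf h).primeCompl (F.presheaf.stalk x) ≃ₗ[X.presheaf.stalk x]
      F.presheaf.stalk ξ :=
  letI := moduleSpec F h
  haveI := isLocalizedModule_spLinear F h
  IsLocalizedModule.iso (primeOf h).primeCompl (spLinear F h)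

theorem nontrivial_localizedModule_iff [F.IsQuasicoherent] {ξ x : X} (h : ξ ⤳ x) :
    Nontrivial (LocalizedModule (primeOf h).primeCompl (F.presheaf.stalk x)) ↔
      Nontrivial (F.presheaf.stalk ξ) := by
  letI := moduleSpec F h
  exact (locEquiv F h).toEquiv.nontrivial_congr

/-- The length of the localization of `F_x` at the prime of `ξ` is the length of `F_ξ`. -/
theorem length_localizedModule_stalk [F.IsQuasicoherent] {ξ x : X} (h : ξ ⤳ x) :
    Module.length (Localization.AtPrime (primeOf h))
      (LocalizedModule (primeOf h).primeCompl (F.presheaf.stalk x)) =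
    Module.length (X.presheaf.stalk ξ) (F.presheaf.stalk ξ) := by
  letI := (X.presheaf.stalkSpecializes h).hom.toAlgebra
  haveI := isLocalization_stalkSpecializes h
  letI := moduleSpec F h
  have halg : ∀ a : X.presheaf.stalk x, algebraMap (X.presheaf.stalk x) (X.presheaf.stalk ξ) a =
      X.presheaf.stalkSpecializes h a := fun a => rfl
  let σ : Localization.AtPrime (primeOf h) ≃ₐ[X.presheaf.stalk x] X.presheaf.stalk ξ :=
    IsLocalization.algEquiv (primeOf h).primeCompl (Localization.AtPrime (primeOf h))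
      (X.presheaf.stalk ξ)
  letI mq : Module (Localization.AtPrime (primeOf h)) (F.presheaf.stalk ξ) :=
    Module.compHom (F.presheaf.stalk ξ) (σ : Localization.AtPrime (primeOf h) →+*
      X.presheaf.stalk ξ)
  have hmq : ∀ (r : Localization.AtPrime (primeOf h)) (m : F.presheaf.stalk ξ),
      r • m = σ r • m := fun r m => rfl
  have hmx : ∀ (a : X.presheaf.stalk x) (m : F.presheaf.stalk ξ),
      a • m = X.presheaf.stalkSpecializes h a • m := fun a m => rfl
  haveI : IsScalarTower (X.presheaf.stalk x) (Localization.AtPrime (primeOf h))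
      (F.presheaf.stalk ξ) := by
    refine ⟨fun a r m => ?_⟩
    rw [hmq, hmx, hmq, Algebra.smul_def, map_mul, σ.commutes, halg, mul_smul]
  letI : Algebra (Localization.AtPrime (primeOf h)) (X.presheaf.stalk ξ) :=
    (σ : Localization.AtPrime (primeOf h) →+* X.presheaf.stalk ξ).toAlgebra
  haveI : IsScalarTower (Localization.AtPrime (primeOf h)) (X.presheaf.stalk ξ)
      (F.presheaf.stalk ξ) := by
    refine ⟨fun r b m => ?_⟩
    rw [hmq, Algebra.smul_def, mul_smul]
    rfl
  rw [((locEquiv F h).extendScalarsOfIsLocalization (primeOf h).primeCompl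
    (Localization.AtPrime (primeOf h))).length_eq]
  exact Module.length_eq_of_surjective (S := Localization.AtPrime (primeOf h))
    (R := X.presheaf.stalk ξ) σ.surjective

end Groth.Agent.Lib.Helper18.StalkLoc
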