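import Mathlib
import Groth.Prelude.Def_Cyc
import Groth.Prelude.Def_C1
import Groth.Prelude.Def_Pic
import Groth.Prelude.Def_Coh
import Groth.Agent.Lib.Helper18.Cyc.GysinFlat
import Groth.Agent.Lib.Helper18.Cyc.StalkLoc
import Groth.Agent.Lib.Helper18.Cyc.RegQuotLen
import Groth.Agent.Lib.Helper18.Cyc.PullSheaf
import Groth.Agent.Lib.Helper7.StalkFree

/-!
# The Gysin pullback of the cycle of a coherent sheaf
-/

set_option autoImplicit false
set_option maxHeartbeats 1000000
set_option linter.style.haveILetI false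
set_option linter.unusedSectionVars false
universe u
open AlgebraicGeometry CategoryTheory IsLocalRing TensorProduct Pointwise

namespace Groth.Agent.Lib.Helper18.GysinSheaf

open Groth.Agent.Lib.Helper18.CycDiv Groth.Agent.Lib.Helper18.C1Core
  Groth.Agent.Lib.Helper18.InvStalk Groth.Agent.Lib.Helper18.Push
  Groth.Agent.Lib.Helper18.CycPull Groth.Agent.Lib.Helper18.KeyGeo
  Groth.Agent.Lib.Helper13.StalkSpecLoc Groth.Agent.Lib.Helper24.LatDist
  Groth.Agent.Lib.Helper18.StalkLoc Groth.Agent.Lib.Helper18.GysinFlat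

theorem length_tensor_quot {R S : Type u} [CommRing R] [CommRing S] [Algebra R S]
    (hsurj : Function.Surjective (algebraMap R S)) (f : R)
    (hker : RingHom.ker (algebraMap R S) = Ideal.span {f}) (M : Type u) [AddCommGroup M]
    [Module R M] :
    Module.length S (S ⊗[R] M) = Module.length R (M ⧸ f • (⊤ : Submodule R M)) := by
  rw [← Module.length_eq_of_surjective (S := R) (R := S) (M := S ⊗[R] M) hsurj]
  have hsurj' : Function.Surjective (Algebra.ofId R S) := hsurj
  let e0 : (R ⧸ RingHom.ker (Algebra.ofId R S)) ≃ₗ[R] S :=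
    (Ideal.quotientKerAlgEquivOfSurjective hsurj').toLinearEquiv
  have hk : RingHom.ker (Algebra.ofId R S) = Ideal.span {f} := hker
  let e1 : (R ⧸ Ideal.span {f}) ≃ₗ[R] S :=
    (Submodule.quotEquivOfEq _ _ hk.symm).trans e0
  let e2 : S ⊗[R] M ≃ₗ[R] (R ⧸ Ideal.span {f}) ⊗[R] M :=
    TensorProduct.congr e1.symm (LinearEquiv.refl R M)
  let e3 := TensorProduct.quotTensorEquivQuotSMul M (Ideal.span {f})
  let e4 : (M ⧸ Ideal.span {f} • (⊤ : Submodule R M)) ≃ₗ[R] (M ⧸ f • (⊤ : Submodule R M)) :=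
    Submodule.quotEquivOfEq _ _ (Submodule.ideal_span_singleton_smul f ⊤)
  exact ((e2.trans e3).trans e4).length_eq

variable {X D : Scheme.{u}}

/-- The prime of `O_{X,x}` attached to a point (the maximal ideal for points not specializing
to `x`). -/
noncomputable def toPrime (x ξ : X) : PrimeSpectrum (X.presheaf.stalk x) := by
  classical
  exact if h : ξ ⤳ x then ⟨primeOf h, inferInstance⟩ else IsLocalRing.closedPoint _

theorem toPrime_eq {x ξ : X} (h : ξ ⤳ x) : toPrime x ξ = ⟨primeOf h, inferInstance⟩ := by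
  unfold toPrime
  rw [dif_pos h]

theorem primeOf_eq_maximalIdeal_of_eq {x ξ : X} (h : ξ ⤳ x) (e : ξ = x) :
    primeOf h = maximalIdeal (X.presheaf.stalk x) := by
  subst e
  exact primeOf_rfl _

section main

variable (δ : X → ℤ) (hX : Cyc.IsSetup X δ) (F : X.Modules) [F.IsQuasicoherent]
  (k : ℤ) (hdim : ∀ x : X, Nontrivial (F.presheaf.stalk x) → δ x ≤ k + 1)

theorem mem_support_iff {x ξ : X} (h : ξ ⤳ x) :
    (⟨primeOf h, inferInstance⟩ : PrimeSpectrum (X.presheaf.stalk x)) ∈
      Module.support (X.presheaf.stalk x) (F.presheaf.stalk x) ↔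
      Nontrivial (F.presheaf.stalk ξ) := by
  rw [Module.mem_support_iff]
  exact nontrivial_localizedModule_iff F h

include hX hdim in
theorem supportDim_stalk_le_one (x : X) (hx : δ x = k) :
    Module.supportDim (X.presheaf.stalk x) (F.presheaf.stalk x) ≤ 1 := by
  unfold Module.supportDim
  rw [Order.krullDim_le_one_iff]
  rintro ⟨p, hp⟩
  haveI := p.isPrime
  obtain ⟨ξ, h, hpξ⟩ := exists_primeOf_eq x p.asIdeal
  have hpeq : p = ⟨primeOf h, inferInstance⟩ := PrimeSpectrum.ext hpξ.symm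
  by_cases hne : ξ = x
  · right
    intro q _
    show q.1 ≤ p
    rw [hpeq]
    show q.1.asIdeal ≤ primeOf h
    rw [primeOf_eq_maximalIdeal_of_eq h hne]
    exact IsLocalRing.le_maximalIdeal q.1.isPrime.ne_top
  · left
    intro q hqp
    haveI := q.1.isPrime
    obtain ⟨ξ', h', hq⟩ := exists_primeOf_eq x q.1.asIdeal
    have hqeq : q.1 = ⟨primeOf h', inferInstance⟩ := PrimeSpectrum.ext hq.symm
    have hle : primeOf h' ≤ primeOf h := by
      have : q.1 ≤ p := hqp
      rw [hqeq, hpeq] at this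
      exact this
    have hspec : ξ' ⤳ ξ := specializes_of_primeOf_le h' h hle
    have hnt : Nontrivial (F.presheaf.stalk ξ') := by
      rw [← mem_support_iff F h', ← hqeq]
      exact q.2
    have h1 := hdim ξ' hnt
    have h2 := (hX.2.2 ξ x h hne).1
    have hξ : ξ' = ξ := by
      by_contra hne'
      have h3 := (hX.2.2 ξ' ξ hspec hne').1
      omega
    show p ≤ q.1
    rw [hqeq, hpeq]
    show primeOf h ≤ primeOf h'
    exact (primeOf_congr hξ.symm h h').le

theorem bijOn_toPrime (x : X) :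
    Set.BijOn (toPrime x) {ξ | ξ ⤳ x ∧ ξ ≠ x ∧ Nontrivial (F.presheaf.stalk ξ)}
      {p | p ∈ Module.support (X.presheaf.stalk x) (F.presheaf.stalk x) ∧
        p.asIdeal ≠ maximalIdeal (X.presheaf.stalk x)} := by
  refine ⟨?_, ?_, ?_⟩
  · rintro ξ ⟨h, hne, hnt⟩
    rw [toPrime_eq h]
    exact ⟨(mem_support_iff F h).2 hnt, primeOf_ne_maximalIdeal h hne⟩
  · rintro ξ₁ ⟨h₁, -, -⟩ ξ₂ ⟨h₂, -, -⟩ he
    rw [toPrime_eq h₁, toPrime_eq h₂] at he
    exact eq_of_primeOf_eq h₁ h₂ (congrArg PrimeSpectrum.asIdeal he)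
  · rintro p ⟨hp, hpm⟩
    haveI := p.isPrime
    obtain ⟨ξ, h, hpξ⟩ := exists_primeOf_eq x p.asIdeal
    have hpeq : p = ⟨primeOf h, inferInstance⟩ := PrimeSpectrum.ext hpξ.symm
    refine ⟨ξ, ⟨h, ?_, ?_⟩, ?_⟩
    · intro e
      exact hpm (hpξ ▸ primeOf_eq_maximalIdeal_of_eq h e)
    · rw [← mem_support_iff F h, ← hpeq]
      exact hp
    · rw [toPrime_eq h, hpeq]

end main

section gysin

variable (δ : X → ℤ) (hX : Cyc.IsSetup X δ) (L : X.Modules) (hL : PicF.IsInvertible L)
  (s : L.presheaf.obj (Opposite.op ⊤)) (i : D ⟶ X) [IsClosedImmersion i]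
  (hD : Cyc.IsZeroSchemeOf i L s) (k : ℤ) (F : X.Modules) (hF : Coh.IsCoh F)
  (hdim : ∀ x : X, Nontrivial (F.presheaf.stalk x) → δ x ≤ k + 1)
  (hreg : ∀ (x : X) (t : L.presheaf.stalk x) (f : X.presheaf.stalk x),
    Submodule.span (X.presheaf.stalk x) {t} = ⊤ → (L.presheaf.germ ⊤ x trivial) s = f • t →
      Function.Injective (fun m : F.presheaf.stalk x => f • m))
  (w : (ξ : X) → Cyc.secFibre L ξ)

include hF in
/-- the length of the stalk of the restriction to the zero scheme -/
theorem length_stalk_pullback_zeroScheme (d : D) (f : X.presheaf.stalk (i d))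
    (hker : RingHom.ker (i.stalkMap d).hom = Ideal.span {f}) :
    Module.length (D.presheaf.stalk d) (((Scheme.Modules.pullback i).obj F).presheaf.stalk d) =
      Module.length (X.presheaf.stalk (i d)) (F.presheaf.stalk (i d) ⧸
        f • (⊤ : Submodule (X.presheaf.stalk (i d)) (F.presheaf.stalk (i d)))) := by
  haveI : F.IsQuasicoherent := hF.1
  letI := (i.stalkMap d).hom.toAlgebra
  obtain ⟨e⟩ := Groth.Agent.Lib.Helper17.ModStalk.nonempty_linearEquiv_stalk_pullback i F d
  rw [e.length_eq]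
  exact length_tensor_quot (i.stalkMap_surjective d) f hker _

include hX hL hD hF hdim hreg in
/-- **Pointwise identity** for the Gysin pullback of the cycle of a coherent module. -/
theorem gysin_sheaf_pointwise (d : D) :
    Cyc.c1CapFun δ L (Cyc.sheafFun δ (k + 1) F) (Cyc.gysinChoice L s w) (i d) =
      Cyc.sheafFun (fun d => δ (i d)) k ((Scheme.Modules.pullback i).obj F) d := by
  classical
  haveI : IsLocallyNoetherian X := hX.1
  haveI : F.IsQuasicoherent := hF.1
  have hdimX := hX.2.2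
  by_cases hk : δ (i d) = k
  · obtain ⟨t, f, ht, hs, hker⟩ := hD.2 d
    haveI : Module.Finite (X.presheaf.stalk (i d)) (F.presheaf.stalk (i d)) :=
      Groth.Agent.Lib.Helper7.StalkFree.finite_stalk_of_isCoh X F hF (i d)
    have hinj : IsSMulRegular (F.presheaf.stalk (i d)) f := hreg (i d) t f ht hs
    have hfm : f ∈ maximalIdeal (X.presheaf.stalk (i d)) := by
      rw [IsLocalRing.mem_maximalIdeal, mem_nonunits_iff]
      intro hu
      have h0 : (i.stalkMap d).hom f = 0 := by
        have : f ∈ RingHom.ker (i.stalkMap d).hom := by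
          rw [hker]
          exact Ideal.mem_span_singleton_self f
        exact RingHom.mem_ker.1 this
      have hu' := hu.map (i.stalkMap d).hom
      rw [h0] at hu'
      exact not_isUnit_zero hu'
    have hsd := supportDim_stalk_le_one δ hX F k hdim (i d) hk
    obtain ⟨hnot, hlen⟩ := length_quot_regular_eq_finsum (X.presheaf.stalk (i d))
      (F.presheaf.stalk (i d)) f hfm hinj hsd
    have hR : Cyc.sheafFun (fun d => δ (i d)) k ((Scheme.Modules.pullback i).obj F) d =
        ((Module.length (X.presheaf.stalk (i d)) (F.presheaf.stalk (i d) ⧸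
          f • (⊤ : Submodule (X.presheaf.stalk (i d)) (F.presheaf.stalk (i d))))).toNat : ℤ) := by
      unfold Cyc.sheafFun
      rw [if_pos hk, length_stalk_pullback_zeroScheme i F hF d f hker]
    rw [hR, hlen]
    unfold Cyc.c1CapFun
    have hsupp : Function.support (fun ξ : X => Cyc.sheafFun δ (k + 1) F ξ *
        Cyc.secDivFun δ L ξ (Cyc.gysinChoice L s w ξ) (i d)) ⊆
        {ξ | ξ ⤳ i d ∧ ξ ≠ i d ∧ Nontrivial (F.presheaf.stalk ξ)} := by
      intro ξ hξ
      have h1 : Cyc.sheafFun δ (k + 1) F ξ ≠ 0 := left_ne_zero_of_mul hξ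
      have h2 : Cyc.secDivFun δ L ξ (Cyc.gysinChoice L s w ξ) (i d) ≠ 0 :=
        right_ne_zero_of_mul hξ
      have h3 : ξ ⤳ i d ∧ δ (i d) + 1 = δ ξ := by
        by_contra hc
        apply h2
        unfold Cyc.secDivFun
        rw [dif_neg hc]
      refine ⟨h3.1, ?_, ?_⟩
      · intro e
        have := h3.2
        rw [e] at this
        omega
      · by_contra hnt
        rw [not_nontrivial_iff_subsingleton] at hnt
        apply h1
        unfold Cyc.sheafFun
        split_ifs
        · have : Module.length (X.presheaf.stalk ξ) (F.presheaf.stalk ξ) = 0 :=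
            Module.length_eq_zero_iff.2 hnt
          rw [this]
          rfl
        · rfl
    have hR2 := finsum_mem_inter_support_eq' (fun ξ : X => Cyc.sheafFun δ (k + 1) F ξ *
        Cyc.secDivFun δ L ξ (Cyc.gysinChoice L s w ξ) (i d)) Set.univ
      {ξ | ξ ⤳ i d ∧ ξ ≠ i d ∧ Nontrivial (F.presheaf.stalk ξ)}
      (fun ξ hξ => ⟨fun _ => hsupp hξ, fun _ => trivial⟩)
    rw [finsum_mem_univ] at hR2
    rw [hR2]
    refine finsum_mem_eq_of_bijOn (toPrime (i d)) (bijOn_toPrime F (i d)) ?_
    rintro ξ ⟨h, hne, hnt⟩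
    have hmemS := (bijOn_toPrime F (i d)).mapsTo (show ξ ∈ {ξ | ξ ⤳ i d ∧ ξ ≠ i d ∧
      Nontrivial (F.presheaf.stalk ξ)} from ⟨h, hne, hnt⟩)
    have hfp : f ∉ primeOf h := by
      have := hnot _ hmemS.1 hmemS.2
      rwa [toPrime_eq h] at this
    have h1 := hdim ξ hnt
    have h2 := (hdimX ξ (i d) h hne).1
    have hδξ : δ (i d) + 1 = δ ξ := by omega
    have hd := krullDimLE_one_locQuot δ hdimX h hδξ
    have hne' : Cyc.specMap (i d) ξ h f ≠ 0 := by
      intro h0
      apply hfp
      rw [← ker_specMap h]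
      exact RingHom.mem_ker.2 h0
    have hfree := freeGen_of_span_eq_top L hL ht
    have hmk : (Submodule.Quotient.mk ((L.presheaf.germ ⊤ ξ trivial) s) :
        Cyc.secFibre L ξ) ≠ 0 := by
      rw [mk_germ_eq_smul L s h t f hs, ← Submodule.Quotient.mk_smul, ne_eq,
        mk_smul_eq_zero_iff L (freeGen_stalkSpecializes L hL h ht)]
      exact fun hmem => hfp hmem
    have hsec : Cyc.secDivFun δ L ξ (Cyc.gysinChoice L s w ξ) (i d) =
        Cyc.secOrdAt L ξ (i d) h
          (Submodule.Quotient.mk ((L.presheaf.germ ⊤ ξ trivial) s) : Cyc.secFibre L ξ) := by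
      unfold Cyc.secDivFun
      rw [dif_pos ⟨h, hδξ⟩, gysinChoice_of_ne_zero L s w ξ hmk]
    have hsh : Cyc.sheafFun δ (k + 1) F ξ =
        ((Module.length (X.presheaf.stalk ξ) (F.presheaf.stalk ξ)).toNat : ℤ) := by
      unfold Cyc.sheafFun
      rw [if_pos (by omega)]
    have hord : Ring.ord (X.presheaf.stalk (i d) ⧸ primeOf h)
        (Ideal.Quotient.mk (primeOf h) f) =
        Ring.ord (Cyc.LocQuot (i d) ξ h)
          (Ideal.Quotient.mk (RingHom.ker (Cyc.specMap (i d) ξ h)) f) :=
      ord_eq_of_ringEquiv (Ideal.quotEquivOfEq (ker_specMap h).symm) _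
    rw [hsec, secOrdAt_mk_germ L hL s h hd hfree f hs hne', ordAt_specMap h hd f hne', hsh,
      toPrime_eq h]
    show _ = ((Ring.ord (X.presheaf.stalk (i d) ⧸ primeOf h)
        (Ideal.Quotient.mk (primeOf h) f)).toNat : ℤ) *
      ((Module.length (Localization.AtPrime (primeOf h))
        (LocalizedModule (primeOf h).primeCompl (F.presheaf.stalk (i d)))).toNat : ℤ)
    rw [hord, length_localizedModule_stalk F h]
    ring
  · have hL0 : Cyc.c1CapFun δ L (Cyc.sheafFun δ (k + 1) F) (Cyc.gysinChoice L s w) (i d) = 0 := by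
      unfold Cyc.c1CapFun
      refine finsum_eq_zero_of_forall_eq_zero fun ξ => ?_
      by_contra hne
      have h1 : Cyc.sheafFun δ (k + 1) F ξ ≠ 0 := left_ne_zero_of_mul hne
      have h2 : Cyc.secDivFun δ L ξ (Cyc.gysinChoice L s w ξ) (i d) ≠ 0 :=
        right_ne_zero_of_mul hne
      have h3 : ξ ⤳ i d ∧ δ (i d) + 1 = δ ξ := by
        by_contra hc
        apply h2
        unfold Cyc.secDivFun
        rw [dif_neg hc]
      have h4 : δ ξ = k + 1 := by
        by_contra hc
        apply h1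
        unfold Cyc.sheafFun
        rw [if_neg hc]
      apply hk
      omega
    have hR0 : Cyc.sheafFun (fun d => δ (i d)) k ((Scheme.Modules.pullback i).obj F) d = 0 := by
      unfold Cyc.sheafFun
      rw [if_neg hk]
    rw [hL0, hR0]

include hX hL hD hF hdim hreg in
/-- **The Gysin pullback of the cycle of a coherent module** (library form). -/
theorem gysin_sheaf_ratEquiv (γ ζ : AlgebraicCycle D ℤ)
    (hγ : ∀ d, γ d = Cyc.c1CapFun δ L (Cyc.sheafFun δ (k + 1) F) (Cyc.gysinChoice L s w) (i d))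
    (hζ : ⇑ζ = Cyc.sheafFun (fun d => δ (i d)) k ((Scheme.Modules.pullback i).obj F)) :
    Cyc.RatEquiv (fun d => δ (i d)) k γ ζ := by
  refine RatPres.ratEquivZero (S := Set.univ) (γ - ζ) ((ratPres_zero _ _ Set.univ).congr fun d => ?_)
  show 0 = γ d - ζ d
  rw [hγ d, hζ, gysin_sheaf_pointwise δ hX L hL s i hD k F hF hdim hreg w d, sub_self]

end gysin

end Groth.Agent.Lib.Helper18.GysinSheaf
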