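import Groth.Agent.Lib.Helper18.Cyc.PullBC

set_option autoImplicit false
set_option linter.style.haveILetI false
universe u
open AlgebraicGeometry CategoryTheory TensorProduct IsLocalRing

namespace Groth.Agent.Lib.Helper18.CycPull

/-- Every point has a generization in its fibre which is maximal in the fibre. -/
theorem exists_isMax_in_fibre {X' X : Scheme.{u}} (p : X' ⟶ X) (x' : X') :
    ∃ y' : X', p y' = p x' ∧ y' ⤳ x' ∧ ∀ z, p z = p y' → z ⤳ y' → z = y' := by
  obtain ⟨η, hle, hmax⟩ := Groth.Agent.Lib.lead.FibreOrder.exists_isMax_ge (p.asFiber x')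
  have hrange : ∀ ζ : ↥(p.fiber (p x')), p (p.fiberι (p x') ζ) = p x' := fun ζ => by
    have : p.fiberι (p x') ζ ∈ Set.range (p.fiberι (p x')) := ⟨ζ, rfl⟩
    rw [p.range_fiberι] at this
    exact this
  refine ⟨p.fiberι (p x') η, hrange η, ?_, ?_⟩
  · have h1 : η ⤳ p.asFiber x' := Scheme.le_iff_specializes.1 hle
    have h2 := h1.map (p.fiberι (p x')).continuous
    rw [p.fiberι_asFiber] at h2
    exact h2
  · intro z hz hsp
    have hz' : z ∈ Set.range (p.fiberι (p x')) := by
      rw [p.range_fiberι]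
      exact hz.trans (hrange η)
    obtain ⟨ζ, rfl⟩ := hz'
    have h1 : ζ ⤳ η := (p.fiberι (p x')).isEmbedding.isInducing.specializes_iff.1 hsp
    have h2 : η ≤ ζ := Scheme.le_iff_specializes.2 h1
    have h3 : ζ ≤ η := hmax h2
    have h4 : η ⤳ ζ := Scheme.le_iff_specializes.1 h3
    rw [(h1.antisymm h4).eq]

theorem pullFun_sheafFun_bc {X X' : Scheme.{u}} (p : X' ⟶ X) [Flat p] (δ : X → ℤ) (δ' : X' → ℤ)
    [IsLocallyNoetherian X'] (hdec : ∀ a b : X', a ⤳ b → δ' b ≤ δ' a) (c : ℤ)
    (hc : ∀ x' : X', (∀ y, p y = p x' → y ⤳ x' → y = x') → δ' x' = δ (p x') + c) (k : ℤ)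
    (F : X.Modules) [F.IsQuasicoherent]
    (hdim : ∀ x : X, Nontrivial (F.presheaf.stalk x) → δ x ≤ k) :
    (∀ x' : X', Nontrivial (((Scheme.Modules.pullback p).obj F).presheaf.stalk x') →
        δ' x' ≤ k + c) ∧
      Cyc.pullFun p δ' δ c (Cyc.sheafFun δ k F) =
        Cyc.sheafFun δ' (k + c) ((Scheme.Modules.pullback p).obj F) := by
  refine ⟨fun x' hx' => ?_, ?_⟩
  · have h1 := hdim _ (nontrivial_stalk_of_nontrivial_stalk_pullback p F x' hx')
    obtain ⟨y', hy'1, hy'2, hy'3⟩ := exists_isMax_in_fibre p x'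
    have h2 := hc y' hy'3
    have h3 := hdec y' x' hy'2
    rw [hy'1] at h2
    omega
  · funext x'
    have hlen := length_stalk_pullback p F x'
    have hlen' := congrArg ENat.toNat hlen
    rw [ENat.toNat_mul] at hlen'
    unfold Cyc.pullFun Cyc.sheafFun
    simp only
    rw [hlen']
    by_cases hℓ : Module.length (X'.presheaf.stalk x') (X'.presheaf.stalk x' ⧸
        Ideal.map (p.stalkMap x').hom (maximalIdeal (X.presheaf.stalk (p x')))) = ⊤
    · rw [hℓ]
      simp
    · have hmax := (length_ne_top_iff_isMax p x').1 hℓ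
      have h1 := hc x' hmax
      rw [if_pos h1]
      by_cases h2 : δ (p x') = k
      · have h3 : δ' x' = k + c := by omega
        rw [if_pos h2, if_pos h3]
        push_cast
        ring
      · have h3 : ¬ δ' x' = k + c := by omega
        rw [if_neg h2, if_neg h3, zero_mul]

end Groth.Agent.Lib.Helper18.CycPull
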