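import Mathlib
import Groth.Prelude.Def_Cyc
import Groth.Agent.Lib.Helper13.StalkSpecLoc
import Groth.Agent.Lib.Helper21.CatKit2
import Groth.Agent.Lib.helper19.RegularLocal

set_option autoImplicit false
universe u
open AlgebraicGeometry CategoryTheory IsLocalRing Order
open Groth.Agent.Lib.Helper13.StalkSpecLoc Groth.Agent.Lib.Helper21

namespace Groth.Agent.Lib.Helper18.CycPull

/-- On a locally Noetherian scheme with regular, catenary local rings, minus the dimension of the
local ring is a dimension function. -/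
theorem isDimFun_neg_stalkDim (S : Scheme.{u}) [IsLocallyNoetherian S]
    (hreg : ∀ s : S, IsRegularLocalRing (S.presheaf.stalk s))
    (hcat : ∀ s : S, CAlg.IsCatenary (S.presheaf.stalk s))
    (δS : S → ℤ) (hδS : ∀ s : S, ringKrullDim (S.presheaf.stalk s) =
      ((-δS s).toNat : WithBot ℕ∞) ∧ δS s ≤ 0) :
    Cyc.IsDimFun S δS := by
  intro x y hxy hne
  haveI := hreg y
  haveI : IsDomain (S.presheaf.stalk y) :=
    Groth.Agent.Lib.helper19.isDomain_of_isRegularLocalRing (S.presheaf.stalk y)
  set p : PrimeSpectrum (S.presheaf.stalk y) := ⟨primeOf hxy, inferInstance⟩ with hp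
  have hpne : p ≠ closedPoint (S.presheaf.stalk y) := by
    intro h
    exact primeOf_ne_maximalIdeal hxy hne (congrArg PrimeSpectrum.asIdeal h)
  have hplt : p < closedPoint (S.presheaf.stalk y) :=
    lt_of_le_of_ne (IsLocalRing.le_maximalIdeal p.2.ne_top) hpne
  obtain ⟨p₀, hp₀min, -, hform⟩ := CatKit.exists_minimalPrimes_height_add_dim (hcat y) p
  have hp₀ : p₀.asIdeal = ⊥ := by
    rw [IsDomain.minimalPrimes_eq_singleton_bot] at hp₀min
    exact hp₀min
  have hdimx : ringKrullDim (S.presheaf.stalk x) = (p.asIdeal.height : WithBot ℕ∞) :=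
    ringKrullDim_stalk_eq_height_primeOf hxy
  have hdimy : ringKrullDim (S.presheaf.stalk y ⧸ p₀.asIdeal) =
      ringKrullDim (S.presheaf.stalk y) := by
    rw [hp₀]
    exact (RingEquiv.quotientBot (S.presheaf.stalk y)).ringKrullDim
  rw [hdimy, ← hdimx, (hδS x).1, (hδS y).1, CatKit.ringKrullDim_quotient_eq_coheight] at hform
  have hc : (((-δS x).toNat : ℕ) : ℕ∞) + coheight p = (((-δS y).toNat : ℕ) : ℕ∞) := by
    exact_mod_cast hform
  have hctop : coheight p ≠ ⊤ := by
    intro h
    rw [h, add_top] at hc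
    exact ENat.top_ne_coe _ hc
  obtain ⟨n, hn⟩ := ENat.ne_top_iff_exists.mp hctop
  rw [← hn] at hc
  have hnat : (-δS x).toNat + n = (-δS y).toNat := by exact_mod_cast hc
  have hn1 : 1 ≤ n := by
    have h1 : coheight (closedPoint (S.presheaf.stalk y)) + 1 ≤ coheight p :=
      Order.coheight_add_one_le hplt
    have h2 : (1 : ℕ∞) ≤ coheight p := le_trans le_add_self h1
    rw [← hn] at h2
    exact_mod_cast h2
  have hx0 := (hδS x).2
  have hy0 := (hδS y).2
  refine ⟨by omega, fun himm => ?_⟩
  -- immediate specialisation: `p` is covered by the closed point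
  have hcov : p ⋖ closedPoint (S.presheaf.stalk y) := by
    refine ⟨hplt, fun q hpq hqm => ?_⟩
    obtain ⟨ζ, hζ, hζq⟩ := exists_primeOf_eq y q.asIdeal
    have hemb := (S.fromSpecStalk y).isEmbedding
    have hq' : (⟨primeOf hζ, inferInstance⟩ : PrimeSpectrum (S.presheaf.stalk y)) = q :=
      PrimeSpectrum.ext hζq
    have hxζ : x ⤳ ζ := by
      rw [← fromSpecStalk_primeOf hxy, ← fromSpecStalk_primeOf hζ, hq']
      exact ((PrimeSpectrum.le_iff_specializes _ _).mp hpq.le).map (S.fromSpecStalk y).continuous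
    rcases himm ζ hxζ hζ with h | h
    · subst h
      exact hpq.ne (by rw [← hq'])
    · subst h
      have : q = closedPoint (S.presheaf.stalk ζ) := by
        rw [← hq']
        apply hemb.injective
        rw [fromSpecStalk_primeOf, Scheme.fromSpecStalk_closedPoint]
      exact hqm.ne this
  have h1 := CatKit.ringKrullDim_quotient_of_covBy (hcat y) hcov
  rw [CatKit.ringKrullDim_quotient_eq_coheight, CatKit.ringKrullDim_quotient_eq_coheight] at h1
  have hcm : coheight (closedPoint (S.presheaf.stalk y)) = 0 := by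
    rw [Order.coheight_eq_zero]
    intro b hb
    exact IsLocalRing.le_maximalIdeal b.2.ne_top
  rw [hcm, ← hn] at h1
  have hn' : n = 1 := by
    have : ((n : ℕ∞) : WithBot ℕ∞) = ((1 : ℕ∞) : WithBot ℕ∞) := by simpa using h1
    exact_mod_cast this
  omega

end Groth.Agent.Lib.Helper18.CycPull
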